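import Cfsg.Prelude.Def_KGroupFacts
import Mathlib

/-!
A perfect group all whose central extensions split gives the Schur multiplier of its central quotients.
-/

set_option autoImplicit false

namespace CfsgLib.Steinberg

open scoped commutatorElement

universe u v

/-- every central extension splits -/
def Splits (C : Type u) [Group C] : Prop :=
  ∀ (X : Type u) [Group X] (q : X →* C), Function.Surjective q → q.ker ≤ Subgroup.center X →
    ∃ τ : C →* X, q.comp τ = MonoidHom.id _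

theorem hasMultiplier {C G : Type u} [Group C] [Finite C] [Group G] {A : Type v} [CommGroup A]
    (hs : Splits C) (hperf : commutator C = ⊤) (σ : C →* G) (hσ : Function.Surjective σ)
    (hker : σ.ker ≤ Subgroup.center C) (e : σ.ker ≃* A) : Cfsg.HasSchurMultiplier G A := by
  refine ⟨⟨C, inferInstance, inferInstance, σ, ⟨hσ, hker, hperf ▸ le_top⟩, ⟨e⟩⟩,
    fun Γ _ _ σ' hσ' => ?_⟩
  obtain ⟨hsur, hc, hcomm⟩ := hσ'
  let S : Subgroup (Γ × C) :=
    MonoidHom.eqLocus (σ'.comp (MonoidHom.fst Γ C)) (σ.comp (MonoidHom.snd Γ C))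
  let q : S →* C := (MonoidHom.snd Γ C).comp S.subtype
  have hS : ∀ x : S, σ' x.1.1 = σ x.1.2 := fun x => x.2
  obtain ⟨τ, hτ⟩ := hs S q
    (fun y => by obtain ⟨x, hx⟩ := hsur (σ y); exact ⟨⟨(x, y), hx⟩, rfl⟩)
    (fun z hz => by
      rw [Subgroup.mem_center_iff]
      intro w
      have h2 : z.1.2 = 1 := hz
      have h1 : z.1.1 ∈ Subgroup.center Γ := hc (by rw [MonoidHom.mem_ker, hS z, h2, map_one])
      refine Subtype.ext (Prod.ext (Subgroup.mem_center_iff.1 h1 _) ?_)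
      show w.1.2 * z.1.2 = z.1.2 * w.1.2
      rw [h2, mul_one, one_mul])
  let φ : C →* Γ := (MonoidHom.fst Γ C).comp (S.subtype.comp τ)
  have hφ : ∀ x, σ' (φ x) = σ x := fun x => by
    show σ' (τ x).1.1 = σ x
    rw [hS]
    exact congrArg σ (DFunLike.congr_fun hτ x)
  have hdec : ∀ y : Γ, ∃ c, ∃ z ∈ Subgroup.center Γ, y = φ c * z := fun y => by
    obtain ⟨c, hc'⟩ := hσ (σ' y)
    exact ⟨c, (φ c)⁻¹ * y, hc (by simp [MonoidHom.mem_ker, hφ, hc']), by group⟩
  have hrange : commutator Γ ≤ φ.range := by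
    rw [commutator_def, Subgroup.commutator_le]
    intro x _ y _
    obtain ⟨a, z, hz, rfl⟩ := hdec x
    obtain ⟨b, w, hw, rfl⟩ := hdec y
    refine ⟨⁅a, b⁆, ?_⟩
    have hz' := Subgroup.mem_center_iff.1 hz
    have hw' := Subgroup.mem_center_iff.1 hw
    rw [map_commutatorElement]
    simp only [commutatorElement_def, _root_.mul_inv_rev]
    symm
    calc φ a * z * (φ b * w) * (z⁻¹ * (φ a)⁻¹) * (w⁻¹ * (φ b)⁻¹)
        = φ a * (φ b * (w * (φ a)⁻¹)) * w⁻¹ * (φ b)⁻¹ := by
          rw [show φ a * z * (φ b * w) = φ a * (φ b * w * z) by rw [mul_assoc, ← hz' (φ b * w)]]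
          group
      _ = _ := by rw [← hw' (φ a)⁻¹]; group
  let π : σ.ker →* σ'.ker := (φ.comp σ.ker.subtype).codRestrict σ'.ker fun x =>
    (hφ x.1).trans x.2
  have hπ : Function.Surjective π := fun z => ?_
  · exact ⟨π.comp e.symm.toMonoidHom, hπ.comp e.symm.surjective⟩
  obtain ⟨c, hc'⟩ := hrange (hcomm z.2)
  exact ⟨⟨c, by rw [MonoidHom.mem_ker, ← hφ, hc']; exact z.2⟩, Subtype.ext hc'⟩

end CfsgLib.Steinberg
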