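import Cfsg.Agent.Lib.Schur.Basic

/-!
A group whose Sylow subgroups have no kernel in the commutator of their preimages has trivial multiplier.
-/

set_option autoImplicit false

namespace CfsgLib.Schur

open Subgroup Cfsg
open scoped commutatorElement

universe u v

/-- In a central extension of a group with trivial multiplier the kernel meets the commutator
subgroup trivially. -/
theorem ker_inf_commutator_eq_bot {Q : Type*} [Group Q] [Finite Q] {X : Type v} [Group X]
    (h : HasCyclicSchurMultiplier Q 1) (ξ : X →* Q) (hsurj : Function.Surjective ξ)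
    (hc : ξ.ker ≤ center X) : ξ.ker ⊓ _root_.commutator X = ⊥ := by
  obtain ⟨f, hf⟩ := exists_lift ξ hsurj hc (MonoidHom.id Q)
  rw [MonoidHom.id_comp] at hf
  rw [← map_multiplier ξ hc f hf, hasCyclicSchurMultiplier_one_iff.1 h, Subgroup.map_bot]

/-- A central extension of a cyclic group is abelian. -/
theorem commute_of_map_cyclic {Q : Type u} [Group Q] {X : Type v} [Group X] (σ : X →* Q)
    (hc : σ.ker ≤ center X) {S : Subgroup Q} (hS : IsCyclic S) {x y : X} (hx : σ x ∈ S) (hy : σ y ∈ S) :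
    x * y = y * x := by
  let f : S.comap σ →* S := (σ.comp (S.comap σ).subtype).codRestrict S fun z => z.2
  have h := commutative_of_cyclic_center_quotient f (fun z hz => by
    have hz' : (z : X) ∈ σ.ker := congrArg Subtype.val (MonoidHom.mem_ker.1 hz)
    rw [mem_center_iff]
    exact fun w => Subtype.ext (mem_center_iff.1 (hc hz') w)) ⟨x, hx⟩ ⟨y, hy⟩
  exact congrArg Subtype.val h

/-- The condition at a cyclic Sylow subgroup. -/
theorem sylow_condition_of_cyclic {Q : Type u} [Group Q] {X : Type v} [Group X] (σ : X →* Q)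
    (hc : σ.ker ≤ center X) {S : Subgroup Q} (hS : IsCyclic S) (x : X)
    (hx : x ∈ ⁅S.comap σ, S.comap σ⁆) : x = 1 := by
  rw [← mem_bot]
  refine Subgroup.commutator_le.2 ?_ hx
  intro a ha b hb
  rw [mem_bot, commutatorElement_eq_one_iff_mul_comm]
  exact commute_of_map_cyclic σ hc hS ha hb

/-- The condition at a Sylow subgroup with trivial multiplier. -/
theorem sylow_condition_of_trivial {Q : Type u} [Group Q] {X : Type v} [Group X] (σ : X →* Q)
    (hsurj : Function.Surjective σ) (hc : σ.ker ≤ center X) {S : Subgroup Q}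
    {R : Type*} [Group R] [Finite R] (e : S ≃* R) (hR : HasCyclicSchurMultiplier R 1)
    (x : X) (hx : x ∈ ⁅S.comap σ, S.comap σ⁆) (hk : x ∈ σ.ker) : x = 1 := by
  let f₀ : S.comap σ →* S := (σ.comp (S.comap σ).subtype).codRestrict S fun z => z.2
  let f : S.comap σ →* R := e.toMonoidHom.comp f₀
  have hf : Function.Surjective f := e.surjective.comp fun s => by
    obtain ⟨z, hz⟩ := hsurj s
    exact ⟨⟨z, show σ z ∈ S by rw [hz]; exact s.2⟩, Subtype.ext hz⟩
  have hfc : f.ker ≤ center (S.comap σ) := fun z hz => by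
    have hz' : (z : X) ∈ σ.ker :=
      congrArg Subtype.val (e.map_eq_one_iff.1 (MonoidHom.mem_ker.1 hz) : f₀ z = 1)
    rw [mem_center_iff]
    exact fun w => Subtype.ext (mem_center_iff.1 (hc hz') w)
  rw [← Subgroup.map_subtype_commutator] at hx
  obtain ⟨z, hz, rfl⟩ := hx
  have h0 : z ∈ f.ker ⊓ _root_.commutator (S.comap σ) :=
    ⟨e.map_eq_one_iff.2 (Subtype.ext hk : f₀ z = 1), hz⟩
  rw [ker_inf_commutator_eq_bot hR f hf hfc, mem_bot] at h0
  rw [h0]
  rfl

/-- A finite group has trivial multiplier when, in each of its finite central extensions, the kernel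
meets the commutator of each Sylow preimage trivially. -/
theorem hasCyclicSchurMultiplier_one_of_sylow {Q : Type u} [Group Q] [Finite Q]
    (h : ∀ (p : ℕ) [Fact p.Prime], ∃ S : Sylow p Q, ∀ (Γ : Type u) [Group Γ] [Finite Γ] (σ : Γ →* Q),
      Function.Surjective σ → σ.ker ≤ center Γ →
      ∀ x ∈ ⁅(S : Subgroup Q).comap σ, (S : Subgroup Q).comap σ⁆, x ∈ σ.ker → x = 1) :
    HasCyclicSchurMultiplier Q 1 := by
  refine hasCyclicSchurMultiplier_one_of_forall fun Γ _ _ σ hσ => ?_
  obtain ⟨hsurj, hcen, hcomm⟩ := hσ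
  by_contra hne
  obtain ⟨p, hp, hpd⟩ := Nat.exists_prime_and_dvd
    (fun h1 : Nat.card σ.ker = 1 => hne (Subgroup.eq_bot_of_card_eq _ h1))
  haveI := Fact.mk hp
  obtain ⟨⟨k, hk⟩, hko⟩ := exists_prime_orderOf_dvd_card' p hpd
  rw [← Subgroup.orderOf_coe] at hko
  change orderOf k = p at hko
  obtain ⟨P, hP⟩ := (IsPGroup.of_card (n := 1) (G := zpowers k)
    (by rw [Nat.card_zpowers, hko, pow_one])).exists_le_sylow
  have hkP : k ∈ (P : Subgroup Γ) := hP (mem_zpowers k)
  obtain ⟨S, hS⟩ := h p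
  obtain ⟨S', hS'⟩ := (P.2.map σ).exists_le_sylow
  obtain ⟨g, hg⟩ := MulAction.exists_smul_eq Q S' S
  let σ' : Γ →* Q := (MulAut.conj g).toMonoidHom.comp σ
  have hker : σ'.ker = σ.ker := by
    ext y
    rw [MonoidHom.mem_ker, MonoidHom.mem_ker]
    exact (MulAut.conj g).map_eq_one_iff
  have hPS : (P : Subgroup Γ) ≤ (S : Subgroup Q).comap σ' := by
    intro y hy
    rw [mem_comap, ← hg, Sylow.coe_subgroup_smul, Subgroup.mem_pointwise_smul_iff_inv_smul_mem]
    have hy' := hS' (mem_map_of_mem σ hy)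
    show (MulAut.conj g)⁻¹ • (MulAut.conj g (σ y)) ∈ (S' : Subgroup Q)
    rw [← MulAut.smul_def, inv_smul_smul]
    exact hy'
  have h1 : MonoidHom.transfer (Abelianization.of : (P : Subgroup Γ) →* _) k = 1 :=
    Abelianization.commutator_subset_ker _ (hcomm hk)
  rw [MonoidHom.transfer_eq_pow _ k (fun n y _ => by
    rw [mul_assoc, ← (mem_center_iff.1 ((center Γ).pow_mem (hcen hk) n) y),
      inv_mul_cancel_left])] at h1
  have h2 : k ^ (P : Subgroup Γ).index ∈ ⁅(P : Subgroup Γ), (P : Subgroup Γ)⁆ := by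
    rw [← Subgroup.map_subtype_commutator]
    exact ⟨_, by rw [← Abelianization.ker_of]; exact h1, rfl⟩
  have h3 : k ^ (P : Subgroup Γ).index = 1 :=
    hS Γ σ' ((MulAut.conj g).surjective.comp hsurj) (hker ▸ hcen) _
      (Subgroup.commutator_mono hPS hPS h2) (hker ▸ σ.ker.pow_mem hk _)
  have h4 := orderOf_dvd_of_pow_eq_one h3
  rw [hko] at h4
  exact P.not_dvd_index h4

end CfsgLib.Schur
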