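import Cfsg.Agent.Lib.KnownA.SL2Multiplier

/-!
When do lifts of two commuting elements into a central extension commute.
-/

set_option autoImplicit false

namespace CfsgLib.Schur.LiftComm

open scoped commutatorElement

variable {Γ G : Type*} [Group Γ] [Group G] (π : Γ →* G)

/-- the lifts of the two elements commute -/
def LC (x y : G) : Prop := ∀ a b : Γ, π a = x → π b = y → a * b = b * a

variable {π} (hc : π.ker ≤ Subgroup.center Γ) (hsurj : Function.Surjective π)

theorem lc_symm {x y : G} (h : LC π x y) : LC π y x := fun a b ha hb => (h b a hb ha).symm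

include hc in
theorem ker_comm {z : Γ} (hz : π z = 1) (g : Γ) : g * z = z * g :=
  Subgroup.mem_center_iff.1 (hc (MonoidHom.mem_ker.2 hz)) g

include hc in
theorem lift_eq {a a' : Γ} (h : π a = π a') : ∃ z, π z = 1 ∧ a' = a * z :=
  ⟨a⁻¹ * a', by rw [map_mul, map_inv, h, inv_mul_cancel], (mul_inv_cancel_left a a').symm⟩

include hc in
theorem comm_eq {a a' b b' : Γ} (ha : π a = π a') (hb : π b = π b') : ⁅a, b⁆ = ⁅a', b'⁆ := by
  obtain ⟨z, hz, rfl⟩ := lift_eq hc ha
  obtain ⟨w, hw, rfl⟩ := lift_eq hc hb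
  have h1 := ker_comm hc hz
  have h2 := ker_comm hc hw
  simp only [commutatorElement_def, _root_.mul_inv_rev]
  symm
  calc a * z * (b * w) * (z⁻¹ * a⁻¹) * (w⁻¹ * b⁻¹)
      = a * (z * (b * w) * z⁻¹) * a⁻¹ * (w⁻¹ * b⁻¹) := by group
    _ = a * b * (w * a⁻¹ * w⁻¹) * b⁻¹ := by rw [← h1 (b * w), mul_inv_cancel_right]; group
    _ = a * b * a⁻¹ * b⁻¹ := by rw [← h2 a⁻¹, mul_inv_cancel_right]

include hc in
theorem lc_of_lift {a b : Γ} (h : a * b = b * a) : LC π (π a) (π b) := fun a' b' ha hb => by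
  refine commutatorElement_eq_one_iff_mul_comm.1 ?_
  rw [comm_eq hc ha hb]
  exact commutatorElement_eq_one_iff_mul_comm.2 h

include hc in
theorem lc_one_left (y : G) : LC π 1 y := fun _ b ha _ => (ker_comm hc ha b).symm

include hc hsurj in
theorem lc_mul_left {x x' y : G} (h : LC π x y) (h' : LC π x' y) : LC π (x * x') y := by
  obtain ⟨a, rfl⟩ := hsurj x
  obtain ⟨a', rfl⟩ := hsurj x'
  obtain ⟨b, rfl⟩ := hsurj y
  rw [← map_mul]
  refine lc_of_lift hc ?_
  rw [mul_assoc, h' a' b rfl rfl, ← mul_assoc, h a b rfl rfl, mul_assoc]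

include hc hsurj in
theorem lc_inv_left {x y : G} (h : LC π x y) : LC π x⁻¹ y := by
  obtain ⟨a, rfl⟩ := hsurj x
  obtain ⟨b, rfl⟩ := hsurj y
  rw [← map_inv]
  exact lc_of_lift hc (Commute.inv_left (h a b rfl rfl))

include hc hsurj in
theorem lc_comm {x x' y : G} (h : LC π x y) (h' : LC π x' y) : LC π ⁅x, x'⁆ y := by
  rw [commutatorElement_def]
  exact lc_mul_left hc hsurj (lc_mul_left hc hsurj (lc_mul_left hc hsurj h h')
    (lc_inv_left hc hsurj h)) (lc_inv_left hc hsurj h')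

include hc hsurj in
theorem lc_conj {x y : G} (h : LC π x y) (g : G) : LC π (g * x * g⁻¹) (g * y * g⁻¹) := by
  obtain ⟨a, rfl⟩ := hsurj x
  obtain ⟨b, rfl⟩ := hsurj y
  obtain ⟨c, rfl⟩ := hsurj g
  rw [← map_inv, ← map_mul, ← map_mul, ← map_mul, ← map_mul]
  exact lc_of_lift hc (Commute.conj_iff c |>.2 (h a b rfl rfl))

include hc hsurj in
theorem lc_twist {t x y : G} (hxy : x * y = y * x) (hty : t * y = y * t) : LC π ⁅t, x⁆ y := by
  obtain ⟨a, rfl⟩ := hsurj x
  obtain ⟨b, rfl⟩ := hsurj y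
  obtain ⟨c, rfl⟩ := hsurj t
  rw [← map_commutatorElement]
  refine lc_of_lift hc ?_
  have hk : π ⁅a, b⁆ = 1 := by rw [map_commutatorElement, commutatorElement_eq_one_iff_mul_comm]; exact hxy
  have e : ⁅c * a * c⁻¹, b⁆ = ⁅a, b⁆ := by
    rw [comm_eq hc (a' := c * a * c⁻¹) (b' := c * b * c⁻¹) rfl (by
      simp only [map_mul, map_inv, hty, mul_inv_cancel_right]), ← conjugate_commutatorElement,
      ker_comm hc hk c, mul_inv_cancel_right]
  have hk' := ker_comm hc hk
  simp only [commutatorElement_def] at e hk'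
  set k := a * b * a⁻¹ * b⁻¹ with hkdef
  have e1 : c * a * c⁻¹ * b = k * (b * (c * a * c⁻¹)) := by rw [← e]; group
  have e2 : a⁻¹ * b = k⁻¹ * (b * a⁻¹) := by
    calc a⁻¹ * b = (k⁻¹ * k) * (a⁻¹ * b) := by group
      _ = k⁻¹ * (a⁻¹ * k * b) := by rw [hk' a⁻¹]; group
      _ = k⁻¹ * (b * a⁻¹ * (b⁻¹ * b)) := by
        rw [show a⁻¹ * k * b = b * a⁻¹ by rw [hkdef]; group]; group
      _ = _ := by group
  show c * a * c⁻¹ * a⁻¹ * b = b * (c * a * c⁻¹ * a⁻¹)
  calc c * a * c⁻¹ * a⁻¹ * b = c * a * c⁻¹ * (k⁻¹ * (b * a⁻¹)) := by rw [← e2]; group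
    _ = k⁻¹ * (c * a * c⁻¹ * b) * a⁻¹ := by
      rw [← mul_assoc (c * a * c⁻¹) k⁻¹, show c * a * c⁻¹ * k⁻¹ = k⁻¹ * (c * a * c⁻¹) from
        (Commute.inv_right (hk' (c * a * c⁻¹))).eq]
      group
    _ = _ := by rw [e1]; group

variable {F : Type*} [Field F] [Fintype F]

include hc hsurj in
/-- Two commuting images of the additive group with an operator scaling both by each square. -/
theorem lc_form (h4 : 4 < Fintype.card F) (h13 : (2 : F) ≠ 0 → 13 < Fintype.card F) (M M' : F → G)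
    (hM : ∀ a b, M (a + b) = M a * M b) (hM' : ∀ a b, M' (a + b) = M' a * M' b)
    (hcom : ∀ a b, M a * M' b = M' b * M a)
    (hop : ∀ s : F, s ≠ 0 → ∃ g : G, ∀ a, g * M a * g⁻¹ = M (s ^ 2 * a) ∧ g * M' a * g⁻¹ = M' (s ^ 2 * a))
    (a b : F) : LC π (M a) (M' b) := by
  classical
  choose L hL using fun a => hsurj (M a)
  choose L' hL' using fun a => hsurj (M' a)
  letI : CommGroup π.ker := { (inferInstance : Group π.ker) with
    mul_comm := fun x y => Subtype.ext (ker_comm hc y.2 x) }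
  have hker : ∀ a b, ⁅L a, L' b⁆ ∈ π.ker := fun a b => by
    rw [MonoidHom.mem_ker, map_commutatorElement, hL, hL', commutatorElement_eq_one_iff_mul_comm]
    exact hcom a b
  let β : F → F → Additive π.ker := fun a b => Additive.ofMul ⟨_, hker a b⟩
  have h1 : ∀ x x' y, β (x + x') y = β x y + β x' y := fun x x' y => by
    refine Additive.toMul.injective (Subtype.ext ?_)
    show ⁅L (x + x'), L' y⁆ = ⁅L x, L' y⁆ * ⁅L x', L' y⁆
    rw [comm_eq hc (a' := L x * L x') (b' := L' y) (by rw [map_mul, hL, hL, hL, hM]) rfl,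
      show ⁅L x * L x', L' y⁆ = L x * ⁅L x', L' y⁆ * (L x)⁻¹ * ⁅L x, L' y⁆ by
        simp only [commutatorElement_def]; group,
      ker_comm hc (hker x' y) (L x), mul_inv_cancel_right]
    exact (ker_comm hc (hker x y) _)
  have h2 : ∀ x y y', β x (y + y') = β x y + β x y' := fun x y y' => by
    refine Additive.toMul.injective (Subtype.ext ?_)
    show ⁅L x, L' (y + y')⁆ = ⁅L x, L' y⁆ * ⁅L x, L' y'⁆
    rw [comm_eq hc (a' := L x) (b' := L' y * L' y') rfl (by rw [map_mul, hL', hL', hL', hM']),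
      show ⁅L x, L' y * L' y'⁆ = ⁅L x, L' y⁆ * (L' y * ⁅L x, L' y'⁆ * (L' y)⁻¹) by
        simp only [commutatorElement_def]; group,
      ker_comm hc (hker x y') (L' y), mul_inv_cancel_right]
  have hinv : ∀ s : F, s ≠ 0 → ∀ x y, β (s ^ 2 * x) (s ^ 2 * y) = β x y := fun s hs x y => by
    refine Additive.toMul.injective (Subtype.ext ?_)
    show ⁅L (s ^ 2 * x), L' (s ^ 2 * y)⁆ = ⁅L x, L' y⁆
    obtain ⟨g, hg⟩ := hop s hs
    obtain ⟨c, rfl⟩ := hsurj g
    rw [comm_eq hc (a' := c * L x * c⁻¹) (b' := c * L' y * c⁻¹)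
      (by rw [map_mul, map_mul, map_inv, hL, hL, (hg x).1]) (by rw [map_mul, map_mul, map_inv, hL', hL', (hg y).2]),
      ← conjugate_commutatorElement, ker_comm hc (hker x y) c, mul_inv_cancel_right]
  have h0 := CfsgLib.KnownA.SLTwo.eq_zero_of_invariant_form h4 h13 β h1 h2 hinv a b
  intro p r hp hr
  refine commutatorElement_eq_one_iff_mul_comm.1 ?_
  rw [comm_eq hc (a' := L a) (b' := L' b) (hp.trans (hL a).symm) (hr.trans (hL' b).symm)]
  exact congrArg (fun z => ((Additive.toMul z : π.ker) : Γ)) h0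

end CfsgLib.Schur.LiftComm
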