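import Mathlib

/-!
Central extensions of a nilpotent group along a central series with a commutative operator group:
when no two factors pair into the kernel, the kernel has a complement.
-/

set_option autoImplicit false

namespace CfsgLib.Schur.ChainSplit

open Subgroup
open scoped commutatorElement

universe w

variable {G : Type*} [Group G]

/-- `t` acts without fixed points on a factor. -/
def Free (V W : Subgroup G) (t : G) : Prop := ∀ v ∈ V, ⁅t, v⁆ ∈ W → v ∈ W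

/-- `t` acts trivially on a factor. -/
def Triv (V W : Subgroup G) (t : G) : Prop := ∀ v ∈ V, ⁅t, v⁆ ∈ W

theorem free_surj [Finite G] {V W : Subgroup G} {t : G} (hWV : W ≤ V)
    (hVV : ∀ x ∈ V, ∀ y ∈ V, ⁅x, y⁆ ∈ W) (htV : ∀ v ∈ V, t * v * t⁻¹ ∈ V)
    (htW : ∀ v ∈ W, t * v * t⁻¹ ∈ W) (hf : Free V W t) :
    ∀ w ∈ V, ∃ v ∈ V, ⁅t, v⁆⁻¹ * w ∈ W := by
  classical
  have hn : (W.subgroupOf V).Normal := ⟨fun x hx g => by
    have h1 := mul_mem (hVV g g.2 x x.2) (show (x : G) ∈ W from hx)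
    show ((g * x * g⁻¹ : V) : G) ∈ W
    simpa [commutatorElement_def] using h1⟩
  let f : V →* ↥V ⧸ W.subgroupOf V := MonoidHom.mk'
    (fun v => QuotientGroup.mk (⟨⁅t, (v : G)⁆, by
      rw [commutatorElement_def]; exact mul_mem (htV v v.2) (inv_mem v.2)⟩ : V)) (fun a b => by
        rw [← QuotientGroup.mk_mul]
        refine QuotientGroup.eq.2 ?_
        rw [Subgroup.mem_subgroupOf]
        push_cast
        have h1 : ⁅(b : G) * ⁅t, (b : G)⁆⁻¹ * (b : G)⁻¹, (a : G)⁆ ∈ W := hVV _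
          (mul_mem (mul_mem b.2 (inv_mem (by
            rw [commutatorElement_def]; exact mul_mem (htV b b.2) (inv_mem b.2)))) (inv_mem b.2)) _ a.2
        have h2 : ⁅(a : G), ⁅t, (b : G)⁆⁻¹⁆ ∈ W := hVV _ a.2 _ (inv_mem (by
          rw [commutatorElement_def]; exact mul_mem (htV b b.2) (inv_mem b.2)))
        have e : (⁅t, (a : G) * (b : G)⁆)⁻¹ * (⁅t, (a : G)⁆ * ⁅t, (b : G)⁆) =
            ⁅(a : G), ⁅t, (b : G)⁆⁻¹⁆ := by
          simp only [commutatorElement_def]; group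
        rw [e]
        exact h2)
  have hker : ∀ v : V, f v = 1 ↔ ⁅t, (v : G)⁆ ∈ W := fun v => QuotientGroup.eq_one_iff _
  have hlift : W.subgroupOf V ≤ f.ker := fun v hv => (hker v).2 (by
    rw [commutatorElement_def]; exact mul_mem (htW v hv) (inv_mem hv))
  let fb := QuotientGroup.lift _ f hlift
  have hinj : Function.Injective fb := by
    rw [injective_iff_map_eq_one]
    intro x
    induction x using QuotientGroup.induction_on with
    | _ x => exact fun hx => (QuotientGroup.eq_one_iff _).2 (hf x x.2 ((hker x).1 hx))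
  intro w hw
  obtain ⟨x, hx⟩ := (Finite.injective_iff_surjective.1 hinj) (QuotientGroup.mk (⟨w, hw⟩ : V))
  induction x using QuotientGroup.induction_on with
  | _ x =>
    refine ⟨x, x.2, ?_⟩
    have h := QuotientGroup.eq.1 hx
    exact h

/-- No invariant pairing of the factors at `j` and `i` into an abelian group exists. -/
def NoForm (V : ℕ → Subgroup G) (T : Subgroup G) (j i : ℕ) : Prop :=
  ∀ (A : Type w) [CommGroup A] (β : G → G → A),
    (∀ a ∈ V j, ∀ a' ∈ V j, ∀ b ∈ V i, β (a * a') b = β a b * β a' b) →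
    (∀ a ∈ V j, ∀ b ∈ V i, ∀ b' ∈ V i, β a (b * b') = β a b * β a b') →
    (∀ a ∈ V (j + 1), ∀ b ∈ V i, β a b = 1) → (∀ a ∈ V j, ∀ b ∈ V (i + 1), β a b = 1) →
    (∀ t ∈ T, ∀ a ∈ V j, ∀ b ∈ V i, β (t * a * t⁻¹) (t * b * t⁻¹) = β a b) →
    ∀ a ∈ V j, ∀ b ∈ V i, β a b = 1

variable {Γ : Type w} [Group Γ] [Finite Γ] (π : Γ →* G)

/-- The factors at `j` and `i` do not pair into the kernel. -/
def NoPair (V : ℕ → Subgroup G) (T : Subgroup G) (j i : ℕ) : Prop :=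
  (∃ t ∈ T, Triv (V i) (V (i + 1)) t ∧ Free (V j) (V (j + 1)) t) ∨
  (∃ t ∈ T, Triv (V j) (V (j + 1)) t ∧ Free (V i) (V (i + 1)) t) ∨
  ∃ X Y : Subgroup G, (∀ v ∈ V j, ∃ a ∈ X, a ∈ V j ∧ a⁻¹ * v ∈ V (j + 1)) ∧
    (∀ v ∈ V i, ∃ b ∈ Y, b ∈ V i ∧ b⁻¹ * v ∈ V (i + 1)) ∧
    ∀ a b : Γ, π a ∈ X → π b ∈ Y → a * b = b * a

theorem mem_normalizer_of_conj {S : Subgroup Γ} {g : Γ} (h : ∀ y ∈ S, g * y * g⁻¹ ∈ S) :
    g ∈ Subgroup.normalizer (S : Set Γ) := by
  have he : S.map (MulAut.conj g).toMonoidHom = S := by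
    refine Subgroup.eq_of_le_of_card_ge ?_ ?_
    · rintro _ ⟨y, hy, rfl⟩; exact h y hy
    · rw [Subgroup.card_map_of_injective (MulAut.conj g).injective]
  rw [mem_normalizer_iff]
  intro y
  refine ⟨h y, fun hy => ?_⟩
  rw [← he] at hy
  obtain ⟨z, hz, e⟩ := hy
  have e' : g * z * g⁻¹ = g * y * g⁻¹ := e
  rwa [← mul_left_cancel (mul_right_cancel e')]

set_option maxHeartbeats 800000 in
-- one long induction
/-- The commutator of the preimage meets the kernel trivially. -/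
theorem eq_one_of_mem' (hsurj : Function.Surjective π) (hc : π.ker ≤ center Γ) (n : ℕ)
    (V : ℕ → Subgroup G) (hbot : V n = ⊥) (hanti : ∀ i < n, V (i + 1) ≤ V i)
    (hcomm : ∀ i < n, ∀ x ∈ V 0, ∀ y ∈ V i, ⁅x, y⁆ ∈ V (i + 1))
    (T : Subgroup G) (hT : ∀ a ∈ T, ∀ b ∈ T, a * b = b * a)
    (hnorm : ∀ i ≤ n, ∀ t ∈ T, ∀ v ∈ V i, t * v * t⁻¹ ∈ V i)
    (hfree : ∀ i < n, ∃ t ∈ T, Free (V i) (V (i + 1)) t)
    (hpair : ∀ i < n, ∀ j ≤ i, NoPair π V T j i ∨ NoForm.{w} V T j i) :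
    ∀ x ∈ ⁅(V 0).comap π, (V 0).comap π⁆, x ∈ π.ker → x = 1 := by
  classical
  haveI : Finite G := Finite.of_surjective π hsurj
  have hz : ∀ z ∈ π.ker, ∀ g : Γ, g * z = z * g := fun z hz g => mem_center_iff.1 (hc hz) g
  have hle : ∀ i ≤ n, ∀ j ≤ i, V i ≤ V j := by
    intro i hi j hj
    induction i, hj using Nat.le_induction with
    | base => exact le_rfl
    | succ i _ ih => exact (hanti i (by omega)).trans (ih (by omega))
  suffices key : ∀ m ≤ n, ∃ S : Subgroup Γ, S ≤ (V (n - m)).comap π ∧ S ⊓ π.ker = ⊥ ∧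
      (∀ g, π g ∈ V (n - m) → ∃ s ∈ S, s⁻¹ * g ∈ π.ker) ∧
      (∀ g, π g ∈ V 0 → ∀ s ∈ S, g * s * g⁻¹ ∈ S) ∧ (∀ g, π g ∈ T → ∀ s ∈ S, g * s * g⁻¹ ∈ S) by
    obtain ⟨S, -, hd, hcov, hn0, -⟩ := key n le_rfl
    rw [Nat.sub_self] at hcov
    intro x hx hk
    have hxS : x ∈ S := by
      refine (Subgroup.commutator_le.2 ?_ : _ ≤ S) hx
      intro a ha b hb
      obtain ⟨s, hs, ka⟩ := hcov a ha
      obtain ⟨s', hs', kb⟩ := hcov b hb
      obtain ⟨z, hz', rfl⟩ : ∃ z ∈ π.ker, a = s * z := ⟨_, ka, (mul_inv_cancel_left s a).symm⟩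
      obtain ⟨z', hz'', rfl⟩ : ∃ z ∈ π.ker, b = s' * z := ⟨_, kb, (mul_inv_cancel_left s' b).symm⟩
      have e : ⁅s * z, s' * z'⁆ = ⁅s, s'⁆ := by
        simp only [commutatorElement_def, _root_.mul_inv_rev]
        calc s * z * (s' * z') * (z⁻¹ * s⁻¹) * (z'⁻¹ * s'⁻¹)
            = s * (z * (s' * z') * z⁻¹) * s⁻¹ * (z'⁻¹ * s'⁻¹) := by group
          _ = s * (s' * z') * s⁻¹ * (z'⁻¹ * s'⁻¹) := by rw [← hz z hz', mul_inv_cancel_right]
          _ = s * s' * (z' * s⁻¹ * z'⁻¹) * s'⁻¹ := by group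
          _ = s * s' * s⁻¹ * s'⁻¹ := by rw [← hz z' hz'', mul_inv_cancel_right]
      rw [e, commutatorElement_def]
      exact mul_mem (mul_mem (mul_mem hs hs') (inv_mem hs)) (inv_mem hs')
    exact mem_bot.1 (hd.le ⟨hxS, hk⟩)
  intro m
  induction m with
  | zero =>
    intro _
    refine ⟨⊥, bot_le, bot_inf_eq _, fun g hg => ⟨1, one_mem _, ?_⟩, ?_, ?_⟩
    · rw [Nat.sub_zero, hbot, mem_bot] at hg
      simpa using hg
    · intro g _ s hs; rw [mem_bot] at hs ⊢; rw [hs]; group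
    · intro g _ s hs; rw [mem_bot] at hs ⊢; rw [hs]; group
  | succ m ih =>
    intro hm
    obtain ⟨S, hSle, hSd, hScov, hS0, hST⟩ := ih (by omega)
    obtain ⟨i, hi, hin, hi'⟩ : ∃ i, n - m = i + 1 ∧ i < n ∧ n - (m + 1) = i :=
      ⟨n - (m + 1), by omega, by omega, rfl⟩
    rw [hi] at hSle hScov
    rw [hi']
    set N := Subgroup.normalizer (S : Set Γ)
    have hN0 : ∀ g, π g ∈ V 0 → g ∈ N := fun g hg => mem_normalizer_of_conj (hS0 g hg)
    have hNT : ∀ g, π g ∈ T → g ∈ N := fun g hg => mem_normalizer_of_conj (hST g hg)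
    haveI hSn : (S.subgroupOf N).Normal := Subgroup.normal_in_normalizer
    let ρ : ↥N →* ↥N ⧸ S.subgroupOf N := QuotientGroup.mk' _
    have hρker : ∀ z : ↥N, (z : Γ) ∈ π.ker → ∀ g, Commute (ρ z) g := by
      intro z hz' g
      induction g using QuotientGroup.induction_on with
      | _ g =>
        show ρ z * ρ g = ρ g * ρ z
        rw [← map_mul, ← map_mul]
        exact congrArg ρ (Subtype.ext (hz z hz' g).symm)
    have hρS : ∀ z : ↥N, ρ z = 1 ↔ (z : Γ) ∈ S := fun z => QuotientGroup.eq_one_iff _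
    -- the elements over the lower term are central
    have hlow : ∀ z : ↥N, π z ∈ V (i + 1) → ∀ g, Commute (ρ z) g := by
      intro z hzV g
      obtain ⟨s, hs, hk⟩ := hScov z hzV
      have hsN : s ∈ N := hN0 s (hle (i + 1) (by omega) 0 (Nat.zero_le _) (hSle hs))
      have e : ρ z = ρ ⟨s⁻¹ * z, mul_mem (inv_mem hsN) z.2⟩ := by
        rw [show (⟨s⁻¹ * z, mul_mem (inv_mem hsN) z.2⟩ : ↥N) = ⟨s, hsN⟩⁻¹ * z from rfl, map_mul,
          map_inv, (hρS ⟨s, hsN⟩).2 hs, inv_one, one_mul]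
      rw [e]
      exact hρker _ hk g
    have hVi0 : V i ≤ V 0 := hle i hin.le 0 (Nat.zero_le _)
    -- commutators of the lifts
    have hpairing : ∀ k ≤ n, ∀ u : ↥N, π u ∈ V (n - k) → ∀ y : ↥N, π y ∈ V i →
        Commute (ρ u) (ρ y) := by
      intro k
      induction k with
      | zero =>
        intro _ u hu y _
        rw [Nat.sub_zero, hbot, mem_bot] at hu
        exact hρker u hu _
      | succ k ihk =>
        intro hk u hu y hy
        obtain ⟨j, hj, hjn, hj'⟩ : ∃ j, n - k = j + 1 ∧ j < n ∧ n - (k + 1) = j :=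
          ⟨n - (k + 1), by omega, by omega, rfl⟩
        rw [hj'] at hu
        by_cases hji : i < j
        · exact hlow u (hle j hjn.le (i + 1) (by omega) hu) _
        have hIH : ∀ u' : ↥N, π u' ∈ V (j + 1) → ∀ y : ↥N, π y ∈ V i → Commute (ρ u') (ρ y) := by
          intro u' hu'; exact ihk (by omega) u' (by rw [hj]; exact hu')
        have hVj0 : V j ≤ V 0 := hle j hjn.le 0 (Nat.zero_le _)
        -- conjugating a pair by a lifted operator
        have hconj : ∀ (t : ↥N), π t ∈ T → ∀ a b : ↥N, π a ∈ V j → π b ∈ V i →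
            ⁅ρ (t * a * t⁻¹), ρ (t * b * t⁻¹)⁆ = ⁅ρ a, ρ b⁆ := by
          intro t ht a b ha hb
          have h1 : π ((⁅a, b⁆ : ↥N) : Γ) ∈ V (i + 1) := by
            have := hcomm i hin _ (hVj0 ha) _ hb
            simpa [commutatorElement_def] using this
          have h2 := hlow _ h1 (ρ t)
          rw [map_commutatorElement] at h2
          simp only [map_mul, map_inv]
          rw [← conjugate_commutatorElement, ← h2.eq, mul_inv_cancel_right]
        have hcen : ∀ a b : ↥N, π a ∈ V 0 → π b ∈ V i → ∀ g, Commute ⁅ρ a, ρ b⁆ g := by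
          intro a b ha hb g
          rw [← map_commutatorElement]
          refine hlow _ ?_ g
          have := hcomm i hin _ ha _ hb
          simpa [commutatorElement_def] using this
        rcases hpair i hin j (by omega) with (⟨t, ht, htriv, hfr⟩ | ⟨t, ht, htriv, hfr⟩ |
          ⟨X, Y, hX, hY, hXY⟩) | hform
        · obtain ⟨tt, htt⟩ := hsurj t
          have ht' : π tt ∈ T := by rw [htt]; exact ht
          let τ : ↥N := ⟨tt, hNT tt ht'⟩
          obtain ⟨v, hv, hvw⟩ := free_surj (hanti j hjn)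
            (fun a ha b hb => hcomm j hjn a (hVj0 ha) b hb) (hnorm j hjn.le t ht)
            (hnorm (j + 1) hjn t ht) hfr _ hu
          obtain ⟨vv, hvv⟩ := hsurj v
          let ν : ↥N := ⟨vv, hN0 vv (hVj0 (by rw [hvv]; exact hv))⟩
          have hν : π ν ∈ V j := by show π vv ∈ V j; rw [hvv]; exact hv
          have htn : π (τ * ν * τ⁻¹ : ↥N) ∈ V j := by
            simpa [τ, ν, htt, hvv] using hnorm j hjn.le t ht v hv
          have hy' : π ((τ * y * τ⁻¹ * y⁻¹ : ↥N) : Γ) ∈ V (i + 1) := by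
            simpa [τ, htt, commutatorElement_def] using htriv _ hy
          have hty : π (τ * y * τ⁻¹ : ↥N) ∈ V i := by
            simpa [τ, htt] using hnorm i hin.le t ht _ hy
          have e1 := hconj τ ht' ν y hν hy
          have e2 : ⁅ρ (τ * ν * τ⁻¹), ρ (τ * y * τ⁻¹)⁆ = ⁅ρ (τ * ν * τ⁻¹), ρ y⁆ := by
            have hc' := hlow _ hy'
            rw [show τ * y * τ⁻¹ = (τ * y * τ⁻¹ * y⁻¹) * y by group, map_mul ρ (τ * y * τ⁻¹ * y⁻¹) y]
            simp only [commutatorElement_def]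
            have a1 := (hc' (ρ (τ * ν * τ⁻¹))).eq
            set c := ρ (τ * y * τ⁻¹ * y⁻¹)
            set a := ρ (τ * ν * τ⁻¹)
            calc a * (c * ρ y) * a⁻¹ * (c * ρ y)⁻¹ = (a * c) * ρ y * a⁻¹ * (ρ y)⁻¹ * c⁻¹ := by group
              _ = c * (a * ρ y * a⁻¹ * (ρ y)⁻¹) * c⁻¹ := by rw [← a1]; group
              _ = _ := by rw [(hc' _).eq, mul_inv_cancel_right]
          rw [e2] at e1
          have e3 : ⁅ρ (τ * ν * τ⁻¹ * ν⁻¹), ρ y⁆ = 1 := by
            have hc' : Commute ⁅ρ (τ * ν * τ⁻¹ * ν⁻¹), ρ y⁆ (ρ ν) := by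
              refine hcen _ _ ?_ hy _
              refine hVj0 ?_
              simpa [τ, ν, htt, hvv] using mul_mem (hnorm j hjn.le t ht v hv) (inv_mem hv)
            have e4 : ⁅ρ (τ * ν * τ⁻¹), ρ y⁆ =
                ⁅ρ ν, ρ y⁆ * ⁅ρ (τ * ν * τ⁻¹ * ν⁻¹), ρ y⁆ := by
              have e5 : ρ (τ * ν * τ⁻¹) = ρ (τ * ν * τ⁻¹ * ν⁻¹) * ρ ν := by
                rw [← map_mul]; congr 1; group
              have hc2 := hcen ν y (hVj0 hν) hy (ρ (τ * ν * τ⁻¹ * ν⁻¹))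
              rw [e5]
              generalize ρ (τ * ν * τ⁻¹ * ν⁻¹) = a at hc' hc2 ⊢
              calc ⁅a * ρ ν, ρ y⁆ = a * ⁅ρ ν, ρ y⁆ * a⁻¹ * ⁅a, ρ y⁆ := by
                    simp only [commutatorElement_def]; group
                _ = _ := by rw [← hc2.eq, mul_inv_cancel_right]
            rwa [e4, mul_eq_left] at e1
          let w : ↥N := (τ * ν * τ⁻¹ * ν⁻¹)⁻¹ * u
          have hw : π w ∈ V (j + 1) := by
            simpa [w, τ, ν, htt, hvv, commutatorElement_def, mul_assoc] using hvw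
          rw [show u = (τ * ν * τ⁻¹ * ν⁻¹) * w from (mul_inv_cancel_left _ u).symm, map_mul ρ (τ * ν * τ⁻¹ * ν⁻¹) w]
          exact Commute.mul_left (commutatorElement_eq_one_iff_commute.1 e3) (hIH w hw y hy)
        · obtain ⟨tt, htt⟩ := hsurj t
          have ht' : π tt ∈ T := by rw [htt]; exact ht
          let τ : ↥N := ⟨tt, hNT tt ht'⟩
          obtain ⟨v, hv, hvw⟩ := free_surj (hanti i hin)
            (fun a ha b hb => hcomm i hin a (hVi0 ha) b hb) (hnorm i hin.le t ht)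
            (hnorm (i + 1) hin t ht) hfr _ hy
          obtain ⟨vv, hvv⟩ := hsurj v
          let ν : ↥N := ⟨vv, hN0 vv (hVi0 (by rw [hvv]; exact hv))⟩
          have hν : π ν ∈ V i := by show π vv ∈ V i; rw [hvv]; exact hv
          have hu' : π ((τ * u * τ⁻¹ * u⁻¹ : ↥N) : Γ) ∈ V (j + 1) := by
            simpa [τ, htt, commutatorElement_def] using htriv _ hu
          have htn : π (τ * ν * τ⁻¹ : ↥N) ∈ V i := by
            simpa [τ, ν, htt, hvv] using hnorm i hin.le t ht v hv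
          have e1 := hconj τ ht' u ν hu hν
          have hc1 : Commute (ρ (τ * u * τ⁻¹ * u⁻¹)) (ρ (τ * ν * τ⁻¹)) := hIH _ hu' _ htn
          have hcu := hcen u (τ * ν * τ⁻¹) (hVj0 hu) htn (ρ (τ * u * τ⁻¹ * u⁻¹))
          have e2 : ⁅ρ (τ * u * τ⁻¹), ρ (τ * ν * τ⁻¹)⁆ = ⁅ρ u, ρ (τ * ν * τ⁻¹)⁆ := by
            have e5 : ρ (τ * u * τ⁻¹) = ρ (τ * u * τ⁻¹ * u⁻¹) * ρ u := by
              rw [← map_mul]; congr 1; group
            rw [e5]
            generalize ρ (τ * u * τ⁻¹ * u⁻¹) = a at hc1 hcu ⊢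
            calc ⁅a * ρ u, ρ (τ * ν * τ⁻¹)⁆ =
                  a * ⁅ρ u, ρ (τ * ν * τ⁻¹)⁆ * a⁻¹ * ⁅a, ρ (τ * ν * τ⁻¹)⁆ := by
                  simp only [commutatorElement_def]; group
              _ = _ := by
                rw [← hcu.eq, mul_inv_cancel_right, commutatorElement_eq_one_iff_commute.2 hc1, mul_one]
          rw [e2] at e1
          have e3 : ⁅ρ u, ρ (τ * ν * τ⁻¹ * ν⁻¹)⁆ = 1 := by
            have hm' : π ((τ * ν * τ⁻¹ * ν⁻¹ : ↥N) : Γ) ∈ V i := by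
              simpa [τ, ν, htt, hvv] using mul_mem (hnorm i hin.le t ht v hv) (inv_mem hv)
            have hc2 := hcen u ν (hVj0 hu) hν (ρ (τ * ν * τ⁻¹ * ν⁻¹))
            have e5 : ρ (τ * ν * τ⁻¹) = ρ (τ * ν * τ⁻¹ * ν⁻¹) * ρ ν := by
              rw [← map_mul]; congr 1; group
            rw [e5] at e1
            generalize ρ (τ * ν * τ⁻¹ * ν⁻¹) = a at hc2 e1 ⊢
            have e6 : ⁅ρ u, a * ρ ν⁆ = ⁅ρ u, a⁆ * ⁅ρ u, ρ ν⁆ := by
              calc ⁅ρ u, a * ρ ν⁆ = ⁅ρ u, a⁆ * (a * ⁅ρ u, ρ ν⁆ * a⁻¹) := by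
                    simp only [commutatorElement_def]; group
                _ = _ := by rw [← hc2.eq, mul_inv_cancel_right]
            rwa [e6, mul_eq_right] at e1
          let w : ↥N := (τ * ν * τ⁻¹ * ν⁻¹)⁻¹ * y
          have hw : π w ∈ V (i + 1) := by
            simpa [w, τ, ν, htt, hvv, commutatorElement_def, mul_assoc] using hvw
          rw [show y = (τ * ν * τ⁻¹ * ν⁻¹) * w from (mul_inv_cancel_left _ y).symm, map_mul ρ (τ * ν * τ⁻¹ * ν⁻¹) w]
          exact Commute.mul_right (commutatorElement_eq_one_iff_commute.1 e3) (hlow w hw _).symm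
        · obtain ⟨a, haX, haV, hae⟩ := hX _ hu
          obtain ⟨b, hbY, hbV, hbe⟩ := hY _ hy
          obtain ⟨aa, rfl⟩ := hsurj a
          obtain ⟨bb, rfl⟩ := hsurj b
          let α : ↥N := ⟨aa, hN0 aa (hVj0 haV)⟩
          let β : ↥N := ⟨bb, hN0 bb (hVi0 hbV)⟩
          have h1 : π (α⁻¹ * u : ↥N) ∈ V (j + 1) := by simpa [α] using hae
          have h2 : π (β⁻¹ * y : ↥N) ∈ V (i + 1) := by simpa [β] using hbe
          have hab : Commute (ρ α) (ρ β) := by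
            show ρ α * ρ β = ρ β * ρ α
            rw [← map_mul, ← map_mul]
            exact congrArg ρ (Subtype.ext (hXY aa bb haX hbY))
          rw [← mul_inv_cancel_left α u, ← mul_inv_cancel_left β y, map_mul ρ α, map_mul ρ β]
          refine Commute.mul_right (Commute.mul_left hab ?_) (hlow _ h2 _).symm
          exact hIH _ h1 β (show π bb ∈ V i from hbV)
        · -- the pairing itself
          choose L hL using hsurj
          have hmemN : ∀ g ∈ V 0, L g ∈ N := fun g hg => hN0 _ (by rw [hL]; exact hg)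
          letI : CommGroup (Subgroup.center (↥N ⧸ S.subgroupOf N)) :=
            { (inferInstance : Group (Subgroup.center (↥N ⧸ S.subgroupOf N))) with
              mul_comm := fun a b => Subtype.ext (mem_center_iff.1 b.2 a) }
          let bf : G → G → Subgroup.center (↥N ⧸ S.subgroupOf N) := fun a b =>
            if h : a ∈ V j ∧ b ∈ V i then
              ⟨⁅ρ ⟨L a, hmemN a (hVj0 h.1)⟩, ρ ⟨L b, hmemN b (hVi0 h.2)⟩⁆,
                mem_center_iff.2 fun g => ((hcen ⟨L a, hmemN a (hVj0 h.1)⟩ ⟨L b, hmemN b (hVi0 h.2)⟩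
                  (by show π (L a) ∈ V 0; rw [hL]; exact hVj0 h.1)
                  (by show π (L b) ∈ V i; rw [hL]; exact h.2) g).eq).symm⟩
            else 1
          have hsame : ∀ a b : ↥N, π a = π b → ∀ g : ↥N ⧸ S.subgroupOf N, ⁅ρ a, g⁆ = ⁅ρ b, g⁆ ∧ ⁅g, ρ a⁆ = ⁅g, ρ b⁆ := by
            intro a b e g
            have hk := hρker (a⁻¹ * b) (by simp [MonoidHom.mem_ker, e])
            rw [show ρ b = ρ a * ρ (a⁻¹ * b) by rw [← map_mul, mul_inv_cancel_left]]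
            generalize ρ (a⁻¹ * b) = z at hk ⊢
            constructor
            · simp only [commutatorElement_def, _root_.mul_inv_rev]
              rw [show ρ a * z * g * (z⁻¹ * (ρ a)⁻¹) * g⁻¹ = ρ a * (z * g * z⁻¹) * (ρ a)⁻¹ * g⁻¹ by group,
                (hk g).eq, mul_inv_cancel_right]
            · simp only [commutatorElement_def, _root_.mul_inv_rev]
              rw [show g * (ρ a * z) * g⁻¹ * (z⁻¹ * (ρ a)⁻¹) = g * ρ a * (z * g⁻¹ * z⁻¹) * (ρ a)⁻¹ by group,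
                (hk _).eq, mul_inv_cancel_right]
          have hbf : ∀ a b : ↥N, π a ∈ V j → π b ∈ V i → (bf (π a) (π b) : ↥N ⧸ S.subgroupOf N) =
              ⁅ρ a, ρ b⁆ := by
            intro a b ha hb
            simp only [bf, dif_pos (And.intro ha hb)]
            rw [(hsame ⟨L (π a), hmemN _ (hVj0 ha)⟩ a (hL _) _).1,
              (hsame ⟨L (π b), hmemN _ (hVi0 hb)⟩ b (hL _) _).2]
          have hlift : ∀ g ∈ V 0, ∃ a : ↥N, π a = g := fun g hg => ⟨⟨L g, hmemN g hg⟩, hL g⟩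
          have key := hform _ bf ?_ ?_ ?_ ?_ ?_ _ hu _ hy
          · have e := hbf u y hu hy
            rw [key] at e
            exact commutatorElement_eq_one_iff_commute.1 e.symm
          · intro a ha a' ha' b hb
            obtain ⟨a, rfl⟩ := hlift a (hVj0 ha)
            obtain ⟨a', rfl⟩ := hlift a' (hVj0 ha')
            obtain ⟨b, rfl⟩ := hlift b (hVi0 hb)
            have hm : π ((a * a' : ↥N) : Γ) = π (a : Γ) * π (a' : Γ) := map_mul π _ _
            refine Subtype.ext ?_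
            rw [Subgroup.coe_mul, ← hm, hbf _ _ (hm ▸ mul_mem ha ha') hb, hbf _ _ ha hb, hbf _ _ ha' hb,
              map_mul, show ⁅ρ a * ρ a', ρ b⁆ = ρ a * ⁅ρ a', ρ b⁆ * (ρ a)⁻¹ * ⁅ρ a, ρ b⁆ by
                simp only [commutatorElement_def]; group,
              ← (hcen a' b (hVj0 ha') hb _).eq, mul_inv_cancel_right]
            exact (hcen a' b (hVj0 ha') hb _).eq
          · intro a ha b hb b' hb'
            obtain ⟨a, rfl⟩ := hlift a (hVj0 ha)
            obtain ⟨b, rfl⟩ := hlift b (hVi0 hb)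
            obtain ⟨b', rfl⟩ := hlift b' (hVi0 hb')
            have hm : π ((b * b' : ↥N) : Γ) = π (b : Γ) * π (b' : Γ) := map_mul π _ _
            refine Subtype.ext ?_
            rw [Subgroup.coe_mul, ← hm, hbf _ _ ha (hm ▸ mul_mem hb hb'), hbf _ _ ha hb, hbf _ _ ha hb',
              map_mul, show ⁅ρ a, ρ b * ρ b'⁆ = ⁅ρ a, ρ b⁆ * (ρ b * ⁅ρ a, ρ b'⁆ * (ρ b)⁻¹) by
                simp only [commutatorElement_def]; group,
              ← (hcen a b' (hVj0 ha) hb' _).eq, mul_inv_cancel_right]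
          · intro a ha b hb
            obtain ⟨a, rfl⟩ := hlift a (hle (j + 1) hjn 0 (Nat.zero_le _) ha)
            obtain ⟨b, rfl⟩ := hlift b (hVi0 hb)
            refine Subtype.ext ?_
            rw [hbf _ _ (hanti j hjn ha) hb, commutatorElement_eq_one_iff_commute.2 (hIH a ha b hb)]
            rfl
          · intro a ha b hb
            obtain ⟨a, rfl⟩ := hlift a (hVj0 ha)
            obtain ⟨b, rfl⟩ := hlift b (hle (i + 1) hin 0 (Nat.zero_le _) hb)
            refine Subtype.ext ?_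
            rw [hbf _ _ ha (hanti i hin hb), commutatorElement_eq_one_iff_commute.2 (hlow b hb _).symm]
            rfl
          · intro t ht a ha b hb
            obtain ⟨a, rfl⟩ := hlift a (hVj0 ha)
            obtain ⟨b, rfl⟩ := hlift b (hVi0 hb)
            let τ : ↥N := ⟨L t, hNT _ (by rw [hL]; exact ht)⟩
            have hτ : π τ = t := hL t
            have e : ∀ x : ↥N, t * π x * t⁻¹ = π (τ * x * τ⁻¹ : ↥N) := fun x => by simp [hτ]
            refine Subtype.ext ?_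
            rw [e, e, hbf (τ * a * τ⁻¹) (τ * b * τ⁻¹) (by rw [← e]; exact hnorm j hjn.le t ht _ ha)
              (by rw [← e]; exact hnorm i hin.le t ht _ hb), hbf _ _ ha hb]
            exact hconj τ (by rw [hτ]; exact ht) a b ha hb
    -- the complement one step up
    obtain ⟨t, ht, hfr⟩ := hfree i hin
    obtain ⟨tt, htt⟩ := hsurj t
    have ht' : π tt ∈ T := by rw [htt]; exact ht
    let τ : ↥N := ⟨tt, hNT tt ht'⟩
    let E : Subgroup ↥N := (V i).comap (π.comp N.subtype)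
    have hE : ∀ x : ↥N, x ∈ E ↔ π x ∈ V i := fun x => Iff.rfl
    have hτE : ∀ x ∈ E, ⁅τ, x⁆ ∈ E := fun x hx => by
      rw [hE] at hx ⊢
      simpa [τ, htt, commutatorElement_def] using mul_mem (hnorm i hin.le t ht _ hx) (inv_mem hx)
    have hcommE : ∀ a b : ↥N, π a ∈ V 0 → b ∈ E → Commute (ρ a) (ρ b) := fun a b ha hb =>
      hpairing n le_rfl a (by rw [Nat.sub_self]; exact ha) b hb
    let φ : E →* ↥N ⧸ S.subgroupOf N := MonoidHom.mk' (fun x => ρ ⁅τ, (x : ↥N)⁆) fun a b => by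
      have hc' := (hcommE (a : ↥N) _ (hVi0 a.2) (hτE b b.2)).eq
      rw [← map_mul, show ⁅τ, ((a * b : E) : ↥N)⁆ = ⁅τ, (a : ↥N)⁆ * ((a : ↥N) * ⁅τ, (b : ↥N)⁆ *
        (a : ↥N)⁻¹) by simp only [commutatorElement_def, Subgroup.coe_mul]; group]
      simp only [map_mul, map_inv]
      rw [hc', mul_inv_cancel_right]
    let S' : Subgroup Γ := (φ.range.comap ρ).map N.subtype
    have hS' : ∀ g ∈ S', ∃ x : ↥N, π x ∈ V i ∧ ∃ hg : g ∈ N, ρ ⁅τ, x⁆ = ρ ⟨g, hg⟩ := by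
      rintro _ ⟨g, ⟨x, hx⟩, rfl⟩
      exact ⟨x, x.2, g.2, hx⟩
    have hS'le : S' ≤ (V i).comap π := by
      intro g hg
      obtain ⟨x, hx, hgN, e⟩ := hS' g hg
      have h1 : ((⁅τ, x⁆⁻¹ * ⟨g, hgN⟩ : ↥N) : Γ) ∈ S := (hρS _).1 (by
        rw [map_mul, map_inv, e, inv_mul_cancel])
      have h2 : π ((⁅τ, x⁆⁻¹ * ⟨g, hgN⟩ : ↥N) : Γ) ∈ V i := hanti i hin (hSle h1)
      have h3 := mul_mem (hτE x hx) (show (⁅τ, x⁆⁻¹ * ⟨g, hgN⟩ : ↥N) ∈ E from h2)
      rwa [mul_inv_cancel_left] at h3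
    refine ⟨S', hS'le, ?_, ?_, ?_, ?_⟩
    · rw [eq_bot_iff]
      rintro g ⟨hg, hk⟩
      obtain ⟨x, hx, hgN, e⟩ := hS' g hg
      have h1 : ((⁅τ, x⁆⁻¹ * ⟨g, hgN⟩ : ↥N) : Γ) ∈ S := (hρS _).1 (by
        rw [map_mul, map_inv, e, inv_mul_cancel])
      have h2 : π ((⁅τ, x⁆⁻¹ * ⟨g, hgN⟩ : ↥N) : Γ) ∈ V (i + 1) := hSle h1
      have hk' : π g = 1 := hk
      have h3 : π (x : Γ) ∈ V (i + 1) := hfr _ hx (by
        have := inv_mem h2
        simpa [τ, htt, hk', commutatorElement_def] using this)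
      have h4 : ρ ⁅τ, x⁆ = 1 := by
        rw [map_commutatorElement, commutatorElement_eq_one_iff_commute]
        exact (hlow x h3 _).symm
      rw [h4] at e
      exact hSd.le ⟨(hρS ⟨g, hgN⟩).1 e.symm, hk⟩
    · intro g hg
      obtain ⟨v, hv, hvw⟩ := free_surj (hanti i hin)
        (fun a ha b hb => hcomm i hin a (hVi0 ha) b hb) (hnorm i hin.le t ht)
        (hnorm (i + 1) hin t ht) hfr _ hg
      obtain ⟨vv, hvv⟩ := hsurj v
      let ν : ↥N := ⟨vv, hN0 vv (hVi0 (by rw [hvv]; exact hv))⟩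
      have hν : ν ∈ E := by rw [hE]; show π vv ∈ V i; rw [hvv]; exact hv
      obtain ⟨s, hs, hsk⟩ := hScov ((⁅τ, ν⁆ : ↥N)⁻¹ * g : Γ) (by
        simpa [τ, ν, htt, hvv, commutatorElement_def] using hvw)
      have hsN : s ∈ N := hN0 s (hle (i + 1) (by omega) 0 (Nat.zero_le _) (hSle hs))
      refine ⟨((⁅τ, ν⁆ * ⟨s, hsN⟩ : ↥N) : Γ), ⟨⁅τ, ν⁆ * ⟨s, hsN⟩, ⟨⟨ν, hν⟩, ?_⟩, rfl⟩, ?_⟩
      · show ρ ⁅τ, ν⁆ = ρ (⁅τ, ν⁆ * ⟨s, hsN⟩)
        rw [map_mul, (hρS ⟨s, hsN⟩).2 hs, mul_one]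
      · rw [Subgroup.coe_mul, _root_.mul_inv_rev, mul_assoc]
        exact hsk
    · intro g hg s hs
      obtain ⟨x, hx, hsN, e⟩ := hS' s hs
      let γ : ↥N := ⟨g, hN0 g hg⟩
      refine ⟨γ * ⟨s, hsN⟩ * γ⁻¹, ⟨⟨x, hx⟩, ?_⟩, rfl⟩
      show ρ ⁅τ, x⁆ = ρ _
      rw [map_mul, map_mul, map_inv, (hcommE γ ⟨s, hsN⟩ hg (hS'le hs)).eq, mul_inv_cancel_right, e]
    · intro g hg s hs
      obtain ⟨x, hx, hsN, e⟩ := hS' s hs
      let γ : ↥N := ⟨g, hNT g hg⟩
      have hgx : γ * x * γ⁻¹ ∈ E := by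
        rw [hE]; simpa [γ] using hnorm i hin.le _ hg _ hx
      refine ⟨γ * ⟨s, hsN⟩ * γ⁻¹, ⟨⟨_, hgx⟩, ?_⟩, rfl⟩
      show ρ ⁅τ, γ * x * γ⁻¹⁆ = ρ _
      have hz' : ((γ * τ * γ⁻¹ * τ⁻¹ : ↥N) : Γ) ∈ π.ker := by
        rw [MonoidHom.mem_ker]
        have := hT (π g) hg (π tt) ht'
        show π (g * tt * g⁻¹ * tt⁻¹) = 1
        simp [this]
      have e2 : ρ (γ * τ * γ⁻¹) = ρ (γ * τ * γ⁻¹ * τ⁻¹) * ρ τ := by
        rw [← map_mul]; congr 1; group
      rw [map_commutatorElement] at e ⊢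
      have e4 : ρ (γ * x * γ⁻¹) = ρ γ * ρ x * (ρ γ)⁻¹ := by simp
      rw [show ρ (γ * ⟨s, hsN⟩ * γ⁻¹) = ρ γ * ρ ⟨s, hsN⟩ * (ρ γ)⁻¹ by simp, ← e,
        conjugate_commutatorElement, show ρ γ * ρ τ * (ρ γ)⁻¹ = ρ (γ * τ * γ⁻¹) by simp, e2, e4]
      have hzc := hρker _ hz'
      generalize ρ (γ * τ * γ⁻¹ * τ⁻¹) = c at hzc ⊢
      generalize ρ γ * ρ x * (ρ γ)⁻¹ = a
      calc ⁅ρ τ, a⁆ = c * ⁅ρ τ, a⁆ * c⁻¹ := by rw [(hzc _).eq, mul_inv_cancel_right]
        _ = ⁅c * ρ τ, a⁆ := by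
          simp only [commutatorElement_def]
          calc c * (ρ τ * a * (ρ τ)⁻¹ * a⁻¹) * c⁻¹
              = c * ρ τ * a * (ρ τ)⁻¹ * (c * a)⁻¹ := by group
            _ = c * ρ τ * a * (ρ τ)⁻¹ * (a * c)⁻¹ := by rw [(hzc a).eq]
            _ = c * ρ τ * a * ((ρ τ)⁻¹ * c⁻¹) * a⁻¹ := by group
            _ = _ := by group

/-- The commutator of the preimage meets the kernel trivially when no two factors pair. -/
theorem eq_one_of_mem (hsurj : Function.Surjective π) (hc : π.ker ≤ center Γ) (n : ℕ)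
    (V : ℕ → Subgroup G) (hbot : V n = ⊥) (hanti : ∀ i < n, V (i + 1) ≤ V i)
    (hcomm : ∀ i < n, ∀ x ∈ V 0, ∀ y ∈ V i, ⁅x, y⁆ ∈ V (i + 1))
    (T : Subgroup G) (hT : ∀ a ∈ T, ∀ b ∈ T, a * b = b * a)
    (hnorm : ∀ i ≤ n, ∀ t ∈ T, ∀ v ∈ V i, t * v * t⁻¹ ∈ V i)
    (hfree : ∀ i < n, ∃ t ∈ T, Free (V i) (V (i + 1)) t)
    (hpair : ∀ i < n, ∀ j ≤ i, NoPair π V T j i) :
    ∀ x ∈ ⁅(V 0).comap π, (V 0).comap π⁆, x ∈ π.ker → x = 1 :=
  eq_one_of_mem' π hsurj hc n V hbot hanti hcomm T hT hnorm hfree fun i hi j hj => Or.inl (hpair i hi j hj)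

end CfsgLib.Schur.ChainSplit
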