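import Mathlib
import Cfsg.Prelude.Def_KGroupFacts

/-!
The Schur multiplier of a finite group, built from the free presentation on the group itself:
`Cov Q = F/[R,F]`, `multiplier Q = (R ∩ F')/[R,F]`.
-/

set_option autoImplicit false

namespace CfsgLib.Schur

open Cfsg Subgroup
open scoped commutatorElement

universe u v w

variable (Q : Type u) [Group Q]

/-- The canonical presentation of `Q`. -/
def pres : FreeGroup Q →* Q := FreeGroup.lift id

/-- `[R,F]`. -/
abbrev relCommutator : Subgroup (FreeGroup Q) := ⁅(pres Q).ker, (⊤ : Subgroup (FreeGroup Q))⁆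

/-- `F/[R,F]`, the free central extension of `Q`. -/
abbrev Cov : Type u := FreeGroup Q ⧸ relCommutator Q

theorem relCommutator_le_ker : relCommutator Q ≤ (pres Q).ker := commutator_le_left _ _

/-- The projection of the free central extension. -/
def proj : Cov Q →* Q := QuotientGroup.lift (relCommutator Q) (pres Q) (relCommutator_le_ker Q)

@[simp] theorem proj_mk (x : FreeGroup Q) : proj Q (QuotientGroup.mk x) = pres Q x := rfl

/-- The canonical section (not a homomorphism). -/
def sec (q : Q) : Cov Q := QuotientGroup.mk (FreeGroup.of q)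

@[simp] theorem proj_sec (q : Q) : proj Q (sec Q q) = q := by simp [sec, pres]

theorem proj_surjective : Function.Surjective (proj Q) := fun q => ⟨sec Q q, proj_sec Q q⟩

theorem ker_proj_le_center : (proj Q).ker ≤ center (Cov Q) := by
  intro x hx
  rw [mem_center_iff]
  intro y
  induction x using QuotientGroup.induction_on with
  | H x =>
    induction y using QuotientGroup.induction_on with
    | H y =>
      have h : ⁅x, y⁆ ∈ relCommutator Q :=
        commutator_mem_commutator (by simpa using hx) (mem_top y)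
      have h1 : ⁅(QuotientGroup.mk x : Cov Q), QuotientGroup.mk y⁆ = (1 : Cov Q) := by
        show ⁅QuotientGroup.mk' (relCommutator Q) x, QuotientGroup.mk' (relCommutator Q) y⁆ = _
        rw [← map_commutatorElement]
        exact (QuotientGroup.eq_one_iff _).2 h
      exact (commutatorElement_eq_one_iff_mul_comm.1 h1).symm

instance normal_ker_proj : (proj Q).ker.Normal := MonoidHom.normal_ker _

/-- The Schur multiplier `(R ∩ F')/[R,F]`. -/
def multiplier : Subgroup (Cov Q) := (proj Q).ker ⊓ commutator (Cov Q)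

/-- The Schur multiplier as a type. -/
abbrev Mult : Type u := multiplier Q

theorem multiplier_le_center : multiplier Q ≤ center (Cov Q) :=
  inf_le_left.trans (ker_proj_le_center Q)

instance instCommGroupMult : CommGroup (Mult Q) :=
  { (inferInstance : Group (Mult Q)) with
    mul_comm := fun a b => Subtype.ext (mem_center_iff.1 (multiplier_le_center Q b.2) a) }

variable {Q}

/-- The free central extension maps over every homomorphism into a central quotient. -/
theorem exists_lift {X : Type v} {Y : Type w} [Group X] [Group Y] (ξ : X →* Y)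
    (hξ : Function.Surjective ξ) (hc : ξ.ker ≤ center X) (γ : Q →* Y) :
    ∃ f : Cov Q →* X, ξ.comp f = γ.comp (proj Q) := by
  classical
  let f₀ : FreeGroup Q →* X := FreeGroup.lift fun q => Function.surjInv hξ (γ q)
  have h₀ : ξ.comp f₀ = γ.comp (pres Q) := by
    ext q
    simp [f₀, pres, Function.surjInv_eq hξ]
  have hle : relCommutator Q ≤ f₀.ker := by
    rw [commutator_le]
    intro a ha b _
    have : f₀ a ∈ center X := hc (by
      have := DFunLike.congr_fun h₀ a
      rw [MonoidHom.comp_apply, MonoidHom.comp_apply, MonoidHom.mem_ker.1 ha, map_one] at this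
      exact this)
    rw [MonoidHom.mem_ker, map_commutatorElement, commutatorElement_eq_one_iff_mul_comm]
    exact (mem_center_iff.1 this _).symm
  refine ⟨QuotientGroup.lift _ f₀ hle, MonoidHom.ext fun x => ?_⟩
  induction x using QuotientGroup.induction_on with
  | H x => exact DFunLike.congr_fun h₀ x

/-- A map into a central extension which covers the quotient is onto the commutator subgroup. -/
theorem commutator_eq_map {E : Type u} {X : Type v} {Y : Type w} [Group E] [Group X] [Group Y]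
    (ξ : X →* Y) (hc : ξ.ker ≤ center X) (f : E →* X) (hf : Function.Surjective (ξ.comp f)) :
    commutator X = (commutator E).map f := by
  refine le_antisymm ?_ ?_
  · rw [commutator_def, commutator_le]
    intro x _ y _
    obtain ⟨a, ha⟩ := hf (ξ x)
    obtain ⟨b, hb⟩ := hf (ξ y)
    have hk : ∀ (z : X) (e : E), ξ.comp f e = ξ z → ∃ k ∈ center X, z = f e * k := fun z e h =>
      ⟨(f e)⁻¹ * z, hc (by
        rw [MonoidHom.mem_ker, map_mul, map_inv, ← MonoidHom.comp_apply, h, inv_mul_cancel]),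
        by group⟩
    obtain ⟨k, hk1, rfl⟩ := hk x a ha
    obtain ⟨l, hl1, rfl⟩ := hk y b hb
    refine ⟨⁅a, b⁆, commutator_mem_commutator (mem_top a) (mem_top b), ?_⟩
    rw [map_commutatorElement]
    simp only [commutatorElement_def, mul_inv_rev]
    have hk' : ∀ z : X, z * k = k * z := mem_center_iff.1 hk1
    have hl' : ∀ z : X, z * l = l * z := mem_center_iff.1 hl1
    calc f a * f b * (f a)⁻¹ * (f b)⁻¹
        = f a * f b * (f a)⁻¹ * (l * l⁻¹) * (f b)⁻¹ := by group
      _ = f a * f b * ((f a)⁻¹ * l) * l⁻¹ * (f b)⁻¹ := by group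
      _ = f a * f b * (l * (f a)⁻¹) * l⁻¹ * (f b)⁻¹ := by rw [hl']
      _ = f a * (k * k⁻¹) * (f b * l) * (f a)⁻¹ * (l⁻¹ * (f b)⁻¹) := by group
      _ = f a * k * (k⁻¹ * (f b * l)) * (f a)⁻¹ * (l⁻¹ * (f b)⁻¹) := by group
      _ = f a * k * (f b * l * k⁻¹) * (f a)⁻¹ * (l⁻¹ * (f b)⁻¹) := by
        rw [← mem_center_iff.1 (inv_mem hk1) (f b * l)]
      _ = f a * k * (f b * l) * (k⁻¹ * (f a)⁻¹) * (l⁻¹ * (f b)⁻¹) := by group
  · rw [commutator_def, map_commutator]
    exact commutator_mono le_top le_top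

/-- The multiplier maps onto `ker ξ ∩ X'` for every central extension `ξ : X → Q`. -/
theorem map_multiplier {X : Type v} [Group X] (ξ : X →* Q) (hc : ξ.ker ≤ center X)
    (f : Cov Q →* X) (hf : ξ.comp f = proj Q) :
    (multiplier Q).map f = ξ.ker ⊓ commutator X := by
  have hX := commutator_eq_map ξ hc f (by rw [hf]; exact proj_surjective Q)
  refine le_antisymm ?_ ?_
  · rintro _ ⟨x, ⟨hx1, hx2⟩, rfl⟩
    refine ⟨?_, hX ▸ mem_map_of_mem f hx2⟩
    show ξ (f x) = 1
    rw [← MonoidHom.comp_apply, hf]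
    exact hx1
  · rintro y ⟨hy1, hy2⟩
    rw [hX] at hy2
    obtain ⟨x, hx, rfl⟩ := hy2
    refine ⟨x, ⟨?_, hx⟩, rfl⟩
    show proj Q x = 1
    rw [← hf]
    exact hy1

theorem surjective_of_stem {X : Type v} [Group X] (ξ : X →* Q) (hs : IsStemExtension ξ)
    (f : Cov Q →* X) (hf : ξ.comp f = proj Q) : Function.Surjective f := by
  intro x
  obtain ⟨a, ha⟩ := proj_surjective Q (ξ x)
  have hk : (f a)⁻¹ * x ∈ ξ.ker ⊓ commutator X := by
    have h : (f a)⁻¹ * x ∈ ξ.ker := by
      rw [MonoidHom.mem_ker, map_mul, map_inv, ← MonoidHom.comp_apply, hf, ha, inv_mul_cancel]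
    exact ⟨h, hs.2.2 h⟩
  rw [← map_multiplier ξ hs.2.1 f hf] at hk
  obtain ⟨m, _, hm⟩ := hk
  exact ⟨a * m, by rw [map_mul, hm, mul_inv_cancel_left]⟩

/-- For a stem extension the multiplier maps onto the kernel. -/
theorem exists_mult_surjective {X : Type v} [Group X] (ξ : X →* Q) (hs : IsStemExtension ξ) :
    ∃ π : Mult Q →* ξ.ker, Function.Surjective π := by
  obtain ⟨f, hf⟩ := exists_lift ξ hs.1 hs.2.1 (MonoidHom.id Q)
  rw [MonoidHom.id_comp] at hf
  have h := map_multiplier ξ hs.2.1 f hf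
  rw [inf_eq_left.2 hs.2.2] at h
  refine ⟨(f.comp (multiplier Q).subtype).codRestrict ξ.ker fun m => h ▸ mem_map_of_mem f m.2, ?_⟩
  rintro ⟨y, hy⟩
  rw [← h] at hy
  obtain ⟨m, hm, rfl⟩ := hy
  exact ⟨⟨m, hm⟩, rfl⟩

variable (Q)

/-- The exponent-sum map. -/
noncomputable def degree : FreeGroup Q →* Multiplicative (Q →₀ ℤ) :=
  FreeGroup.lift fun q => Multiplicative.ofAdd (Finsupp.single q 1)

theorem mem_commutator_of_degree {x : FreeGroup Q} (hx : degree Q x = 1) :
    x ∈ commutator (FreeGroup Q) := by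
  let ψ : (Q →₀ ℤ) →+ Additive (Abelianization (FreeGroup Q)) :=
    Finsupp.liftAddHom fun q => zmultiplesHom _ (Additive.ofMul (Abelianization.of (FreeGroup.of q)))
  have h : (AddMonoidHom.toMultiplicativeLeft ψ).comp (degree Q) = Abelianization.of := by
    ext q
    simp [degree, ψ]
  have h1 := DFunLike.congr_fun h x
  rw [MonoidHom.comp_apply, hx, map_one] at h1
  rw [← Abelianization.ker_of]
  exact h1.symm

/-- The exponent-sum map on the free central extension. -/
noncomputable def covDegree : Cov Q →* Multiplicative (Q →₀ ℤ) :=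
  QuotientGroup.lift (relCommutator Q) (degree Q) (by
    rw [commutator_le]
    intro a _ b _
    rw [MonoidHom.mem_ker, map_commutatorElement, commutatorElement_eq_one_iff_mul_comm, mul_comm])

theorem mem_commutator_iff_covDegree {x : Cov Q} : x ∈ commutator (Cov Q) ↔ covDegree Q x = 1 := by
  constructor
  · exact fun h => Abelianization.commutator_subset_ker (covDegree Q) h
  · induction x using QuotientGroup.induction_on with
    | H x =>
      intro h
      have := mem_map_of_mem (QuotientGroup.mk' (relCommutator Q)) (mem_commutator_of_degree Q h)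
      rw [commutator_def, map_commutator] at this
      exact commutator_mono le_top le_top this

variable [Finite Q]

instance finite_commutator : Finite (commutator (Cov Q)) := by
  haveI : Finite (commutatorSet (Cov Q)) := by
    refine ((Set.finite_range fun ab : Q × Q => ⁅sec Q ab.1, sec Q ab.2⁆).subset ?_).to_subtype
    rintro _ ⟨a, b, rfl⟩
    refine ⟨(proj Q a, proj Q b), ?_⟩
    have hk : ∀ c : Cov Q, ∃ k ∈ center (Cov Q), c = sec Q (proj Q c) * k := fun c =>
      ⟨(sec Q (proj Q c))⁻¹ * c, ker_proj_le_center Q (by simp [MonoidHom.mem_ker]), by group⟩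
    obtain ⟨k, hk1, ha⟩ := hk a
    obtain ⟨l, hl1, hb⟩ := hk b
    show ⁅sec Q (proj Q a), sec Q (proj Q b)⁆ = ⁅a, b⁆
    conv_rhs => rw [ha, hb]
    generalize sec Q (proj Q a) = x, sec Q (proj Q b) = y
    simp only [commutatorElement_def, mul_inv_rev]
    have hl' := mem_center_iff.1 hl1
    calc x * y * x⁻¹ * y⁻¹ = x * y * x⁻¹ * (l * l⁻¹) * y⁻¹ := by group
      _ = x * y * (x⁻¹ * l) * l⁻¹ * y⁻¹ := by group
      _ = x * y * (l * x⁻¹) * l⁻¹ * y⁻¹ := by rw [hl']
      _ = x * k * (k⁻¹ * (y * l)) * x⁻¹ * (l⁻¹ * y⁻¹) := by group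
      _ = x * k * (y * l * k⁻¹) * x⁻¹ * (l⁻¹ * y⁻¹) := by
        rw [← mem_center_iff.1 (inv_mem hk1) (y * l)]
      _ = x * k * (y * l) * (k⁻¹ * x⁻¹) * (l⁻¹ * y⁻¹) := by group
  infer_instance

instance finite_multiplier : Finite (multiplier Q) :=
  Finite.of_injective (Subgroup.inclusion inf_le_right : multiplier Q → commutator (Cov Q))
    (Subgroup.inclusion_injective _)

/-- `R/[R,F]` retracts onto the multiplier, with kernel inside any supplement `L` of it. -/
theorem exists_retraction (L : Subgroup (Cov Q))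
    (hsup : (proj Q).ker ≤ L ⊓ (proj Q).ker ⊔ multiplier Q) : ∃ r : (proj Q).ker →* Mult Q,
    (∀ (m : Cov Q) (hm : m ∈ multiplier Q), r ⟨m, hm.1⟩ = ⟨m, hm⟩) ∧
      ∀ k, r k = 1 → (k : Cov Q) ∈ L := by
  classical
  letI : CommGroup (proj Q).ker :=
    { (inferInstance : Group (proj Q).ker) with
      mul_comm := fun a b => Subtype.ext (mem_center_iff.1 (ker_proj_le_center Q b.2) a) }
  let θ : Additive (proj Q).ker →ₗ[ℤ] (Q →₀ ℤ) :=
    (MonoidHom.toAdditiveLeft ((covDegree Q).comp (proj Q).ker.subtype)).toIntLinearMap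
  let ι : Additive ↥(L.subgroupOf (proj Q).ker) →ₗ[ℤ] Additive (proj Q).ker :=
    (MonoidHom.toAdditive (L.subgroupOf (proj Q).ker).subtype).toIntLinearMap
  let θL := θ.rangeRestrict.comp ι
  have hsurj : Function.Surjective θL := by
    rintro ⟨y, x, rfl⟩
    haveI : (multiplier Q).Normal := inferInstanceAs ((proj Q).ker ⊓ commutator (Cov Q)).Normal
    obtain ⟨l, hl, m, hm, hlm⟩ := Subgroup.mem_sup_of_normal_right.1
      (hsup (Additive.toMul x).2)
    refine ⟨Additive.ofMul ⟨⟨l, hl.2⟩, hl.1⟩, Subtype.ext ?_⟩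
    have h : covDegree Q l = covDegree Q ((Additive.toMul x : (proj Q).ker) : Cov Q) := by
      rw [← hlm, map_mul, (mem_commutator_iff_covDegree Q).1 hm.2, mul_one]
    exact congrArg Multiplicative.toAdd h
  obtain ⟨s, hs⟩ := Module.projective_lifting_property θL
    (LinearMap.id : LinearMap.range θ →ₗ[ℤ] LinearMap.range θ) hsurj
  have hs' : ∀ y, θ (ι (s y)) = y := fun y => congrArg Subtype.val (LinearMap.congr_fun hs y)
  let r₀ : Additive (proj Q).ker →ₗ[ℤ] Additive (proj Q).ker :=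
    LinearMap.id - (ι.comp s).comp θ.rangeRestrict
  let r₁ : (proj Q).ker →* (proj Q).ker := MonoidHom.toAdditive.symm r₀.toAddMonoidHom
  have hr : ∀ k : (proj Q).ker, covDegree Q (r₁ k : Cov Q) = 1 := by
    intro k
    have : θ (r₀ (Additive.ofMul k)) = 0 := by simp [r₀, hs']
    exact congrArg Multiplicative.ofAdd this
  refine ⟨(((proj Q).ker.subtype).comp r₁).codRestrict (multiplier Q) fun k =>
    ⟨(r₁ k).2, (mem_commutator_iff_covDegree Q).2 (hr k)⟩, fun m hm => Subtype.ext ?_,
    fun k hk => ?_⟩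
  · have h0 : θ.rangeRestrict (Additive.ofMul ⟨m, hm.1⟩) = 0 :=
      Subtype.ext (congrArg Multiplicative.toAdd ((mem_commutator_iff_covDegree Q).1 hm.2))
    have h1 : r₀ (Additive.ofMul ⟨m, hm.1⟩) = Additive.ofMul ⟨m, hm.1⟩ := by simp [r₀, h0]
    exact congrArg (fun z => ((Additive.toMul z : (proj Q).ker) : Cov Q)) h1
  · have h0 : r₀ (Additive.ofMul k) = 0 := by
      have h' : ((r₁ k : (proj Q).ker) : Cov Q) = 1 := congrArg Subtype.val hk
      have h : r₁ k = 1 := Subtype.ext h'
      exact congrArg Additive.ofMul h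
    have h1 : Additive.ofMul k = ι (s (θ.rangeRestrict (Additive.ofMul k))) :=
      sub_eq_zero.1 (by simpa [r₀] using h0)
    have h2 : k = ((Additive.toMul (s (θ.rangeRestrict (Additive.ofMul k))) :
        L.subgroupOf (proj Q).ker) : (proj Q).ker) := congrArg Additive.toMul h1
    rw [h2]
    exact (Additive.toMul (s (θ.rangeRestrict (Additive.ofMul k)))).2

/-- Every finite group has a Schur covering group, a quotient of the free central extension. -/
theorem exists_cover' (L : Subgroup (Cov Q))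
    (hsup : (proj Q).ker ≤ L ⊓ (proj Q).ker ⊔ multiplier Q) :
    ∃ (Γ : Type u) (_ : Group Γ) (_ : Finite Γ) (σ : Γ →* Q) (c : Cov Q →* Γ),
    IsStemExtension σ ∧ σ.comp c = proj Q ∧ Function.Surjective c ∧
      (∀ m ∈ multiplier Q, c m = 1 → m = 1) ∧ c.ker ≤ L ∧ Nonempty (σ.ker ≃* Mult Q) := by
  obtain ⟨r, hr, hrL⟩ := exists_retraction Q L hsup
  let C : Subgroup (Cov Q) := r.ker.map (proj Q).ker.subtype
  have hCK : C ≤ (proj Q).ker := map_subtype_le _
  haveI hCn : C.Normal := by
    refine ⟨fun x hx g => ?_⟩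
    rwa [(mem_center_iff.1 (ker_proj_le_center Q (hCK hx)) g), mul_inv_cancel_right]
  have hCM : ∀ m ∈ multiplier Q, m ∈ C → m = 1 := by
    rintro m hm ⟨k, hk, rfl⟩
    have := hr _ hm
    rw [show (⟨(proj Q).ker.subtype k, hm.1⟩ : (proj Q).ker) = k from rfl, MonoidHom.mem_ker.1 hk]
      at this
    exact congrArg Subtype.val this.symm
  let σ : Cov Q ⧸ C →* Q := QuotientGroup.lift C (proj Q) hCK
  have hdec : ∀ x ∈ (proj Q).ker, ∃ m ∈ multiplier Q,
      (QuotientGroup.mk x : Cov Q ⧸ C) = QuotientGroup.mk m := by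
    intro x hx
    refine ⟨r ⟨x, hx⟩, (r ⟨x, hx⟩).2, QuotientGroup.eq.2 ?_⟩
    refine ⟨⟨x⁻¹ * r ⟨x, hx⟩, mul_mem (inv_mem hx) (r ⟨x, hx⟩).2.1⟩, ?_, rfl⟩
    rw [SetLike.mem_coe, MonoidHom.mem_ker]
    have : (⟨x⁻¹ * r ⟨x, hx⟩, mul_mem (inv_mem hx) (r ⟨x, hx⟩).2.1⟩ : (proj Q).ker)
        = ⟨x, hx⟩⁻¹ * ⟨r ⟨x, hx⟩, (r ⟨x, hx⟩).2.1⟩ := rfl
    rw [this, map_mul, map_inv, hr _ (r ⟨x, hx⟩).2, inv_mul_cancel]
  have hker : σ.ker = (multiplier Q).map (QuotientGroup.mk' C) := by
    refine le_antisymm (fun y hy => ?_) ?_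
    · induction y using QuotientGroup.induction_on with
      | H y =>
        obtain ⟨m, hm, he⟩ := hdec y hy
        exact ⟨m, hm, he.symm⟩
    · rintro _ ⟨m, hm, rfl⟩
      exact hm.1
  let e : Mult Q →* σ.ker := ((QuotientGroup.mk' C).comp (multiplier Q).subtype).codRestrict σ.ker
    fun m => hker ▸ mem_map_of_mem _ m.2
  have he : Function.Bijective e := by
    refine ⟨(injective_iff_map_eq_one e).2 fun m hm => Subtype.ext (hCM _ m.2
      ((QuotientGroup.eq_one_iff _).1 (congrArg Subtype.val hm))), ?_⟩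
    rintro ⟨y, hy⟩
    rw [hker] at hy
    obtain ⟨m, hm, rfl⟩ := hy
    exact ⟨⟨m, hm⟩, rfl⟩
  haveI : Finite σ.ker := Finite.of_surjective e he.2
  haveI : Finite (Cov Q ⧸ C) := by
    have : Finite ((Cov Q ⧸ C) ⧸ σ.ker) :=
      Finite.of_injective _ (QuotientGroup.kerLift_injective σ)
    exact Finite.of_equiv _ (Subgroup.groupEquivQuotientProdSubgroup (s := σ.ker)).symm
  refine ⟨Cov Q ⧸ C, inferInstance, inferInstance, σ, QuotientGroup.mk' C, ⟨?_, ?_, ?_⟩, ?_,
    QuotientGroup.mk'_surjective C, fun m hm h => hCM m hm ((QuotientGroup.eq_one_iff m).1 h),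
    by rw [QuotientGroup.ker_mk']; rintro _ ⟨k, hk, rfl⟩; exact hrL k hk,
    ⟨(MulEquiv.ofBijective e he).symm⟩⟩
  · intro q
    exact ⟨QuotientGroup.mk (sec Q q), proj_sec Q q⟩
  · rw [hker]
    rintro _ ⟨m, hm, rfl⟩
    rw [mem_center_iff]
    intro g
    induction g using QuotientGroup.induction_on with
    | H g => exact congrArg _ (mem_center_iff.1 (multiplier_le_center Q hm) g)
  · rw [hker]
    rintro _ ⟨m, hm, rfl⟩
    have := mem_map_of_mem (QuotientGroup.mk' C) hm.2
    rw [commutator_def, map_commutator] at this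
    exact commutator_mono le_top le_top this
  · ext x; rfl

/-- Some Schur covering group. -/
theorem exists_cover : ∃ (Γ : Type u) (_ : Group Γ) (_ : Finite Γ) (σ : Γ →* Q) (c : Cov Q →* Γ),
    IsStemExtension σ ∧ σ.comp c = proj Q ∧ Function.Surjective c ∧
      (∀ m ∈ multiplier Q, c m = 1 → m = 1) ∧ Nonempty (σ.ker ≃* Mult Q) := by
  obtain ⟨Γ, i1, i2, σ, c, h1, h2, h3, h4, _, h5⟩ :=
    exists_cover' Q ⊤ (fun x hx => mem_sup_left ⟨mem_top x, hx⟩)
  exact ⟨Γ, i1, i2, σ, c, h1, h2, h3, h4, h5⟩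

theorem hasSchurMultiplier_mult : HasSchurMultiplier Q (Mult Q) := by
  obtain ⟨Γ, _, _, σ, c, hs, _, _, _, he⟩ := exists_cover Q
  exact ⟨⟨Γ, inferInstance, inferInstance, σ, hs, he⟩,
    fun Δ _ _ τ hτ => exists_mult_surjective τ hτ⟩

variable {Q}

/-- The multiplier is determined up to isomorphism. -/
theorem nonempty_equiv_mult {A : Type v} [CommGroup A] (hA : HasSchurMultiplier Q A) :
    Nonempty (A ≃* Mult Q) := by
  obtain ⟨⟨Γ, _, _, σ, hσ, ⟨e⟩⟩, hup⟩ := hA
  haveI : Finite A := Finite.of_equiv _ e.toEquiv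
  obtain ⟨Δ, _, _, τ, _, hτ, _, _, _, ⟨e'⟩⟩ := exists_cover Q
  obtain ⟨π, hπ⟩ := hup Δ τ hτ
  obtain ⟨π', hπ'⟩ := exists_mult_surjective σ hσ
  have h1 : Nat.card (Mult Q) ≤ Nat.card A :=
    Nat.card_le_card_of_surjective _ (e'.surjective.comp hπ)
  refine ⟨MulEquiv.ofBijective (e'.toMonoidHom.comp π)
    ((Nat.bijective_iff_surjective_and_card _).2 ⟨e'.surjective.comp hπ, le_antisymm ?_ h1⟩)⟩
  exact Nat.card_le_card_of_surjective _ (e.surjective.comp hπ')

theorem hasSchurMultiplier_iff {A : Type v} [CommGroup A] :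
    HasSchurMultiplier Q A ↔ Nonempty (A ≃* Mult Q) := by
  refine ⟨nonempty_equiv_mult, fun ⟨e⟩ => ?_⟩
  obtain ⟨⟨Γ, i1, i2, σ, hσ, ⟨e₁⟩⟩, hup⟩ := hasSchurMultiplier_mult Q
  refine ⟨⟨Γ, i1, i2, σ, hσ, ⟨e₁.trans e.symm⟩⟩, fun Δ _ _ τ hτ => ?_⟩
  obtain ⟨π, hπ⟩ := hup Δ τ hτ
  exact ⟨π.comp e.toMonoidHom, hπ.comp e.surjective⟩

/-- Trivial multiplier, the commutator form. -/
theorem hasCyclicSchurMultiplier_one_iff :
    HasCyclicSchurMultiplier Q 1 ↔ multiplier Q = ⊥ := by
  rw [HasCyclicSchurMultiplier, hasSchurMultiplier_iff]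
  constructor
  · rintro ⟨e⟩
    haveI : Subsingleton (Multiplicative (ZMod 1)) := inferInstanceAs (Subsingleton (ZMod 1))
    haveI : Subsingleton (multiplier Q) := e.symm.toEquiv.subsingleton
    exact Subgroup.eq_bot_of_subsingleton _
  · intro h
    haveI : Subsingleton (multiplier Q) := by rw [h]; infer_instance
    haveI : Subsingleton (Multiplicative (ZMod 1)) := inferInstanceAs (Subsingleton (ZMod 1))
    haveI := Classical.inhabited_of_nonempty (α := Mult Q) inferInstance
    exact ⟨{ toFun := fun _ => 1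
             invFun := fun _ => 1
             left_inv := fun _ => Subsingleton.elim _ _
             right_inv := fun _ => Subsingleton.elim _ _
             map_mul' := fun _ _ => (one_mul 1).symm }⟩

/-- A group with only trivial finite stem extensions has trivial multiplier. -/
theorem hasCyclicSchurMultiplier_one_of_forall
    (h : ∀ (Γ : Type u) [Group Γ] [Finite Γ] (σ : Γ →* Q), IsStemExtension σ → σ.ker = ⊥) :
    HasCyclicSchurMultiplier Q 1 := by
  obtain ⟨Γ, _, _, σ, c, hs, hc, _, hinj, _⟩ := exists_cover Q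
  rw [hasCyclicSchurMultiplier_one_iff, eq_bot_iff]
  intro m hm
  refine mem_bot.2 (hinj m hm ?_)
  have : c m ∈ σ.ker := by rw [MonoidHom.mem_ker, ← MonoidHom.comp_apply, hc]; exact hm.1
  rwa [h Γ σ hs, mem_bot] at this

/-- The multiplier is cyclic of order `n` when some stem extension has kernel of order `n` and
every one has cyclic kernel of order at most `n`. -/
theorem hasCyclicSchurMultiplier_of_bound {n : ℕ} {Γ₀ : Type v} [Group Γ₀] [Finite Γ₀]
    {σ₀ : Γ₀ →* Q} (hσ₀ : IsStemExtension σ₀) (hn : Nat.card σ₀.ker = n)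
    (h : ∀ (Γ : Type u) [Group Γ] [Finite Γ] (σ : Γ →* Q), IsStemExtension σ →
      IsCyclic σ.ker ∧ Nat.card σ.ker ≤ n) :
    HasCyclicSchurMultiplier Q n := by
  obtain ⟨Γ, _, _, σ, _, hs, _, _, _, ⟨e⟩⟩ := exists_cover Q
  obtain ⟨hcyc, hle⟩ := h Γ σ hs
  haveI : IsCyclic (Mult Q) := isCyclic_of_surjective e.toMonoidHom e.surjective
  obtain ⟨π, hπ⟩ := exists_mult_surjective σ₀ hσ₀
  have h1 : n ≤ Nat.card (Mult Q) := hn ▸ Nat.card_le_card_of_surjective _ hπ
  have hcard : Nat.card (Mult Q) = n :=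
    le_antisymm ((Nat.card_congr e.toEquiv).symm.le.trans hle) h1
  rw [HasCyclicSchurMultiplier, hasSchurMultiplier_iff]
  exact ⟨mulEquivOfCyclicCardEq (by rw [hcard]; exact Nat.card_zmod n)⟩

end CfsgLib.Schur
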