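import Mathlib

/-!
Transfer into the preimage of a subgroup of index prime to the order of a kernel element.
-/

set_option autoImplicit false

namespace CfsgLib.Schur.TransferKill

open Subgroup
open scoped commutatorElement

variable {Q Γ : Type*} [Group Q] [Group Γ] [Finite Γ] (σ : Γ →* Q)

/-- A kernel element in the commutator subgroup, of order prime to the index of `H`, is trivial when
the kernel meets the commutator of the preimage of `H` trivially. -/
theorem eq_one_of_transfer (hsurj : Function.Surjective σ) (hc : σ.ker ≤ center Γ) (H : Subgroup Q)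
    (hH : ∀ x ∈ ⁅H.comap σ, H.comap σ⁆, x ∈ σ.ker → x = 1) {k : Γ} (hk : k ∈ σ.ker)
    (hk' : k ∈ _root_.commutator Γ) {n : ℕ} (hn : k ^ n = 1) (hcop : n.Coprime H.index) : k = 1 := by
  set P := H.comap σ
  have h1 : MonoidHom.transfer (Abelianization.of : P →* _) k = 1 :=
    Abelianization.commutator_subset_ker _ hk'
  rw [MonoidHom.transfer_eq_pow _ k (fun n y _ => by
    rw [mul_assoc, ← (mem_center_iff.1 ((center Γ).pow_mem (hc hk) n) y),
      inv_mul_cancel_left])] at h1
  have h2 : k ^ P.index ∈ ⁅P, P⁆ := by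
    rw [← Subgroup.map_subtype_commutator]
    exact ⟨_, by rw [← Abelianization.ker_of]; exact h1, rfl⟩
  have h3 : k ^ H.index = 1 := by
    rw [← Subgroup.index_comap_of_surjective H hsurj]
    exact hH _ h2 (σ.ker.pow_mem hk _)
  have h4 : orderOf k ∣ Nat.gcd n H.index :=
    Nat.dvd_gcd (orderOf_dvd_of_pow_eq_one hn) (orderOf_dvd_of_pow_eq_one h3)
  rw [hcop] at h4
  exact orderOf_eq_one_iff.1 (Nat.dvd_one.1 h4)

/-- In a finite stem extension the kernel is prime to `p` as soon as the kernel meets the commutator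
of the preimage of some subgroup of index prime to `p` trivially. -/
theorem ker_coprime (hsurj : Function.Surjective σ) (hc : σ.ker ≤ center Γ)
    (hst : σ.ker ≤ _root_.commutator Γ) {p : ℕ} [hp : Fact p.Prime] (H : Subgroup Q)
    (hi : ¬ p ∣ H.index) (hH : ∀ x ∈ ⁅H.comap σ, H.comap σ⁆, x ∈ σ.ker → x = 1) :
    (Nat.card σ.ker).Coprime p := by
  rw [Nat.coprime_comm, hp.out.coprime_iff_not_dvd]
  intro hd
  obtain ⟨⟨k, hk⟩, hko⟩ := exists_prime_orderOf_dvd_card' p hd
  rw [← Subgroup.orderOf_coe] at hko
  change orderOf k = p at hko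
  have h := eq_one_of_transfer σ hsurj hc H hH hk (hst hk) (hko ▸ pow_orderOf_eq_one k)
    (hp.out.coprime_iff_not_dvd.2 hi)
  rw [h, orderOf_one] at hko
  exact hp.out.one_lt.ne hko

end CfsgLib.Schur.TransferKill
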