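import Mathlib
import Cfsg.Agent.Lib.Schur.Basic

/-!
Bounding commutator subgroups of central extensions of two-generator groups, and the central
extension defined by a pair of characters.
-/

set_option autoImplicit false

namespace CfsgLib.Schur

open Cfsg Subgroup
open scoped commutatorElement

universe u v

variable {Γ : Type u} [Group Γ]

/-- Lifts of generators generate modulo the centre. -/
theorem closure_union_center_eq_top {Q : Type v} [Group Q] (σ : Γ →* Q) (hc : σ.ker ≤ center Γ)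
    (S : Set Γ) (hS : Subgroup.closure (σ '' S) = ⊤) :
    Subgroup.closure (S ∪ (center Γ : Set Γ)) = ⊤ := by
  rw [eq_top_iff]
  intro g _
  have hg : σ g ∈ (Subgroup.closure S).map σ := by rw [MonoidHom.map_closure, hS]; exact mem_top _
  obtain ⟨y, hy, hye⟩ := hg
  rw [← mul_inv_cancel_left y g]
  refine mul_mem (Subgroup.closure_mono Set.subset_union_left hy)
    (subset_closure (Or.inr (hc ?_)))
  rw [MonoidHom.mem_ker, map_mul, map_inv, hye, inv_mul_cancel]

/-- If the generators outside the centre have commutators in the normal subgroup `N`, then `Γ' ≤ N`. -/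
theorem commutator_le_of_generators (S : Set Γ)
    (hgen : Subgroup.closure (S ∪ (center Γ : Set Γ)) = ⊤) (N : Subgroup Γ) [N.Normal]
    (h : ∀ s ∈ S, ∀ t ∈ S, ⁅s, t⁆ ∈ N) : commutator Γ ≤ N := by
  have hcomm : ∀ a ∈ (QuotientGroup.mk' N) '' (S ∪ (center Γ : Set Γ)),
      ∀ b ∈ (QuotientGroup.mk' N) '' (S ∪ (center Γ : Set Γ)), a * b = b * a := by
    rintro _ ⟨a, ha, rfl⟩ _ ⟨b, hb, rfl⟩
    rw [← map_mul, ← map_mul]
    rcases ha with ha | ha
    · rcases hb with hb | hb
      · rw [map_mul, map_mul, ← commutatorElement_eq_one_iff_mul_comm, ← map_commutatorElement]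
        exact (QuotientGroup.eq_one_iff _).2 (h a ha b hb)
      · rw [mem_center_iff.1 hb a]
    · rw [mem_center_iff.1 ha b]
  have htop : Subgroup.closure ((QuotientGroup.mk' N) '' (S ∪ (center Γ : Set Γ))) = ⊤ := by
    rw [← MonoidHom.map_closure, hgen, Subgroup.map_top_of_surjective _ (QuotientGroup.mk'_surjective N)]
  haveI := isMulCommutative_closure hcomm
  have hab : ∀ a b : Γ ⧸ N, a * b = b * a := fun a b =>
    congrArg Subtype.val (mul_comm' (⟨a, htop ▸ mem_top a⟩ : Subgroup.closure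
      ((QuotientGroup.mk' N) '' (S ∪ (center Γ : Set Γ)))) ⟨b, htop ▸ mem_top b⟩)
  rw [_root_.commutator_def, commutator_le]
  intro a _ b _
  rw [← QuotientGroup.eq_one_iff, ← QuotientGroup.mk'_apply, map_commutatorElement,
    commutatorElement_eq_one_iff_mul_comm]
  exact hab _ _

theorem conj_zpowers_mem {x w : Γ} (h : x * w * x⁻¹ ∈ zpowers w) {y : Γ} (hy : y ∈ zpowers w) :
    x * y * x⁻¹ ∈ zpowers w := by
  obtain ⟨i, rfl⟩ := mem_zpowers_iff.1 hy
  rw [← conj_zpow]
  exact zpow_mem h i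

/-- A cyclic subgroup whose generator is sent into it by a set of generators and their inverses is
normal. -/
theorem zpowers_normal_of_generators {w : Γ} (S : Set Γ)
    (hgen : Subgroup.closure (S ∪ (center Γ : Set Γ)) = ⊤)
    (h : ∀ s ∈ S, s * w * s⁻¹ = w ∨ s * w * s⁻¹ = w⁻¹) : (zpowers w).Normal := by
  rw [← normalizer_eq_top_iff, eq_top_iff, ← hgen, closure_le]
  intro s hs
  rw [SetLike.mem_coe, mem_normalizer_iff_map_conj_eq]
  show (zpowers w).map (MulAut.conj s).toMonoidHom = zpowers w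
  rw [MonoidHom.map_zpowers]
  show zpowers (s * w * s⁻¹) = zpowers w
  rcases hs with hs | hs
  · rcases h s hs with e | e <;> rw [e]
    exact zpowers_inv
  · rw [← mem_center_iff.1 hs w, mul_inv_cancel_right]

/-- Central extensions of dihedral type: `x a x⁻¹ a ∈ Z` and `a^n` commutes with `x`. -/
theorem commutator_le_zpowers_of_dihedral_type (a x : Γ)
    (hgen : Subgroup.closure ({a, x} ∪ (center Γ : Set Γ)) = ⊤) {k : Γ} (hk : k ∈ center Γ)
    (hrel : x * a * x⁻¹ = a⁻¹ * k) {n : ℕ} (hn : Commute (a ^ n) x) :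
    commutator Γ ≤ zpowers (a * a * k⁻¹) ∧ (a * a * k⁻¹) ^ n = 1 := by
  set w := a * a * k⁻¹ with hw
  have hkc : ∀ z, Commute z k := fun z => mem_center_iff.1 hk z
  have haw : Commute a w := ((Commute.refl a).mul_right (Commute.refl a)).mul_right (hkc a).inv_right
  have hxw : x * w * x⁻¹ = w⁻¹ := by
    calc x * w * x⁻¹ = (x * a * x⁻¹) * (x * a * x⁻¹) * (x * k⁻¹ * x⁻¹) := by rw [hw]; group
      _ = a⁻¹ * k * (a⁻¹ * k) * k⁻¹ := by rw [hrel, (hkc x).inv_right.eq, mul_inv_cancel_right]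
      _ = a⁻¹ * (k * a⁻¹) := by group
      _ = a⁻¹ * (a⁻¹ * k) := by rw [(hkc a⁻¹).eq]
      _ = k * (a⁻¹ * a⁻¹) := by rw [← mul_assoc, (hkc (a⁻¹ * a⁻¹)).eq]
      _ = w⁻¹ := by rw [hw]; group
  haveI : (zpowers w).Normal := by
    refine zpowers_normal_of_generators {a, x} hgen ?_
    rintro s (rfl | rfl)
    · exact Or.inl (by rw [haw.eq, mul_inv_cancel_right])
    · exact Or.inr hxw
  have hxa : ⁅x, a⁆ = w⁻¹ := by
    rw [commutatorElement_def, hrel, hw]
    calc a⁻¹ * k * a⁻¹ = a⁻¹ * (k * a⁻¹) := by group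
      _ = a⁻¹ * (a⁻¹ * k) := by rw [(hkc a⁻¹).eq]
      _ = k * (a⁻¹ * a⁻¹) := by rw [← mul_assoc, (hkc (a⁻¹ * a⁻¹)).eq]
      _ = (a * a * k⁻¹)⁻¹ := by group
  refine ⟨commutator_le_of_generators {a, x} hgen _ ?_, ?_⟩
  · rintro s (rfl | rfl) t (rfl | rfl)
    · simp
    · rw [← commutatorElement_inv, hxa]; exact inv_mem (inv_mem (mem_zpowers w))
    · rw [hxa]; exact inv_mem (mem_zpowers w)
    · simp
  · have h1 : (a⁻¹ * k) ^ n = a ^ n := by
      rw [← hrel, conj_pow, ← hn.eq, mul_inv_cancel_right]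
    rw [(hkc a⁻¹).mul_pow] at h1
    have h2 : k ^ n = a ^ n * a ^ n := by
      calc k ^ n = a ^ n * ((a⁻¹) ^ n * k ^ n) := by rw [inv_pow, mul_inv_cancel_left]
        _ = _ := by rw [h1]
    rw [hw, ((hkc (a * a)).inv_right).mul_pow, (Commute.refl a).mul_pow, inv_pow, h2, mul_inv_cancel]

/-- Central extensions of two-generator abelian groups: the commutator is central. -/
theorem commutator_le_zpowers_of_abelian_type (a b : Γ)
    (hgen : Subgroup.closure ({a, b} ∪ (center Γ : Set Γ)) = ⊤) (hc : ⁅a, b⁆ ∈ center Γ) {n : ℕ}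
    (hn : b ^ n ∈ center Γ) : commutator Γ ≤ zpowers ⁅a, b⁆ ∧ ⁅a, b⁆ ^ n = 1 := by
  haveI : (zpowers ⁅a, b⁆).Normal := by
    refine ⟨fun y hy g => ?_⟩
    rw [mem_center_iff.1 (zpowers_le.2 hc hy) g, mul_inv_cancel_right]
    exact hy
  refine ⟨commutator_le_of_generators {a, b} hgen _ ?_, ?_⟩
  · rintro s (rfl | rfl) t (rfl | rfl)
    · simp
    · exact mem_zpowers _
    · rw [← commutatorElement_inv t s]; exact inv_mem (mem_zpowers _)
    · simp
  · set c := ⁅a, b⁆ with hcd
    have h : a * b * a⁻¹ = c * b := by rw [hcd, commutatorElement_def]; group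
    have h1 : (a * b * a⁻¹) ^ n = b ^ n := by
      rw [conj_pow, mem_center_iff.1 hn a, mul_inv_cancel_right]
    rw [h, (Commute.symm (mem_center_iff.1 hc b : Commute b c)).mul_pow] at h1
    exact mul_eq_right.1 h1

/-- A cyclic bound for a kernel inside `⟨w⟩`. -/
theorem isCyclic_and_card_le {K : Subgroup Γ} [Finite Γ] {w : Γ} (h : K ≤ zpowers w) {n : ℕ}
    (hn : w ^ n = 1) (hn0 : 0 < n) : IsCyclic K ∧ Nat.card K ≤ n := by
  refine ⟨isCyclic_of_le h, ?_⟩
  refine le_trans (Nat.le_of_dvd Nat.card_pos (card_dvd_of_le h)) ?_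
  rw [Nat.card_zpowers]
  exact Nat.le_of_dvd hn0 (orderOf_dvd_of_pow_eq_one hn)

section Pairing

variable {G : Type v} [CommGroup G] {n : ℕ} (φ₁ φ₂ : G →* Multiplicative (ZMod n))

/-- The central extension of `G` by `ZMod n` with cocycle `(g,h) ↦ φ₁(g) φ₂(h)`. -/
@[ext] structure PairExt (φ₁ φ₂ : G →* Multiplicative (ZMod n)) : Type v where
  base : G
  val : ZMod n

/-- The underlying product. -/
def PairExt.equivProd : PairExt φ₁ φ₂ ≃ G × ZMod n :=
  { toFun := fun x => (x.base, x.val)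
    invFun := fun x => ⟨x.1, x.2⟩
    left_inv := fun _ => rfl
    right_inv := fun _ => rfl }

instance [Finite G] [NeZero n] : Finite (PairExt φ₁ φ₂) :=
  Finite.of_equiv _ (PairExt.equivProd φ₁ φ₂).symm

instance : Mul (PairExt φ₁ φ₂) :=
  ⟨fun x y => ⟨x.base * y.base, x.val + y.val + (φ₁ x.base).toAdd * (φ₂ y.base).toAdd⟩⟩

instance : One (PairExt φ₁ φ₂) := ⟨⟨1, 0⟩⟩

instance : Inv (PairExt φ₁ φ₂) :=
  ⟨fun x => ⟨x.base⁻¹, -x.val + (φ₁ x.base).toAdd * (φ₂ x.base).toAdd⟩⟩

@[simp] theorem PairExt.mul_base (x y : PairExt φ₁ φ₂) : (x * y).base = x.base * y.base := rfl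
@[simp] theorem PairExt.mul_val (x y : PairExt φ₁ φ₂) :
    (x * y).val = x.val + y.val + (φ₁ x.base).toAdd * (φ₂ y.base).toAdd := rfl
@[simp] theorem PairExt.one_base : (1 : PairExt φ₁ φ₂).base = 1 := rfl
@[simp] theorem PairExt.one_val : (1 : PairExt φ₁ φ₂).val = 0 := rfl
@[simp] theorem PairExt.inv_base (x : PairExt φ₁ φ₂) : x⁻¹.base = x.base⁻¹ := rfl
@[simp] theorem PairExt.inv_val (x : PairExt φ₁ φ₂) :
    x⁻¹.val = -x.val + (φ₁ x.base).toAdd * (φ₂ x.base).toAdd := rfl

instance : Group (PairExt φ₁ φ₂) where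
  mul_assoc x y z := by
    ext
    · simp [mul_assoc]
    · simp only [PairExt.mul_val, PairExt.mul_base, map_mul, toAdd_mul]; ring
  one_mul x := by ext <;> simp
  mul_one x := by ext <;> simp
  inv_mul_cancel x := by
    ext
    · simp
    · simp only [PairExt.mul_val, PairExt.inv_val, PairExt.inv_base, map_inv, toAdd_inv,
        PairExt.one_val]; ring

/-- The projection. -/
def PairExt.proj : PairExt φ₁ φ₂ →* G where
  toFun := PairExt.base
  map_one' := rfl
  map_mul' _ _ := rfl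

theorem PairExt.isStemExtension {g h : G} (hg : (φ₁ g).toAdd = 1) (hh : (φ₂ h).toAdd = 1)
    (hgh : (φ₂ g).toAdd = 0) :
    IsStemExtension (PairExt.proj φ₁ φ₂) ∧ Nat.card (PairExt.proj φ₁ φ₂).ker = n := by
  refine ⟨⟨fun x => ⟨⟨x, 0⟩, rfl⟩, ?_, ?_⟩, ?_⟩
  · intro x hx
    have hx' : x.base = 1 := hx
    rw [mem_center_iff]
    intro y
    ext
    · simp [hx']
    · simp only [PairExt.mul_val, hx', map_one, toAdd_one]; ring
  · intro x hx
    have hx' : x.base = 1 := hx
    set u : PairExt φ₁ φ₂ := ⟨g, 0⟩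
    set v : PairExt φ₁ φ₂ := ⟨h, 0⟩
    have huv : (⟨1, 1⟩ : PairExt φ₁ φ₂) = ⁅u, v⁆ := by
      rw [commutatorElement_def]
      ext
      · simp [u, v]
      · simp only [PairExt.mul_val, PairExt.mul_base, PairExt.inv_val, PairExt.inv_base, map_mul,
          map_inv, toAdd_mul, toAdd_inv, u, v, hg, hh, hgh]
        ring
    have hnat : ∀ i : ℕ, (⟨1, (i : ZMod n)⟩ : PairExt φ₁ φ₂) ∈ commutator (PairExt φ₁ φ₂) := by
      intro i
      induction i with
      | zero =>
        simp only [Nat.cast_zero]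
        exact one_mem _
      | succ i ih =>
        have h1 : (⟨1, 1⟩ : PairExt φ₁ φ₂) ∈ commutator (PairExt φ₁ φ₂) := by
          rw [huv, _root_.commutator_def]; exact commutator_mem_commutator (mem_top _) (mem_top _)
        convert mul_mem ih h1 using 1
        ext <;> simp
    obtain ⟨c, hcx⟩ := ZMod.intCast_surjective x.val
    have hx2 : x = (⟨1, (c : ZMod n)⟩ : PairExt φ₁ φ₂) := by ext <;> simp [hx', hcx]
    rw [hx2]
    obtain ⟨i, rfl | rfl⟩ := Int.eq_nat_or_neg c
    · simpa using hnat i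
    · have := inv_mem (hnat i)
      convert this using 1
      ext <;> simp
  · refine Eq.trans ?_ (Nat.card_zmod n)
    exact Nat.card_congr
      { toFun := fun x => x.1.val
        invFun := fun c => ⟨⟨1, c⟩, rfl⟩
        left_inv := fun x => Subtype.ext (by
          have hx' : x.1.base = 1 := x.2
          ext <;> simp [hx'])
        right_inv := fun _ => rfl }

end Pairing

end CfsgLib.Schur
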