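import Cfsg.Agent.Lib.Schur.RankTwoLift
import Cfsg.Agent.Lib.Schur.TransferKill
import Cfsg.Agent.Lib.KnownA.SL2Multiplier

/-!
A lifted rank one subgroup which is a copy of `SL₂` meets a kernel prime to `p` trivially.
-/

set_option autoImplicit false

namespace CfsgLib.Schur.RankTwo

open Subgroup
open scoped commutatorElement

universe u v w

/-- For primes `r ≠ p` some subgroup of index prime to `r` has no kernel in the commutator of its
preimages. -/
def PrimeTo (p : ℕ) (S : Type w) [Group S] : Prop :=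
  ∀ r : ℕ, r.Prime → r ≠ p → ∃ H : Subgroup S, ¬ r ∣ H.index ∧
    ∀ (Γ : Type v) [Group Γ] [Finite Γ] (σ : Γ →* S), Function.Surjective σ → σ.ker ≤ center Γ →
      ∀ x ∈ ⁅H.comap σ, H.comap σ⁆, x ∈ σ.ker → x = 1

theorem sylow_index_SL2 {F : Type w} [Field F] [Fintype F] (r : ℕ) [Fact r.Prime]
    (S : Sylow r (Matrix.SpecialLinearGroup (Fin 2) F)) :
    ¬ r ∣ (S : Subgroup (Matrix.SpecialLinearGroup (Fin 2) F)).index :=
  haveI : (S : Subgroup (Matrix.SpecialLinearGroup (Fin 2) F)).FiniteIndex :=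
    Subgroup.finiteIndex_of_finite
  @Sylow.not_dvd_index r _ _ _ S this

theorem primeTo_SL2 {F : Type w} [Field F] [Fintype F] (p : ℕ) [hp : Fact p.Prime] [CharP F p] :
    PrimeTo.{v} p (Matrix.SpecialLinearGroup (Fin 2) F) := by
  intro r hr hrp
  haveI := Fact.mk hr
  classical
  obtain ⟨S⟩ : Nonempty (Sylow r (Matrix.SpecialLinearGroup (Fin 2) F)) := inferInstance
  have h1 := sylow_index_SL2 r S
  refine ⟨(S : Subgroup (Matrix.SpecialLinearGroup (Fin 2) F)), h1, fun Γ _ _ σ hsurj hcen x hx hk => ?_⟩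
  by_cases hr2 : r = 2
  · subst hr2
    have h2 : (2 : F) ≠ 0 := fun h => hrp ((Nat.prime_dvd_prime_iff_eq hp.out Nat.prime_two).1
      ((CharP.cast_eq_zero_iff F p 2).1 h)).symm
    obtain ⟨k, -, ⟨e⟩⟩ := CfsgLib.Classical.sylow_two_SL2 h2 S
    haveI : NeZero (2 ^ k) := ⟨pow_ne_zero _ two_ne_zero⟩
    exact CfsgLib.Schur.sylow_condition_of_trivial σ hsurj hcen e
      (Cfsg.Agent.S3963.result (2 ^ k)) x hx hk
  · exact CfsgLib.Schur.sylow_condition_of_cyclic σ hcen
      (CfsgLib.Classical.sylow_odd_SL2_isCyclic p hr2 hrp S) x hx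

variable {G : Type u} [Group G] {p : ℕ} [hp : Fact p.Prime] {Γ : Type v} [Group Γ] [Finite Γ]
  (π : Γ →* G)

/-- A lifted rank one subgroup meets the kernel trivially. -/
theorem liftL_inf_ker (D : Datum p G) (s : Bool) (hsurj : Function.Surjective π)
    (hc : π.ker ≤ center Γ) (hco : (Nat.card π.ker).Coprime p) {S : Type w} [Group S] (φ : S →* G)
    (hφ : Function.Injective φ) (hL : φ.range = D.L s) (hS : PrimeTo.{v} p S) :
    liftL π D s ⊓ π.ker = ⊥ := by
  set L := liftL π D s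
  let e := MonoidHom.ofInjective hφ
  let ρ₀ : L →* φ.range := (π.comp L.subtype).codRestrict φ.range fun x => by
    rw [hL]; exact map_liftL_le π D s ⟨x, x.2, rfl⟩
  let ρ : L →* S := e.symm.toMonoidHom.comp ρ₀
  have hker : ∀ x : L, x ∈ ρ.ker ↔ (x : Γ) ∈ π.ker := by
    intro x
    show e.symm (ρ₀ x) = 1 ↔ _
    rw [map_eq_one_iff e.symm e.symm.injective, Subtype.ext_iff]
    rfl
  have hρs : Function.Surjective ρ := e.symm.surjective.comp fun y => by
    have hy : (y : G) ∈ D.L s := by rw [← hL]; exact y.2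
    rw [← map_liftL π D hsurj s] at hy
    obtain ⟨x, hx, ex⟩ := hy
    exact ⟨⟨x, hx⟩, Subtype.ext ex⟩
  have hρc : ρ.ker ≤ center L := fun x hx => by
    rw [mem_center_iff]
    exact fun y => Subtype.ext (mem_center_iff.1 (hc ((hker x).1 hx)) y)
  -- the kernel lies in the commutator subgroup
  have hab : ∀ a : L, ∃ j, (Abelianization.of a) ^ p ^ j = 1 := by
    rintro ⟨a, ha⟩
    have hgen : L = closure ({x | π x ∈ D.X s ∧ ∃ j, x ^ p ^ j = 1} ∪
        {x | π x ∈ (D.X s).map (MulAut.conj (D.n s)).toMonoidHom ∧ ∃ j, x ^ p ^ j = 1}) :=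
      (Subgroup.closure_union _ _).symm
    let K : Subgroup L :=
      { carrier := {a | ∃ j, (Abelianization.of a) ^ p ^ j = 1}
        one_mem' := ⟨0, by simp⟩
        mul_mem' := by
          rintro a b ⟨i, hi⟩ ⟨j, hj⟩
          refine ⟨i + j, ?_⟩
          rw [map_mul, mul_pow]
          conv_lhs => arg 1; rw [pow_add, pow_mul, hi, one_pow]
          rw [pow_add, mul_comm (p ^ i), pow_mul, hj, one_pow, one_mul]
        inv_mem' := by
          rintro a ⟨i, hi⟩
          exact ⟨i, by rw [map_inv, inv_pow, hi, inv_one]⟩ }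
    have hle : L ≤ K.map L.subtype := by
      conv_lhs => rw [hgen]
      rw [closure_le]
      intro x hx
      have hxL : x ∈ L := hgen ▸ subset_closure hx
      obtain ⟨j, hj⟩ : ∃ j, x ^ p ^ j = 1 := by
        rcases hx with ⟨-, hj⟩ | ⟨-, hj⟩ <;> exact hj
      exact ⟨⟨x, hxL⟩, ⟨j, by rw [← map_pow]; exact (congrArg _ (Subtype.ext hj)).trans (map_one _)⟩, rfl⟩
    obtain ⟨b, hb, eb⟩ := hle ha
    rwa [show b = ⟨a, ha⟩ from Subtype.ext eb] at hb
  have hst : ρ.ker ≤ _root_.commutator L := by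
    intro x hx
    rw [← Abelianization.ker_of, MonoidHom.mem_ker]
    obtain ⟨j, hj⟩ := hab x
    have h1 : (x : Γ) ^ Nat.card π.ker = 1 := by
      have := pow_card_eq_one' (x := (⟨x, (hker x).1 hx⟩ : π.ker))
      exact congrArg Subtype.val this
    have h2 : (Abelianization.of x) ^ Nat.card π.ker = 1 := by
      rw [← map_pow, show x ^ Nat.card π.ker = 1 from Subtype.ext h1, map_one]
    exact orderOf_eq_one_iff.1 (Nat.eq_one_of_dvd_coprimes (hco.pow_right j)
      (orderOf_dvd_of_pow_eq_one h2) (orderOf_dvd_of_pow_eq_one hj))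
  have hbot : ρ.ker = ⊥ := by
    refine Subgroup.eq_bot_of_card_eq _ ?_
    by_contra hne
    obtain ⟨r, hr, hd⟩ := Nat.exists_prime_and_dvd hne
    haveI := Fact.mk hr
    have hd' : r ∣ Nat.card π.ker := by
      obtain ⟨⟨x, hx⟩, ho⟩ := exists_prime_orderOf_dvd_card' r hd
      have h := orderOf_dvd_natCard (⟨(x : Γ), (hker x).1 hx⟩ : π.ker)
      rw [← Subgroup.orderOf_coe] at h
      rw [← ho, ← Subgroup.orderOf_coe, ← Subgroup.orderOf_coe]
      exact h
    have hrp : r ≠ p := fun e => hp.out.not_dvd_one (by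
      rw [← Nat.Coprime.gcd_eq_one hco]
      exact Nat.dvd_gcd (e ▸ hd') dvd_rfl)
    obtain ⟨H, hH, hcond⟩ := hS r hr hrp
    exact (hr.coprime_iff_not_dvd.1 (TransferKill.ker_coprime ρ hρs hρc hst H hH
      (hcond L ρ hρs hρc)).symm) hd
  rw [eq_bot_iff]
  rintro x ⟨hxL, hxk⟩
  have : (⟨x, hxL⟩ : L) ∈ ρ.ker := (hker _).2 hxk
  rw [hbot, mem_bot] at this
  exact mem_bot.2 (congrArg Subtype.val this)

end CfsgLib.Schur.RankTwo
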