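import Cfsg.Agent.Lib.Schur.Corestriction

/-!
A central extension by involutions of a subgroup of odd index that is stable under conjugation comes from a stem
extension of the whole group.
-/

set_option autoImplicit false

namespace CfsgLib.Schur

open Cfsg Subgroup MonoidHom
open scoped commutatorElement

universe u v

variable {G : Type u} [Group G]

/-- the elements over the part of `U` that conjugation by `g` keeps in `U` -/
def StableDom {Ũ : Type v} [Group Ũ] (ξ : Ũ →* G) (U : Subgroup G) (g : G) : Subgroup Ũ :=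
  (U.comap (MulAut.conj g).toMonoidHom).comap ξ

/-- conjugation by `g` lifts to the extension -/
def StableAt {Ũ : Type v} [Group Ũ] (ξ : Ũ →* G) (U : Subgroup G) (g : G) : Prop :=
  ∃ φ : ↥(StableDom ξ U g) →* Ũ, (∀ z, ξ (φ z) = g * ξ z * g⁻¹) ∧ ∀ z : ↥(StableDom ξ U g), ξ z = 1 → φ z = (z : Ũ)

theorem mem_stableDom {Ũ : Type v} [Group Ũ] {ξ : Ũ →* G} {U : Subgroup G} {g : G} {z : Ũ} :
    z ∈ StableDom ξ U g ↔ g * ξ z * g⁻¹ ∈ U := Iff.rfl

/-- stability is inherited along double cosets -/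
theorem StableAt.mul_mul {Ũ : Type v} [Group Ũ] {ξ : Ũ →* G} {U : Subgroup G} (hU : ξ.range = U)
    (hc : ξ.ker ≤ center Ũ) {g : G} (h : StableAt ξ U g) {u₁ u₂ : G} (h₁ : u₁ ∈ U) (h₂ : u₂ ∈ U) :
    StableAt ξ U (u₁ * g * u₂) := by
  obtain ⟨φ, hφ1, hφ2⟩ := h
  obtain ⟨a, ha⟩ := (hU ▸ h₁ : u₁ ∈ ξ.range)
  obtain ⟨b, hb⟩ := (hU ▸ h₂ : u₂ ∈ ξ.range)
  have hdom : ∀ z ∈ StableDom ξ U (u₁ * g * u₂), b * z * b⁻¹ ∈ StableDom ξ U g := by
    intro z hz
    rw [mem_stableDom] at hz ⊢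
    rw [map_mul, map_mul, map_inv, hb]
    have := mul_mem (mul_mem (inv_mem h₁) hz) h₁
    convert this using 1
    group
  refine ⟨{ toFun := fun z => a * φ ⟨_, hdom z z.2⟩ * a⁻¹, map_one' := ?_, map_mul' := ?_ },
    fun z => ?_, fun z hz => ?_⟩
  · rw [show (⟨b * ((1 : StableDom ξ U (u₁ * g * u₂)) : Ũ) * b⁻¹, hdom _ (one_mem _)⟩ : StableDom ξ U g) = 1 from
      Subtype.ext (by simp), map_one]
    simp
  · intro z w
    rw [show (⟨b * ((z * w : StableDom ξ U (u₁ * g * u₂)) : Ũ) * b⁻¹, hdom _ (z * w).2⟩ : StableDom ξ U g) =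
      ⟨_, hdom z z.2⟩ * ⟨_, hdom w w.2⟩ from Subtype.ext (by simp [mul_assoc]), map_mul]
    group
  · show ξ (a * φ _ * a⁻¹) = _
    rw [map_mul, map_mul, map_inv, hφ1, map_mul, map_mul, map_inv, ha, hb]
    group
  · show a * φ _ * a⁻¹ = (z : Ũ)
    have hz' : b * (z : Ũ) * b⁻¹ = z := by
      rw [mem_center_iff.1 (hc hz) b, mul_inv_cancel_right]
    rw [hφ2 _ (by show ξ (b * (z : Ũ) * b⁻¹) = 1; rw [hz', hz])]
    show a * (b * (z : Ũ) * b⁻¹) * a⁻¹ = z
    rw [hz', mem_center_iff.1 (hc hz) a, mul_inv_cancel_right]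

variable [Finite G]

/-- **stable extensions of a subgroup of odd index extend** -/
theorem exists_stem_of_stable (U : Subgroup G) (hodd : Odd U.index) (hperf : _root_.commutator G = ⊤)
    {Ũ : Type v} [Group Ũ] [Finite Ũ] (ξ : Ũ →* G) (hU : ξ.range = U) (hc : ξ.ker ≤ center Ũ)
    (h2 : ∀ a ∈ ξ.ker, a * a = 1) (hcm : ξ.ker ≤ _root_.commutator Ũ) (hst : ∀ g, StableAt ξ U g) :
    ∃ (Γ : Type u) (_ : Group Γ) (_ : Finite Γ) (σ : Γ →* G),
      IsStemExtension σ ∧ Nonempty (σ.ker ≃* ξ.ker) := by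
  classical
  let W : Subgroup (FreeGroup G) := U.comap (pres G)
  haveI : IsFreeGroup W := subgroupIsFreeOfIsFree W
  have hpres : Function.Surjective (pres G) := fun q => ⟨FreeGroup.of q, by simp [pres]⟩
  haveI hWfi : W.FiniteIndex := ⟨by
    rw [Subgroup.index_comap_of_surjective _ hpres]; exact Subgroup.index_ne_zero_of_finite⟩
  letI := W.fintypeQuotientOfFiniteIndex
  letI : CommGroup ξ.ker := { (inferInstance : Group ξ.ker) with
    mul_comm := fun a b => Subtype.ext (mem_center_iff.1 (hc b.2) a) }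
  choose pre hpre using fun u : U => (hU ▸ u.2 : (u : G) ∈ ξ.range)
  let h : W →* Ũ := IsFreeGroup.lift fun i => pre ⟨pres G (IsFreeGroup.of i : W), (IsFreeGroup.of i : W).2⟩
  have hh : ∀ w : W, ξ (h w) = pres G (w : FreeGroup G) := by
    refine DFunLike.congr_fun (?_ : ξ.comp h = (pres G).comp W.subtype)
    exact IsFreeGroup.ext_hom fun i => by simp [h, hpre]
  have hRW : ∀ (r : (pres G).ker) (a : FreeGroup G), a⁻¹ * r * a ∈ W := fun r a => by
    show pres G (a⁻¹ * r * a) ∈ U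
    rw [map_mul, map_mul, MonoidHom.mem_ker.1 r.2, mul_one, map_inv, inv_mul_cancel]
    exact one_mem U
  have hhk : ∀ (r : (pres G).ker) (a : FreeGroup G), h ⟨a⁻¹ * r * a, hRW r a⟩ ∈ ξ.ker := fun r a => by
    rw [MonoidHom.mem_ker, hh]
    show pres G (a⁻¹ * r * a) = 1
    rw [map_mul, map_mul, MonoidHom.mem_ker.1 r.2, mul_one, map_inv, inv_mul_cancel]
  let f : (pres G).ker → FreeGroup G → ξ.ker := fun r a => ⟨h ⟨a⁻¹ * r * a, hRW r a⟩, hhk r a⟩
  have findep : ∀ (r : (pres G).ker) (a b : FreeGroup G), (QuotientGroup.mk a : FreeGroup G ⧸ W) = QuotientGroup.mk b →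
      f r a = f r b := by
    intro r a b e
    have hw : b⁻¹ * a ∈ W := QuotientGroup.eq.1 e.symm
    refine Subtype.ext ?_
    show h ⟨a⁻¹ * r * a, _⟩ = h ⟨b⁻¹ * r * b, _⟩
    have he : (⟨a⁻¹ * (r : FreeGroup G) * a, hRW r a⟩ : W) = (⟨_, hw⟩ : W)⁻¹ * ⟨b⁻¹ * r * b, hRW r b⟩ * ⟨_, hw⟩ := by
      refine Subtype.ext ?_
      simp only [Subgroup.coe_mul, Subgroup.coe_inv]
      group
    rw [he, map_mul, map_mul, map_inv, mul_assoc, ← mem_center_iff.1 (hc (hhk r b)) _, inv_mul_cancel_left]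
  let α : FreeGroup G ⧸ W → FreeGroup G := fun q => q.out
  let N : (pres G).ker →* ξ.ker := MonoidHom.mk' (fun r => ∏ q : FreeGroup G ⧸ W, f r (α q)) fun r s => by
    rw [← Finset.prod_mul_distrib]
    refine Finset.prod_congr rfl fun q _ => Subtype.ext ?_
    show h _ = h _ * h _
    rw [← map_mul]
    congr 1
    refine Subtype.ext ?_
    show (α q)⁻¹ * ((r : FreeGroup G) * s) * α q = (α q)⁻¹ * r * α q * ((α q)⁻¹ * s * α q)
    group
  have hinv : ∀ (r : (pres G).ker) (a : FreeGroup G) (hm : a⁻¹ * (r : FreeGroup G) * a ∈ (pres G).ker),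
      N ⟨a⁻¹ * r * a, hm⟩ = N r := by
    intro r a hm
    refine Fintype.prod_equiv (MulAction.toPerm a) _ _ fun q => ?_
    refine Eq.trans ?_ (findep r (a * α q) (α (a • q)) ?_)
    · refine Subtype.ext ?_
      show h _ = h _
      congr 1
      refine Subtype.ext ?_
      show (α q)⁻¹ * (a⁻¹ * (r : FreeGroup G) * a) * α q = (a * α q)⁻¹ * r * (a * α q)
      group
    · show a • (QuotientGroup.mk (α q) : FreeGroup G ⧸ W) = QuotientGroup.mk (α (a • q))
      simp only [α, QuotientGroup.out_eq']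
  -- the key computation
  have hN : ∀ (r : (pres G).ker) (hr : (r : FreeGroup G) ∈ W), (⟨r, hr⟩ : W) ∈ _root_.commutator W →
      ∀ a : ξ.ker, h ⟨r, hr⟩ = a → N r = a := by
    intro r hr hrc a ha
    let Ω := Quotient (MulAction.orbitRel W (FreeGroup G ⧸ W))
    haveI : Fintype Ω := Fintype.ofFinite _
    let e := MulAction.selfEquivSigmaOrbitsQuotientStabilizer W (FreeGroup G ⧸ W)
    haveI hfi : ∀ ω : Ω, (MulAction.stabilizer W ω.out).FiniteIndex := fun ω => by
      refine ⟨?_⟩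
      rw [Subgroup.index_eq_card]
      haveI : Finite (W ⧸ MulAction.stabilizer W ω.out) :=
        Finite.of_equiv _ (MulAction.orbitEquivQuotientStabilizer W ω.out)
      exact Nat.card_pos.ne'
    letI : ∀ ω : Ω, Fintype (W ⧸ MulAction.stabilizer W ω.out) := fun ω =>
      (MulAction.stabilizer W ω.out).fintypeQuotientOfFiniteIndex
    have hterm : ∀ ω : Ω, ∏ v : W ⧸ MulAction.stabilizer W ω.out,
        f r (α (e.symm ⟨ω, v⟩)) = ∏ _v : W ⧸ MulAction.stabilizer W ω.out, a := by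
      intro ω
      set V := MulAction.stabilizer W ω.out
      set β := α ω.out
      have hβ : (QuotientGroup.mk β : FreeGroup G ⧸ W) = ω.out := QuotientGroup.out_eq' _
      have hVW : ∀ v : V, β⁻¹ * ((v : W) : FreeGroup G) * β ∈ W := fun v => by
        have e1 : ((v : W) : FreeGroup G) • (ω.out : FreeGroup G ⧸ W) = ω.out := v.2
        rw [← hβ] at e1
        have e2 : β⁻¹ * (((v : W) : FreeGroup G) * β) ∈ W := QuotientGroup.eq.1 e1.symm
        rwa [← mul_assoc] at e2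
      obtain ⟨φ, hφ1, hφ2⟩ := hst (pres G β)⁻¹
      have hD : ∀ v : V, h (v : W) ∈ StableDom ξ U (pres G β)⁻¹ := fun v => by
        rw [mem_stableDom, hh, inv_inv, ← map_inv, ← map_mul, ← map_mul]
        exact hVW v
      let δ : V →* ξ.ker := MonoidHom.mk' (fun v => ⟨h ⟨_, hVW v⟩ * (φ ⟨_, hD v⟩)⁻¹, by
          rw [MonoidHom.mem_ker, map_mul, map_inv, hh, hφ1, mul_inv_eq_one]
          show pres G (β⁻¹ * ((v : W) : FreeGroup G) * β) = (pres G β)⁻¹ * ξ (h (v : W)) * (pres G β)⁻¹⁻¹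
          rw [hh, map_mul, map_mul, map_inv, inv_inv]⟩) fun v w => Subtype.ext <| by
        show h _ * (φ _)⁻¹ = h _ * (φ _)⁻¹ * (h _ * (φ _)⁻¹)
        rw [show (⟨_, hVW (v * w)⟩ : W) = ⟨_, hVW v⟩ * ⟨_, hVW w⟩ from Subtype.ext (by simp; group),
          show (⟨_, hD (v * w)⟩ : StableDom ξ U (pres G β)⁻¹) = ⟨_, hD v⟩ * ⟨_, hD w⟩ from Subtype.ext (by simp),
          map_mul, map_mul, _root_.mul_inv_rev]
        have hk : h ⟨_, hVW w⟩ * (φ ⟨_, hD w⟩)⁻¹ ∈ ξ.ker := by
          rw [MonoidHom.mem_ker, map_mul, map_inv, hh, hφ1, mul_inv_eq_one]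
          show pres G (β⁻¹ * ((w : W) : FreeGroup G) * β) = (pres G β)⁻¹ * ξ (h (w : W)) * (pres G β)⁻¹⁻¹
          rw [hh, map_mul, map_mul, map_inv, inv_inv]
        rw [mul_assoc (h ⟨_, hVW v⟩) (φ ⟨_, hD v⟩)⁻¹, mem_center_iff.1 (hc hk) _]
        group
      let T : V.LeftTransversal := default
      let γ : W ⧸ V → W := fun v => ((T.2.leftQuotientEquiv v : (T : Set W)) : W)
      have hrV : ∀ w : W, w⁻¹ * ⟨r, hr⟩ * w ∈ V := fun w => by
        rw [MulAction.mem_stabilizer_iff]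
        show ((w⁻¹ * ⟨r, hr⟩ * w : W) : FreeGroup G) • (ω.out : FreeGroup G ⧸ W) = ω.out
        rw [← hβ]
        show (QuotientGroup.mk _ : FreeGroup G ⧸ W) = QuotientGroup.mk β
        rw [QuotientGroup.eq]
        have := inv_mem (hRW r ((w : FreeGroup G) * β))
        convert this using 1
        simp only [Subgroup.coe_mul, Subgroup.coe_inv, smul_eq_mul]
        group
      have hstep : ∀ v : W ⧸ V, f r (α (e.symm ⟨ω, v⟩)) = a * δ ⟨_, hrV (γ v)⟩ := by
        intro v
        have hes : e.symm ⟨ω, v⟩ = (QuotientGroup.mk ((γ v : FreeGroup G) * β) : FreeGroup G ⧸ W) := by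
          conv_lhs => rw [← T.2.quotientGroupMk_leftQuotientEquiv v]
          show (γ v : FreeGroup G) • (ω.out : FreeGroup G ⧸ W) = _
          rw [← hβ]; rfl
        rw [findep r (α (e.symm ⟨ω, v⟩)) ((γ v : FreeGroup G) * β) ((QuotientGroup.out_eq' _).trans hes)]
        refine Subtype.ext ?_
        show h _ = (a : Ũ) * (h _ * (φ _)⁻¹)
        have he : (φ ⟨_, hD ⟨_, hrV (γ v)⟩⟩) = a := by
          have hva : h (γ v)⁻¹ * (a : Ũ) * h (γ v) = a := by
            rw [mem_center_iff.1 (hc a.2), mul_assoc, ← map_mul, inv_mul_cancel, map_one, mul_one]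
          have hb : h ((γ v)⁻¹ * ⟨r, hr⟩ * γ v) = a := by rw [map_mul, map_mul, ha, hva]
          rw [hφ2 _ (show ξ (h _) = 1 by rw [hb]; exact a.2)]
          exact hb
        rw [he]
        have hcj : ∀ x : Ũ, (a : Ũ) * (x * (a : Ũ)⁻¹) = x := fun x => by
          rw [← mul_assoc, ← mem_center_iff.1 (hc a.2), mul_inv_cancel_right]
        refine Eq.trans ?_ (hcj _).symm
        congr 1
        refine Subtype.ext ?_
        simp only [Subgroup.coe_mul, Subgroup.coe_inv]
        group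
      rw [Finset.prod_congr rfl fun v _ => hstep v, Finset.prod_mul_distrib]
      have ht := transfer_eq_prod_conj δ T ⟨r, hr⟩ hrV
      rw [Abelianization.commutator_subset_ker (MonoidHom.transfer δ) hrc] at ht
      rw [show ∏ v : W ⧸ V, δ ⟨_, hrV (γ v)⟩ = 1 from ht.symm, mul_one]
    calc N r = ∏ p : (Σ ω : Ω, W ⧸ MulAction.stabilizer W ω.out), f r (α (e.symm p)) :=
          (Equiv.prod_comp e.symm fun q => f r (α q)).symm
      _ = ∏ p : (Σ ω : Ω, W ⧸ MulAction.stabilizer W ω.out), a := by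
          rw [Fintype.prod_sigma, Fintype.prod_sigma]
          exact Finset.prod_congr rfl fun ω _ => hterm ω
      _ = a ^ W.index := by
          rw [Finset.prod_const, Finset.card_univ, Fintype.card_congr e.symm, Subgroup.index_eq_card,
            Nat.card_eq_fintype_card]
      _ = a := by
          obtain ⟨k, hk⟩ := hodd
          rw [show W.index = U.index from Subgroup.index_comap_of_surjective _ hpres, hk, pow_succ, pow_mul, pow_two,
            show a * a = 1 from Subtype.ext (h2 a a.2), one_pow, one_mul]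
  -- commutators realise the kernel
  have hrep : ∀ a : ξ.ker, ∃ (r : (pres G).ker) (hr : (r : FreeGroup G) ∈ W),
      (⟨r, hr⟩ : W) ∈ _root_.commutator W ∧ h ⟨r, hr⟩ = a := by
    intro a
    have hle : _root_.commutator Ũ ≤ (_root_.commutator W).map h := by
      rw [_root_.commutator_def, _root_.commutator_def, Subgroup.commutator_le]
      intro x _ y _
      have hxy : ∀ z : Ũ, ∃ w : W, ∃ c ∈ ξ.ker, z = h w * c := fun z => by
        obtain ⟨p, hp⟩ := hpres (ξ z)
        refine ⟨⟨p, show pres G p ∈ U by rw [hp, ← hU]; exact ⟨z, rfl⟩⟩, _, ?_, (mul_inv_cancel_left _ z).symm⟩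
        rw [MonoidHom.mem_ker, map_mul, map_inv, hh, hp, inv_mul_cancel]
      obtain ⟨w, c, hcc, rfl⟩ := hxy x
      obtain ⟨w', c', hcc', rfl⟩ := hxy y
      refine ⟨⁅w, w'⁆, Subgroup.commutator_mem_commutator (mem_top _) (mem_top _), ?_⟩
      rw [map_commutatorElement]
      have h1 := mem_center_iff.1 (hc hcc)
      have h1' := mem_center_iff.1 (hc hcc')
      calc ⁅h w, h w'⁆ = h w * (h w' * c') * (c'⁻¹ * 1) * (h w)⁻¹ * (h w')⁻¹ := by
            rw [commutatorElement_def]; group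
        _ = h w * h w' * (c' * (h w)⁻¹) * c'⁻¹ * (h w')⁻¹ := by
            rw [← h1' (h w)⁻¹]; group
        _ = h w * ((h w' * c') * c) * c⁻¹ * (h w)⁻¹ * (c'⁻¹ * (h w')⁻¹) := by group
        _ = _ := by rw [h1 (h w' * c'), commutatorElement_def]; group
    obtain ⟨r, hrc, hra⟩ := hle (hcm a.2)
    exact ⟨⟨r, by rw [MonoidHom.mem_ker, ← hh, hra]; exact a.2⟩, r.2, hrc, hra⟩
  have hNs : Function.Surjective N := fun a => by
    obtain ⟨r, hr, hrc, hra⟩ := hrep a
    exact ⟨r, hN r hr hrc a hra⟩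
  -- the group
  let M : Subgroup (FreeGroup G) := N.ker.map (pres G).ker.subtype
  haveI : M.Normal := ⟨fun x hx g => by
    obtain ⟨r, hr, rfl⟩ := hx
    refine ⟨⟨g⁻¹⁻¹ * r * g⁻¹, by
      rw [MonoidHom.mem_ker, map_mul, map_mul, MonoidHom.mem_ker.1 r.2, mul_one, ← map_mul, inv_inv, mul_inv_cancel,
        map_one]⟩, ?_, by simp⟩
    rw [SetLike.mem_coe, MonoidHom.mem_ker, hinv]
    exact hr⟩
  have hMle : M ≤ (pres G).ker := fun x hx => by obtain ⟨r, -, rfl⟩ := hx; exact r.2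
  let σ : FreeGroup G ⧸ M →* G := QuotientGroup.lift M (pres G) hMle
  let π : (pres G).ker →* σ.ker := ((QuotientGroup.mk' M).comp (pres G).ker.subtype).codRestrict σ.ker fun r => r.2
  have hπ : Function.Surjective π := by
    rintro ⟨y, hy⟩
    obtain ⟨x, rfl⟩ := QuotientGroup.mk_surjective y
    exact ⟨⟨x, hy⟩, rfl⟩
  have hπk : π.ker = N.ker := by
    ext r
    constructor
    · intro hr
      obtain ⟨s, hs, e⟩ := (QuotientGroup.eq_one_iff _).1 (congrArg Subtype.val hr)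
      rwa [← Subtype.ext e]
    · intro hr
      exact Subtype.ext ((QuotientGroup.eq_one_iff _).2 ⟨r, hr, rfl⟩)
  let iso : σ.ker ≃* ξ.ker := (QuotientGroup.quotientKerEquivOfSurjective π hπ).symm.trans
    ((QuotientGroup.quotientMulEquivOfEq hπk).trans (QuotientGroup.quotientKerEquivOfSurjective N hNs))
  have hσs : Function.Surjective σ := fun q => by
    obtain ⟨x, hx⟩ := hpres q
    exact ⟨QuotientGroup.mk x, hx⟩
  haveI : Finite (FreeGroup G ⧸ M) := by
    haveI : Finite σ.ker := Finite.of_equiv _ iso.toEquiv.symm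
    haveI : Finite ((FreeGroup G ⧸ M) ⧸ σ.ker) :=
      Finite.of_equiv _ (QuotientGroup.quotientKerEquivOfSurjective σ hσs).toEquiv.symm
    exact Finite.of_equiv _ (Subgroup.groupEquivQuotientProdSubgroup (s := σ.ker)).symm
  refine ⟨_, inferInstance, inferInstance, σ, ⟨hσs, ?_, ?_⟩, ⟨iso⟩⟩
  · intro z hz
    obtain ⟨x, rfl⟩ := QuotientGroup.mk_surjective z
    rw [mem_center_iff]
    intro z'
    obtain ⟨y, rfl⟩ := QuotientGroup.mk_surjective z'
    have hx : pres G x = 1 := hz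
    show (QuotientGroup.mk (y * x) : FreeGroup G ⧸ M) = QuotientGroup.mk (x * y)
    rw [QuotientGroup.eq]
    refine ⟨⟨(y * x)⁻¹ * (x * y), ?_⟩, ?_, rfl⟩
    · rw [MonoidHom.mem_ker, map_mul, map_inv, map_mul, map_mul, show pres G x = 1 from hx]
      simp
    · have hxk : x ∈ (pres G).ker := hx
      rw [SetLike.mem_coe, MonoidHom.mem_ker,
        show (⟨(y * x)⁻¹ * (x * y), _⟩ : (pres G).ker) = ⟨x, hxk⟩⁻¹ * ⟨y⁻¹ * x * y, by
          rw [MonoidHom.mem_ker, map_mul, map_mul, MonoidHom.mem_ker.1 hxk, mul_one, map_inv, inv_mul_cancel]⟩ from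
          Subtype.ext (by simp; group),
        map_mul, map_inv, hinv ⟨x, hxk⟩ y, inv_mul_cancel]
  · intro y hy
    obtain ⟨r, hr⟩ := hπ ⟨y, hy⟩
    obtain ⟨r₀, hr₀, hr₀c, hr₀a⟩ := hrep (N r)
    have e : π r = π r₀ := by
      have : r₀⁻¹ * r ∈ π.ker := by rw [hπk, MonoidHom.mem_ker, map_mul, map_inv, hN r₀ hr₀ hr₀c _ hr₀a, inv_mul_cancel]
      rw [MonoidHom.mem_ker, map_mul, map_inv, inv_mul_eq_one] at this
      exact this.symm
    have e' : y = QuotientGroup.mk' M (r₀ : FreeGroup G) := (congrArg Subtype.val (hr.symm.trans e) :)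
    rw [e']
    have h3 : ((⟨r₀, hr₀⟩ : W) : FreeGroup G) ∈ _root_.commutator (FreeGroup G) := by
      have h4 := mem_map_of_mem W.subtype hr₀c
      rw [Subgroup.map_subtype_commutator] at h4
      exact Subgroup.commutator_mono le_top le_top h4
    have h5 := mem_map_of_mem (QuotientGroup.mk' M) h3
    rw [_root_.commutator_def, Subgroup.map_commutator] at h5
    exact Subgroup.commutator_mono le_top le_top h5

end CfsgLib.Schur
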