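import Mathlib
import Cfsg.Agent.Lib.Schur.Basic

/-!
Lifting projective representations, and consequences of triviality of the multiplier.
-/

set_option autoImplicit false

namespace CfsgLib.Schur

open Cfsg Subgroup

universe u v w

variable {Q : Type u} [Group Q]

/-- If `Γ` has trivial multiplier, a stem extension `σ : Γ → Q` has kernel isomorphic to the
multiplier of `Q`. -/
theorem mult_equiv_ker_of_trivial {Γ : Type v} [Group Γ] [Finite Γ] (σ : Γ →* Q)
    (hs : IsStemExtension σ) (hΓ : HasCyclicSchurMultiplier Γ 1) :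
    Nonempty (Mult Q ≃* σ.ker) := by
  obtain ⟨f, hf⟩ := exists_lift σ hs.1 hs.2.1 (MonoidHom.id Q)
  rw [MonoidHom.id_comp] at hf
  have hfs : Function.Surjective f := surjective_of_stem σ hs f hf
  have hfc : f.ker ≤ center (Cov Q) := fun x hx => ker_proj_le_center Q (by
    rw [← hf, MonoidHom.mem_ker, MonoidHom.comp_apply, MonoidHom.mem_ker.1 hx, map_one])
  obtain ⟨g, hg⟩ := exists_lift f hfs hfc (MonoidHom.id Γ)
  rw [MonoidHom.id_comp] at hg
  have h0 := map_multiplier f hfc g hg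
  rw [hasCyclicSchurMultiplier_one_iff.1 hΓ, Subgroup.map_bot] at h0
  have h := map_multiplier σ hs.2.1 f hf
  rw [inf_eq_left.2 hs.2.2] at h
  let e : Mult Q →* σ.ker :=
    (f.comp (multiplier Q).subtype).codRestrict σ.ker fun m => h ▸ mem_map_of_mem f m.2
  refine ⟨MulEquiv.ofBijective e ⟨(injective_iff_map_eq_one e).2 fun m hm => Subtype.ext ?_, ?_⟩⟩
  · have : (m : Cov Q) ∈ f.ker ⊓ commutator (Cov Q) := ⟨congrArg Subtype.val hm, m.2.2⟩
    rw [← h0, mem_bot] at this
    exact this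
  · rintro ⟨y, hy⟩
    rw [← h] at hy
    obtain ⟨m, hm, rfl⟩ := hy
    exact ⟨⟨m, hm⟩, rfl⟩

/-- In a covering group the multiplier embeds. -/
theorem injOn_multiplier_of_cover [Finite Q] {Γ : Type v} [Group Γ] [Finite Γ] (σ : Γ →* Q)
    (hs : IsStemExtension σ) (hcard : Nat.card (Mult Q) = Nat.card σ.ker) (f : Cov Q →* Γ)
    (hf : σ.comp f = proj Q) : ∀ m ∈ multiplier Q, f m = 1 → m = 1 := by
  have h := map_multiplier σ hs.2.1 f hf
  rw [inf_eq_left.2 hs.2.2] at h
  let e : Mult Q →* σ.ker :=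
    (f.comp (multiplier Q).subtype).codRestrict σ.ker fun m => h ▸ mem_map_of_mem f m.2
  have he : Function.Surjective e := by
    rintro ⟨y, hy⟩
    rw [← h] at hy
    obtain ⟨m, hm, rfl⟩ := hy
    exact ⟨⟨m, hm⟩, rfl⟩
  have hb := (Nat.bijective_iff_surjective_and_card e).2 ⟨he, hcard⟩
  intro m hm h1
  exact congrArg Subtype.val (hb.1 (a₁ := ⟨m, hm⟩) (a₂ := 1) (Subtype.ext (by simpa [e] using h1)))

/-- A divisible abelian group receives extensions of homomorphisms defined on subgroups of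
abelian groups. -/
theorem exists_hom_extension {D : Type v} [CommGroup D]
    (hdiv : ∀ n : ℕ, n ≠ 0 → Function.Surjective fun d : D => d ^ n)
    {A : Type w} [CommGroup A] {B : Type w} [CommGroup B] (i : B →* A) (hi : Function.Injective i)
    (χ : B →* D) : ∃ χ' : A →* D, χ'.comp i = χ := by
  haveI : RootableBy D ℕ := rootableByOfPowLeftSurj D ℕ fun {n} hn => hdiv n hn
  haveI : RootableBy D ℤ := Group.rootableByIntOfRootableByNat D
  haveI : DivisibleBy (Additive D) ℤ :=
    { div := fun a n => Additive.ofMul (RootableBy.root (Additive.toMul a) n)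
      div_zero := fun a => congrArg Additive.ofMul (RootableBy.root_zero _)
      div_cancel := fun a hn => congrArg Additive.ofMul (RootableBy.root_cancel _ hn) }
  obtain ⟨h, hh⟩ := (Module.Baer.of_divisible (Additive D)).extension_property_addMonoidHom
    (MonoidHom.toAdditive i) (fun a b hab => hi hab) (MonoidHom.toAdditive χ)
  refine ⟨MonoidHom.toAdditive.symm h, MonoidHom.ext fun x => ?_⟩
  exact congrArg Additive.toMul (DFunLike.congr_fun hh (Additive.ofMul x))

theorem units_pow_surjective : ∀ n : ℕ, n ≠ 0 → Function.Surjective fun d : ℂˣ => d ^ n := by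
  intro n hn d
  obtain ⟨z, hz⟩ := IsAlgClosed.exists_pow_nat_eq (d : ℂ) (Nat.pos_of_ne_zero hn)
  have hz0 : z ≠ 0 := by rintro rfl; rw [zero_pow hn] at hz; exact d.ne_zero hz.symm
  exact ⟨Units.mk0 z hz0, Units.ext hz⟩

/-- The scalar matrices. -/
noncomputable def scalarHom (n : ℕ) : ℂˣ →* GL (Fin n) ℂ :=
  Units.map (Matrix.scalar (Fin n)).toMonoidHom

theorem scalarHom_val (n : ℕ) (z : ℂˣ) :
    ((scalarHom n z : GL (Fin n) ℂ) : Matrix (Fin n) (Fin n) ℂ) = Matrix.scalar (Fin n) (z : ℂ) :=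
  rfl

theorem scalarHom_mem_center (n : ℕ) (z : ℂˣ) : scalarHom n z ∈ center (GL (Fin n) ℂ) := by
  rw [Matrix.GeneralLinearGroup.mem_center_iff_val_eq_scalar]
  exact ⟨(z : ℂ), (scalarHom_val n z).symm⟩

theorem scalarHom_injective {n : ℕ} (hn : 0 < n) : Function.Injective (scalarHom n) := by
  intro a b h
  have h1 := congrArg (fun g : GL (Fin n) ℂ => (g : Matrix (Fin n) (Fin n) ℂ) ⟨0, hn⟩ ⟨0, hn⟩) h
  simp only [scalarHom_val, Matrix.scalar_apply, Matrix.diagonal_apply_eq] at h1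
  exact Units.ext h1

theorem center_pow_surjective (d : ℕ) : ∀ n : ℕ, n ≠ 0 →
    Function.Surjective fun z : center (GL (Fin d) ℂ) => z ^ n := by
  intro n hn z
  obtain ⟨c, hc⟩ := Matrix.GeneralLinearGroup.mem_center_iff_val_eq_scalar.1 z.2
  rcases eq_or_ne d 0 with rfl | hd
  · exact ⟨1, Subtype.ext (Units.ext (Matrix.ext fun i => i.elim0))⟩
  · have hc0 : c ≠ 0 := by
      rintro rfl
      have hu : IsUnit ((z : GL (Fin d) ℂ) : Matrix (Fin d) (Fin d) ℂ) := Units.isUnit _
      rw [← hc, map_zero] at hu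
      haveI : Nonempty (Fin d) := ⟨⟨0, Nat.pos_of_ne_zero hd⟩⟩
      exact not_isUnit_zero hu
    obtain ⟨w, hw⟩ := units_pow_surjective n hn (Units.mk0 c hc0)
    refine ⟨⟨scalarHom d w, scalarHom_mem_center d w⟩, Subtype.ext (Units.ext ?_)⟩
    show ((scalarHom d w ^ n : GL (Fin d) ℂ) : Matrix (Fin d) (Fin d) ℂ) = _
    rw [← map_pow, show w ^ n = Units.mk0 c hc0 from hw, scalarHom_val, ← hc]
    rfl

/-- Homomorphisms into `GL/Z` lift along covering groups. -/
theorem exists_projective_lift [Finite Q] {Γ : Type v} [Group Γ] [Finite Γ] (σ : Γ →* Q)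
    (hs : IsStemExtension σ) (hcard : Nat.card (Mult Q) = Nat.card σ.ker) (n : ℕ)
    (γ : Q →* GL (Fin n) ℂ ⧸ center (GL (Fin n) ℂ)) :
    ∃ ρ : Γ →* GL (Fin n) ℂ, (QuotientGroup.mk' (center (GL (Fin n) ℂ))).comp ρ = γ.comp σ := by
  obtain ⟨f, hf⟩ := exists_lift σ hs.1 hs.2.1 (MonoidHom.id Q)
  rw [MonoidHom.id_comp] at hf
  have hfs := surjective_of_stem σ hs f hf
  obtain ⟨g, hg⟩ := exists_lift (QuotientGroup.mk' (center (GL (Fin n) ℂ)))
    (QuotientGroup.mk'_surjective _) (by rw [QuotientGroup.ker_mk']) γ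
  have hfk : f.ker ≤ (proj Q).ker := fun x hx => by
    rw [← hf, MonoidHom.mem_ker, MonoidHom.comp_apply, MonoidHom.mem_ker.1 hx, map_one]
  have hgc : ∀ x ∈ f.ker, g x ∈ center (GL (Fin n) ℂ) := fun x hx => by
    rw [← QuotientGroup.eq_one_iff, ← QuotientGroup.mk'_apply, ← MonoidHom.comp_apply, hg,
      MonoidHom.comp_apply, MonoidHom.mem_ker.1 (hfk hx), map_one]
  letI : CommGroup (center (GL (Fin n) ℂ)) :=
    { (inferInstance : Group (center (GL (Fin n) ℂ))) with
      mul_comm := fun a b => Subtype.ext (mem_center_iff.1 b.2 a) }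
  letI : CommGroup f.ker :=
    { (inferInstance : Group f.ker) with
      mul_comm := fun a b => Subtype.ext (mem_center_iff.1 (ker_proj_le_center Q (hfk b.2)) a) }
  let χ : f.ker →* center (GL (Fin n) ℂ) :=
    (g.comp f.ker.subtype).codRestrict (center (GL (Fin n) ℂ)) fun x => hgc x x.2
  have hinj : Function.Injective (Abelianization.of.comp f.ker.subtype) := by
    refine (injective_iff_map_eq_one _).2 fun x hx => Subtype.ext ?_
    have h1 : (x : Cov Q) ∈ commutator (Cov Q) := by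
      rw [← Abelianization.ker_of]; exact hx
    exact injOn_multiplier_of_cover σ hs hcard f hf x ⟨hfk x.2, h1⟩ x.2
  obtain ⟨χ', hχ'⟩ := exists_hom_extension (center_pow_surjective n) _ hinj χ
  let g' : Cov Q →* GL (Fin n) ℂ :=
    { toFun := fun x => g x * ((χ' (Abelianization.of x))⁻¹ : center (GL (Fin n) ℂ))
      map_one' := by simp
      map_mul' := fun x y => by
        simp only [map_mul, mul_inv, Subgroup.coe_mul]
        have h1 : ∀ (z : center (GL (Fin n) ℂ)) (a : GL (Fin n) ℂ), Commute a z :=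
          fun z a => mem_center_iff.1 z.2 a
        exact (h1 _ (g y)).mul_mul_mul_comm (g x) _ }
  have hk : f.ker ≤ g'.ker := by
    intro x hx
    have h1 := DFunLike.congr_fun hχ' ⟨x, hx⟩
    have h2 : χ' (Abelianization.of x) = χ ⟨x, hx⟩ := h1
    show g x * ((χ' (Abelianization.of x))⁻¹ : center (GL (Fin n) ℂ)) = 1
    rw [h2, Subgroup.coe_inv]
    exact mul_inv_cancel (g x)
  refine ⟨f.liftOfSurjective hfs ⟨g', hk⟩, MonoidHom.ext fun y => ?_⟩
  obtain ⟨x, rfl⟩ := hfs y
  rw [MonoidHom.comp_apply, MonoidHom.comp_apply, MonoidHom.liftOfRightInverse_comp_apply,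
    ← MonoidHom.comp_apply σ, hf, ← MonoidHom.comp_apply γ, ← hg]
  show QuotientGroup.mk' _ (g x * _) = QuotientGroup.mk' _ (g x)
  rw [map_mul, QuotientGroup.mk'_apply _ (((χ' (Abelianization.of x))⁻¹ : center (GL (Fin n) ℂ)) :
    GL (Fin n) ℂ), (QuotientGroup.eq_one_iff _).2 ((χ' (Abelianization.of x))⁻¹).2, mul_one]

/-- Induced representations from central characters. -/
theorem exists_rep_with_central_char {Γ : Type v} [Group Γ] [Finite Γ] (Z : Subgroup Γ)
    (hZ : Z ≤ center Γ) (χ : Z →* ℂˣ) :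
    ∃ (n : ℕ) (ρ : Γ →* GL (Fin n) ℂ), 0 < n ∧ ∀ z : Z, ρ z = scalarHom n (χ z) := by
  classical
  let W : Submodule ℂ (Γ → ℂ) :=
    { carrier := {f | ∀ (z : Z) (x : Γ), f (z * x) = (χ z : ℂ) * f x}
      add_mem' := fun {a b} ha hb z x => by simp only [Pi.add_apply, ha z x, hb z x, mul_add]
      zero_mem' := fun z x => by simp
      smul_mem' := fun c a ha z x => by simp only [Pi.smul_apply, smul_eq_mul, ha z x]; ring }
  let R : Γ →* Module.End ℂ W :=
    { toFun := fun g =>
        { toFun := fun f => ⟨fun x => (f : Γ → ℂ) (x * g), fun z x => by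
            show (f : Γ → ℂ) (z * x * g) = _
            rw [mul_assoc]; exact f.2 z (x * g)⟩
          map_add' := fun _ _ => rfl
          map_smul' := fun _ _ => rfl }
      map_one' := LinearMap.ext fun f => Subtype.ext (funext fun x => congrArg _ (mul_one x))
      map_mul' := fun g h => LinearMap.ext fun f => Subtype.ext (funext fun x =>
        congrArg _ (mul_assoc x g h).symm) }
  let f₀ : Γ → ℂ := fun x => if hx : x ∈ Z then (χ ⟨x, hx⟩ : ℂ) else 0
  have hf₀ : f₀ ∈ W := by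
    intro z x
    by_cases hx : x ∈ Z
    · simp only [f₀, dif_pos hx, dif_pos (Z.mul_mem z.2 hx)]
      rw [← Units.val_mul, ← map_mul]
      rfl
    · have hzx : (z : Γ) * x ∉ Z := fun h => hx ((Z.mul_mem_cancel_left z.2).1 h)
      simp [f₀, hx, hzx]
  haveI : Nontrivial W := ⟨⟨f₀, hf₀⟩, 0, fun h => by
    have h1 := congrFun (congrArg Subtype.val h) 1
    simp [f₀, show (⟨1, Z.one_mem⟩ : Z) = 1 from rfl, Z.one_mem] at h1⟩
  let b := Module.finBasis ℂ W
  let T : Γ →* Matrix (Fin (Module.finrank ℂ W)) (Fin (Module.finrank ℂ W)) ℂ :=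
    (LinearMap.toMatrixAlgEquiv b).toAlgHom.toRingHom.toMonoidHom.comp R
  refine ⟨Module.finrank ℂ W, T.toHomUnits, Module.finrank_pos, fun z => Units.ext ?_⟩
  rw [scalarHom_val]
  show LinearMap.toMatrixAlgEquiv b (R z) = _
  have hRz : R z = algebraMap ℂ (Module.End ℂ W) (χ z : ℂ) := by
    refine LinearMap.ext fun f => Subtype.ext (funext fun x => ?_)
    show (f : Γ → ℂ) (x * z) = (χ z : ℂ) * (f : Γ → ℂ) x
    rw [mem_center_iff.1 (hZ z.2) x]
    exact f.2 z x
  rw [hRz, AlgEquiv.commutes]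
  rfl

/-- If the projective representations of `Q` lift along a stem extension `σ`, the latter is a
covering. -/
theorem injOn_of_projective_lift [Finite Q] {Γ : Type v} [Group Γ] [Finite Γ] (σ : Γ →* Q)
    (hs : IsStemExtension σ) (f : Cov Q →* Γ) (hf : σ.comp f = proj Q)
    (hlift : ∀ (n : ℕ) (γ : Q →* GL (Fin n) ℂ ⧸ center (GL (Fin n) ℂ)), ∃ ρ : Γ →* GL (Fin n) ℂ,
      (QuotientGroup.mk' (center (GL (Fin n) ℂ))).comp ρ = γ.comp σ) :
    ∀ m ∈ multiplier Q, f m = 1 → m = 1 := by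
  obtain ⟨Δ, _, _, τ, c, ht, hc, hcs, hinj, -⟩ := exists_cover Q
  intro m hm hfm
  refine hinj m hm ?_
  by_contra hne
  letI : CommGroup τ.ker :=
    { (inferInstance : Group τ.ker) with
      mul_comm := fun a b => Subtype.ext (mem_center_iff.1 (ht.2.1 b.2) a) }
  have hmem : c m ∈ τ.ker := by
    rw [MonoidHom.mem_ker, ← MonoidHom.comp_apply, hc]; exact hm.1
  obtain ⟨χ, hχ⟩ := CommGroup.exists_apply_ne_one_of_hasEnoughRootsOfUnity τ.ker ℂ
    (a := (⟨c m, hmem⟩ : τ.ker)) (fun h => hne (congrArg Subtype.val h))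
  obtain ⟨n, R, hn, hR⟩ := exists_rep_with_central_char τ.ker ht.2.1 χ
  have hk : τ.ker ≤ ((QuotientGroup.mk' (center (GL (Fin n) ℂ))).comp R).ker := fun z hz => by
    rw [MonoidHom.mem_ker, MonoidHom.comp_apply, QuotientGroup.mk'_apply,
      QuotientGroup.eq_one_iff, hR ⟨z, hz⟩]
    exact scalarHom_mem_center n _
  obtain ⟨ρ, hρ⟩ := hlift n (τ.liftOfSurjective ht.1 ⟨_, hk⟩)
  -- both representations agree modulo the centre, so on commutators
  have hdiff : ∀ x : Cov Q, (R (c x))⁻¹ * ρ (f x) ∈ center (GL (Fin n) ℂ) := by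
    intro x
    rw [← QuotientGroup.eq_one_iff, ← QuotientGroup.mk'_apply, map_mul, map_inv]
    have h1 := DFunLike.congr_fun hρ (f x)
    simp only [MonoidHom.comp_apply] at h1
    rw [h1, ← MonoidHom.comp_apply σ, hf, ← hc, MonoidHom.comp_apply,
      MonoidHom.liftOfRightInverse_comp_apply]
    exact inv_mul_cancel _
  let d : Cov Q →* center (GL (Fin n) ℂ) :=
    { toFun := fun x => ⟨(R (c x))⁻¹ * ρ (f x), hdiff x⟩
      map_one' := Subtype.ext (by simp)
      map_mul' := fun x y => Subtype.ext (by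
        simp only [map_mul, mul_inv_rev, Subgroup.coe_mul]
        rw [mul_assoc (R (c y))⁻¹, ← mul_assoc (R (c x))⁻¹, ← mul_assoc (R (c y))⁻¹,
          mem_center_iff.1 (hdiff x), mul_assoc]) }
  letI : CommGroup (center (GL (Fin n) ℂ)) :=
    { (inferInstance : Group (center (GL (Fin n) ℂ))) with
      mul_comm := fun a b => Subtype.ext (mem_center_iff.1 b.2 a) }
  have hd : d m = 1 := Abelianization.commutator_subset_ker d hm.2
  have h2 : R (c m) = 1 := by
    have h3 : (R (c m))⁻¹ * ρ (f m) = 1 := congrArg Subtype.val hd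
    rwa [hfm, map_one, mul_one, inv_eq_one] at h3
  rw [hR ⟨c m, hmem⟩] at h2
  exact hχ (scalarHom_injective hn (h2.trans (map_one _).symm))

end CfsgLib.Schur
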