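import Cfsg.Prelude.Def_CaseTheorems
import Cfsg.Agent.Lib.Classical.Order
import Cfsg.Agent.Lib.ThreeTransp.UnitaryCoverLift

/-!
Central extensions of PSL(3,4) with kernel of exponent 2: a perfect one has kernel of order at most 4,
so the perfect cover with centre elementary abelian of order 4 is unique.
-/

set_option autoImplicit false

namespace CfsgLib.Schur.LThreeFour

open CfsgLib.ThreeTransp.USix

variable {L S V : Type*} [Group L] [Group S] [AddCommGroup V] {π : L →* S}
  (hπ : Function.Surjective π) (hz : ∀ x, π x = 1 → x * x = 1 ∧ ∀ y, Commute x y)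

include hπ hz in
/-- Lifts of the members of a four-or-more element group of involutions with transitive normaliser
commute. -/
theorem lifts_commute (M : V → S) (hadd : ∀ v w, M (v + w) = M v * M w)
    (h2 : ∀ v : V, v + v = 0) (hM0 : M 0 = 1)
    (htr : ∀ v w : V, v ≠ 0 → w ≠ 0 → ∃ g : S, g * M v * g⁻¹ = M w)
    (hbig : ∀ a b : V, ∃ w : V, w ≠ 0 ∧ w ≠ a ∧ w ≠ b ∧ w ≠ a + b)
    {v w : V} {x y : L} (hx : π x = M v) (hy : π y = M w) : Commute x y := by
  have hinv : ∀ v, M v * M v = 1 := fun v => by rw [← hadd, h2, hM0]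
  have hcomm : ∀ v w, Commute (M v) (M w) := fun v w => by
    show _ = _
    rw [← hadd, ← hadd, add_comm]
  have hc : ∀ v w, v ≠ 0 → w ≠ 0 → v ≠ w → ∀ u, u ≠ 0 →
      liftComm π hπ (M v) (M w) = liftSq π hπ (M u) := by
    intro v w hv hw hvw u hu
    have hq : ∀ t, t ≠ 0 → liftSq π hπ (M t) = liftSq π hπ (M u) := fun t ht => by
      obtain ⟨g, hg⟩ := htr u t hu ht
      rw [← hg, liftSq_conj hπ hz (hinv u)]
    obtain ⟨a, ha⟩ := hπ (M v)
    obtain ⟨b, hb⟩ := hπ (M w)
    have hwv : w + v ≠ 0 := fun e => hvw (by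
      have := congrArg (w + ·) e; simp only [add_zero, ← add_assoc, h2, zero_add] at this; exact this)
    set q := liftSq π hπ (M u)
    have ea : a * a = q := by rw [← liftSq_eq hπ hz ha, hq v hv]
    have eb : b * b = q := by rw [← liftSq_eq hπ hz hb, hq w hw]
    have eba : b * a * (b * a) = q := by
      rw [← liftSq_eq hπ hz (show π (b * a) = M (w + v) by rw [map_mul, ha, hb, hadd]), hq _ hwv]
    have hq1 : π q = 1 := by rw [← ea, map_mul, ha, hinv]
    obtain ⟨hqq, hqc⟩ := hz q hq1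
    have hk : Commute (a * b * a⁻¹ * b⁻¹) b := (hz _ (by
      rw [map_mul, map_mul, map_mul, map_inv, map_inv, ha, hb, (hcomm v w).eq]; group)).2 b
    rw [liftComm_eq hπ hz ha hb]
    have e1 : b * a * (b * a) = b * (a * b * a⁻¹ * b⁻¹) * b * (a * a) := by group
    have e2 : b * (a * b * a⁻¹ * b⁻¹) * b = b * b * (a * b * a⁻¹ * b⁻¹) := by
      rw [mul_assoc b, hk.eq, ← mul_assoc]
    rw [eba, e2, eb, ea] at e1
    calc a * b * a⁻¹ * b⁻¹ = (q * q) * (a * b * a⁻¹ * b⁻¹) * (q * q) := by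
          rw [hqq, one_mul, mul_one]
      _ = q * (q * (a * b * a⁻¹ * b⁻¹) * q) * q := by group
      _ = q := by rw [← e1, hqq, one_mul]
  suffices h : liftComm π hπ (M v) (M w) = 1 by
    rw [liftComm_eq hπ hz hx hy, mul_inv_eq_one, mul_inv_eq_iff_eq_mul] at h
    exact h
  by_cases hv : v = 0
  · rw [hv, hM0, liftComm_eq hπ hz (x := 1) (y := y) (map_one π) hy]; group
  by_cases hw : w = 0
  · rw [hw, hM0, liftComm_eq hπ hz (x := x) (y := 1) hx (map_one π)]; group
  by_cases hvw : v = w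
  · rw [hvw, liftComm_self]
  obtain ⟨u, hu0, huv, huw, huvw⟩ := hbig v w
  have hwu : w + u ≠ 0 := fun e => huw (by
    have := congrArg (w + ·) e; simp only [add_zero, ← add_assoc, h2, zero_add] at this; exact this)
  have hvwu : v ≠ w + u := fun e => huvw (by rw [e, add_right_comm, h2, zero_add])
  have h1 := liftComm_mul hπ hz (b := M w) (hcomm v u)
  rw [← hadd, hc v w hv hw hvw u hu0, hc v u hv hu0 (Ne.symm huv) u hu0,
    hc v (w + u) hv hwu hvwu u hu0] at h1
  rw [hc v w hv hw hvw u hu0]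
  exact mul_eq_left.1 h1.symm

end CfsgLib.Schur.LThreeFour

namespace CfsgLib.Schur.LThreeFour

open CfsgLib.ThreeTransp.USix Matrix

variable {F : Type} [Field F]


/-- An upper unitriangular matrix. -/
def uni (a b c : F) : (Matrix.SpecialLinearGroup (Fin 3) F) := ⟨!![1, a, c; 0, 1, b; 0, 0, 1], by simp [Matrix.det_fin_three]⟩

theorem uni_mul (a b c a' b' c' : F) :
    uni a b c * uni a' b' c' = uni (a + a') (b + b') (c + c' + a * b') := by
  refine Subtype.ext ?_
  rw [Matrix.SpecialLinearGroup.coe_mul]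
  ext i j
  fin_cases i <;> fin_cases j <;> simp [uni, Matrix.mul_apply, Fin.sum_univ_three] <;> ring

theorem uni_one : (uni (0 : F) 0 0) = 1 := by
  refine Subtype.ext ?_
  ext i j
  fin_cases i <;> fin_cases j <;> simp [uni]

/-- The group of upper unitriangular matrices. -/
def uniGroup (F : Type) [Field F] : Subgroup (Matrix.SpecialLinearGroup (Fin 3) F) where
  carrier := Set.range fun t : F × F × F => uni t.1 t.2.1 t.2.2
  one_mem' := ⟨(0, 0, 0), uni_one⟩
  mul_mem' := by
    rintro _ _ ⟨⟨a, b, c⟩, rfl⟩ ⟨⟨a', b', c'⟩, rfl⟩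
    exact ⟨(a + a', b + b', c + c' + a * b'), (uni_mul a b c a' b' c').symm⟩
  inv_mem' := by
    rintro _ ⟨⟨a, b, c⟩, rfl⟩
    refine ⟨(-a, -b, a * b - c), eq_inv_of_mul_eq_one_left ?_⟩
    rw [uni_mul, ← uni_one]
    congr 1 <;> ring

variable (h2 : (2 : F) = 0) (hF : Nat.card F = 4)

include h2 in
theorem add_self' (a : F) : a + a = 0 := by linear_combination a * h2

/-- The image of a unitriangular matrix. -/
def pu (a b c : F) : (Matrix.ProjectiveSpecialLinearGroup (Fin 3) F) := QuotientGroup.mk (uni a b c)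

theorem pu_mul (a b c a' b' c' : F) :
    pu a b c * pu a' b' c' = pu (a + a') (b + b') (c + c' + a * b') := by
  rw [pu, pu, pu, ← uni_mul]; rfl

theorem pu_one : pu (0 : F) 0 0 = 1 := by rw [pu, uni_one]; rfl

theorem pu_injective {a b c a' b' c' : F} (h : pu a b c = pu a' b' c') :
    a = a' ∧ b = b' ∧ c = c' := by
  obtain ⟨r, hr⟩ : ∃ r : F, (uni a' b' c' : (Matrix.SpecialLinearGroup (Fin 3) F)).1 = r • (uni a b c : (Matrix.SpecialLinearGroup (Fin 3) F)).1 := by
    have hz := QuotientGroup.eq.1 h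
    obtain ⟨r, -, hr⟩ := Matrix.SpecialLinearGroup.mem_center_iff.1 hz
    refine ⟨r, ?_⟩
    have e : uni a' b' c' = uni a b c * ((uni a b c)⁻¹ * uni a' b' c') := (mul_inv_cancel_left _ _).symm
    rw [e, Matrix.SpecialLinearGroup.coe_mul, ← hr]
    ext i j
    simp [Matrix.scalar_apply, mul_comm]
  have h00 := congrFun (congrFun hr 0) 0
  have ha := congrFun (congrFun hr 0) 1
  have hb := congrFun (congrFun hr 1) 2
  have hc := congrFun (congrFun hr 0) 2
  simp [uni] at h00 ha hb hc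
  subst h00
  simp at ha hb hc
  exact ⟨ha.symm, hb.symm, hc.symm⟩

/-- Transvections with last column free. -/
def colT (v : F × F) : (Matrix.ProjectiveSpecialLinearGroup (Fin 3) F) := pu 0 v.2 v.1

/-- Transvections with first row free. -/
def rowT (v : F × F) : (Matrix.ProjectiveSpecialLinearGroup (Fin 3) F) := pu v.1 0 v.2

theorem colT_add (v w : F × F) : colT (v + w) = colT v * colT w := by
  rw [colT, colT, colT, pu_mul]; simp

theorem rowT_add (v w : F × F) : rowT (v + w) = rowT v * rowT w := by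
  rw [rowT, rowT, rowT, pu_mul]; simp

theorem colT_zero : colT (0 : F × F) = 1 := pu_one

theorem rowT_zero : rowT (0 : F × F) = 1 := pu_one

include h2 in
theorem colT_orbit (v : F × F) (hv : v ≠ 0) : ∃ g : (Matrix.ProjectiveSpecialLinearGroup (Fin 3) F), g * colT (1, 0) * g⁻¹ = colT v := by
  obtain ⟨a, b⟩ := v
  have key : ∀ g : (Matrix.SpecialLinearGroup (Fin 3) F), g.1 * (uni 0 0 1 : (Matrix.SpecialLinearGroup (Fin 3) F)).1 = (uni 0 b a : (Matrix.SpecialLinearGroup (Fin 3) F)).1 * g.1 →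
      ∃ k : (Matrix.ProjectiveSpecialLinearGroup (Fin 3) F), k * colT (1, 0) * k⁻¹ = colT (a, b) := fun g hg => by
    refine ⟨QuotientGroup.mk g, mul_inv_eq_iff_eq_mul.2 ?_⟩
    have : g * uni 0 0 1 = uni 0 b a * g := Subtype.ext (by
      rw [Matrix.SpecialLinearGroup.coe_mul, Matrix.SpecialLinearGroup.coe_mul]; exact hg)
    exact congrArg QuotientGroup.mk this
  by_cases ha : a = 0
  · have hb : b ≠ 0 := fun hb => hv (by rw [ha, hb]; rfl)
    refine key ⟨!![0, b⁻¹, 0; b, 0, 0; 0, 0, 1], ?_⟩ ?_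
    · simp [Matrix.det_fin_three, mul_inv_cancel₀ hb, inv_mul_cancel₀ hb]
      linear_combination -h2
    · subst ha
      ext i j
      fin_cases i <;> fin_cases j <;> simp [uni, Matrix.mul_apply, Fin.sum_univ_three]
  · refine key ⟨!![a, 0, 0; b, a⁻¹, 0; 0, 0, 1], ?_⟩ ?_
    · simp [Matrix.det_fin_three, mul_inv_cancel₀ ha]
    · ext i j
      fin_cases i <;> fin_cases j <;> simp [uni, Matrix.mul_apply, Fin.sum_univ_three]

include h2 in
theorem rowT_orbit (v : F × F) (hv : v ≠ 0) : ∃ g : (Matrix.ProjectiveSpecialLinearGroup (Fin 3) F), g * rowT (1, 0) * g⁻¹ = rowT v := by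
  obtain ⟨a, b⟩ := v
  have key : ∀ g : (Matrix.SpecialLinearGroup (Fin 3) F), g.1 * (uni 1 0 0 : (Matrix.SpecialLinearGroup (Fin 3) F)).1 = (uni a 0 b : (Matrix.SpecialLinearGroup (Fin 3) F)).1 * g.1 →
      ∃ k : (Matrix.ProjectiveSpecialLinearGroup (Fin 3) F), k * rowT (1, 0) * k⁻¹ = rowT (a, b) := fun g hg => by
    refine ⟨QuotientGroup.mk g, mul_inv_eq_iff_eq_mul.2 ?_⟩
    have : g * uni 1 0 0 = uni a 0 b * g := Subtype.ext (by
      rw [Matrix.SpecialLinearGroup.coe_mul, Matrix.SpecialLinearGroup.coe_mul]; exact hg)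
    exact congrArg QuotientGroup.mk this
  by_cases ha : a = 0
  · have hb : b ≠ 0 := fun hb => hv (by rw [ha, hb]; rfl)
    refine key ⟨!![1, 0, 0; 0, 0, b; 0, b⁻¹, 0], ?_⟩ ?_
    · simp [Matrix.det_fin_three, mul_inv_cancel₀ hb, inv_mul_cancel₀ hb]
      linear_combination -h2
    · subst ha
      ext i j
      fin_cases i <;> fin_cases j <;> simp [uni, Matrix.mul_apply, Fin.sum_univ_three, mul_inv_cancel₀ hb]
  · refine key ⟨!![1, 0, 0; 0, a⁻¹, b; 0, 0, a], ?_⟩ ?_
    · simp [Matrix.det_fin_three, inv_mul_cancel₀ ha]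
    · ext i j
      fin_cases i <;> fin_cases j <;> simp [uni, Matrix.mul_apply, Fin.sum_univ_three, mul_inv_cancel₀ ha]
      linear_combination -(a * b) * h2

include hF in
theorem big_pair (a b : F × F) : ∃ w : F × F, w ≠ 0 ∧ w ≠ a ∧ w ≠ b ∧ w ≠ a + b := by
  classical
  have : Finite F := Nat.finite_of_card_ne_zero (by omega)
  have := Fintype.ofFinite F
  obtain ⟨w, -, hw⟩ := Finset.exists_mem_notMem_of_card_lt_card
    (s := ({0, a, b, a + b} : Finset (F × F))) (t := Finset.univ) (by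
      rw [Finset.card_univ, ← Nat.card_eq_fintype_card, Nat.card_prod, hF]
      exact lt_of_le_of_lt Finset.card_le_four (by norm_num))
  simp only [Finset.mem_insert, Finset.mem_singleton, not_or] at hw
  exact ⟨w, hw.1, hw.2.1, hw.2.2.1, hw.2.2.2⟩

variable {L : Type*} [Group L] [Finite L] {π : L →* (Matrix.ProjectiveSpecialLinearGroup (Fin 3) F)}
  (hπ : Function.Surjective π) (hz : ∀ x, π x = 1 → x * x = 1 ∧ ∀ y, Commute x y)

include hπ hz h2 hF in
/-- A perfect such extension has kernel of order at most four. -/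
theorem card_ker_le (hperf : commutator L = ⊤) : Nat.card π.ker ≤ 4 := by
  classical
  have hFfin : Finite F := Nat.finite_of_card_ne_zero (by omega)
  have v2 : ∀ v : F × F, v + v = 0 := fun v => Prod.ext (add_self' h2 _) (add_self' h2 _)
  have trans : ∀ M : F × F → (Matrix.ProjectiveSpecialLinearGroup (Fin 3) F), (∀ v, v ≠ 0 → ∃ g, g * M (1, 0) * g⁻¹ = M v) →
      ∀ v w, v ≠ 0 → w ≠ 0 → ∃ g, g * M v * g⁻¹ = M w := by
    intro M hM v w hv hw
    obtain ⟨g, hg⟩ := hM v hv
    obtain ⟨k, hk⟩ := hM w hw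
    exact ⟨k * g⁻¹, by rw [← hg, ← hk]; group⟩
  have hA : ∀ {v w : F × F} {x y : L}, π x = colT v → π y = colT w → Commute x y :=
    fun hx hy => lifts_commute hπ hz colT colT_add v2 colT_zero (trans _ (colT_orbit h2))
      (big_pair hF) hx hy
  have hB : ∀ {v w : F × F} {x y : L}, π x = rowT v → π y = rowT w → Commute x y :=
    fun hx hy => lifts_commute hπ hz rowT rowT_add v2 rowT_zero (trans _ (rowT_orbit h2))
      (big_pair hF) hx hy
  have hD : ∀ c : F, colT (c, (0 : F)) = rowT ((0 : F), c) := fun _ => rfl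
  -- commutators of a row lift with a column lift
  set K : F × F → F × F → L := fun w v => liftComm π hπ (rowT w) (colT v)
  have hK : ∀ {w v : F × F} {x y : L}, π x = rowT w → π y = colT v →
      K w v = x * y * x⁻¹ * y⁻¹ := fun hx hy => liftComm_eq hπ hz hx hy
  have hKπ : ∀ w v, π (K w v) = colT (w.1 * v.2, 0) := fun w v => by
    obtain ⟨x, hx⟩ := hπ (rowT w)
    obtain ⟨y, hy⟩ := hπ (colT v)
    rw [hK hx hy, map_mul, map_mul, map_mul, map_inv, map_inv, hx, hy, mul_inv_eq_iff_eq_mul,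
      mul_inv_eq_iff_eq_mul, rowT, colT, colT, pu_mul, pu_mul, pu_mul]
    congr 1 <;> simp <;> ring
  have hKr : ∀ w v v', K w (v + v') = K w v * K w v' := fun w v v' => by
    obtain ⟨x, hx⟩ := hπ (rowT w)
    obtain ⟨y, hy⟩ := hπ (colT v)
    obtain ⟨y', hy'⟩ := hπ (colT v')
    rw [hK hx (show π (y * y') = colT (v + v') by rw [map_mul, hy, hy', colT_add]), hK hx hy,
      hK hx hy']
    have hc : Commute (x * y' * x⁻¹ * y'⁻¹) y := hA ((hK hx hy') ▸ hKπ w v') hy
    calc x * (y * y') * x⁻¹ * (y * y')⁻¹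
        = x * y * x⁻¹ * ((x * y' * x⁻¹ * y'⁻¹) * y⁻¹) := by group
      _ = _ := by rw [hc.inv_right.eq]; group
  have hKl : ∀ w w' v, K (w + w') v = K w' v * K w v := fun w w' v => by
    obtain ⟨x, hx⟩ := hπ (rowT w)
    obtain ⟨x', hx'⟩ := hπ (rowT w')
    obtain ⟨y, hy⟩ := hπ (colT v)
    rw [hK (show π (x * x') = rowT (w + w') by rw [map_mul, hx, hx', rowT_add]) hy, hK hx hy,
      hK hx' hy]
    have hc : Commute x (x' * y * x'⁻¹ * y⁻¹) := hB hx ((hK hx' hy) ▸ (hKπ w' v).trans (hD _))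
    calc x * x' * y * (x * x')⁻¹ * y⁻¹
        = (x * (x' * y * x'⁻¹ * y⁻¹) * x⁻¹) * (x * y * x⁻¹ * y⁻¹) := by group
      _ = _ := by rw [hc.eq, mul_inv_cancel_right]
  have hKc : ∀ w v w' v', Commute (K w v) (K w' v') := fun w v w' v' => hA (hKπ w v) (hKπ w' v')
  have hK0l : ∀ c v, K (0, c) v = 1 := fun c v => by
    obtain ⟨x, hx⟩ := hπ (rowT (0, c))
    obtain ⟨y, hy⟩ := hπ (colT v)
    rw [hK hx hy, (hA (hx.trans (hD c).symm) hy).eq]; group
  have hK0r : ∀ w c, K w (c, 0) = 1 := fun w c => by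
    obtain ⟨x, hx⟩ := hπ (rowT w)
    obtain ⟨y, hy⟩ := hπ (colT (c, 0))
    rw [hK hx hy, (hB hx (hy.trans (hD c))).eq]; group
  obtain ⟨ω, hω0, hω1⟩ : ∃ ω : F, ω ≠ 0 ∧ ω ≠ 1 := by
    have := Fintype.ofFinite F
    obtain ⟨w, -, hw⟩ := Finset.exists_mem_notMem_of_card_lt_card
      (s := ({0, 1} : Finset F)) (t := Finset.univ) (by
        rw [Finset.card_univ, ← Nat.card_eq_fintype_card, hF]
        exact lt_of_le_of_lt Finset.card_le_two (by norm_num))
    simp only [Finset.mem_insert, Finset.mem_singleton, not_or] at hw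
    exact ⟨w, hw.1, hw.2⟩
  have hall : ∀ a : F, a = 0 ∨ a = 1 ∨ a = ω ∨ a = 1 + ω := by
    intro a
    have := Fintype.ofFinite F
    have huniv : ({0, 1, ω, 1 + ω} : Finset F) = Finset.univ := by
      refine Finset.eq_univ_of_card _ ?_
      rw [← Nat.card_eq_fintype_card, hF]
      have hne : (0 : F) ≠ 1 + ω := fun e => hω1 (by linear_combination -e - h2)
      rw [Finset.card_insert_of_notMem, Finset.card_insert_of_notMem, Finset.card_insert_of_notMem,
        Finset.card_singleton] <;>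
        simp [hne, Ne.symm hω0, Ne.symm hω1, hω0]
    have := Finset.mem_univ a
    rw [← huniv] at this
    simpa using this
  let φ : Multiplicative (F × F) →* L :=
    { toFun := fun b => K (1, 0) (0, b.toAdd.1) * K (ω, 0) (0, b.toAdd.2)
      map_one' := by
        show K (1, 0) (0, 0) * K (ω, 0) (0, 0) = 1
        rw [hK0r, hK0r, one_mul]
      map_mul' := fun b b' => by
        show K (1, 0) (0, (b.toAdd + b'.toAdd).1) * K (ω, 0) (0, (b.toAdd + b'.toAdd).2) = _
        have hsplit : ∀ t t' : F, ((0 : F), t + t') = (0, t) + (0, t') := fun t t' => by simp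
        rw [Prod.fst_add, Prod.snd_add, hsplit, hsplit, hKr, hKr]
        exact (hKc _ _ _ _).mul_mul_mul_comm _ _ }
  set T := φ.range
  have hT : Nat.card T ≤ 16 := by
    refine le_trans (Nat.card_le_card_of_surjective φ.rangeRestrict φ.rangeRestrict_surjective) ?_
    rw [Nat.card_congr Multiplicative.toAdd, Nat.card_prod, hF]
  have hKT : ∀ w v, K w v ∈ T := by
    rintro ⟨a, c⟩ ⟨e, b⟩
    have e1 : K (a, c) (e, b) = K (a, 0) (0, b) := by
      rw [show ((a, c) : F × F) = (0, c) + (a, 0) by simp, hKl, hK0l, mul_one,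
        show ((e, b) : F × F) = (e, 0) + (0, b) by simp, hKr, hK0r, one_mul]
    rw [e1]
    rcases hall a with h | h | h | h <;> rw [h]
    · rw [hK0l]; exact T.one_mem
    · exact ⟨Multiplicative.ofAdd (b, 0), by
        show K (1, 0) (0, b) * K (ω, 0) (0, 0) = _; rw [hK0r, mul_one]⟩
    · exact ⟨Multiplicative.ofAdd (0, b), by
        show K (1, 0) (0, 0) * K (ω, 0) (0, b) = _; rw [hK0r, one_mul]⟩
    · rw [show ((1 + ω, 0) : F × F) = (1, 0) + (ω, 0) by simp, hKl, (hKc _ _ _ _).eq]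
      exact ⟨Multiplicative.ofAdd (b, b), rfl⟩
  have hTπ : ∀ t ∈ T, ∃ c : F, π t = colT (c, 0) := by
    rintro _ ⟨b, rfl⟩
    refine ⟨1 * b.toAdd.1 + ω * b.toAdd.2, ?_⟩
    show π (K (1, 0) (0, b.toAdd.1) * K (ω, 0) (0, b.toAdd.2)) = _
    rw [map_mul, hKπ, hKπ, ← colT_add]
    simp
  -- the preimage of the unitriangular group
  set Ub := (uniGroup F).map (QuotientGroup.mk' (Subgroup.center (Matrix.SpecialLinearGroup (Fin 3) F)))
  set U := Ub.comap π
  have hU : ∀ x, x ∈ U → ∃ v w : F × F, ∃ a b z : L, π a = colT v ∧ π b = rowT w ∧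
      π z = 1 ∧ x = a * b * z := by
    intro x hx
    obtain ⟨g, ⟨⟨a, b, c⟩, rfl⟩, hg⟩ := hx
    obtain ⟨p, hp⟩ := hπ (colT (c, b))
    obtain ⟨r, hr⟩ := hπ (rowT (a, 0))
    refine ⟨(c, b), (a, 0), p, r, (p * r)⁻¹ * x, hp, hr, ?_, (mul_inv_cancel_left _ _).symm⟩
    rw [map_mul, map_inv, map_mul, hp, hr, colT, rowT, pu_mul,
      show π x = pu a b c from hg.symm, inv_mul_eq_one]
    congr 1 <;> simp
  have hTU : ∀ t ∈ T, ∀ x ∈ U, Commute t x := by
    intro t ht x hx
    obtain ⟨c, hc⟩ := hTπ t ht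
    obtain ⟨v, w, a, b, z, ha, hb, hz1, rfl⟩ := hU x hx
    exact ((hA hc ha).mul_right (hB (hc.trans (hD c)) hb)).mul_right ((hz z hz1).2 t).symm
  have hcomm : ∀ x ∈ U, ∀ y ∈ U, x * y * x⁻¹ * y⁻¹ ∈ T := by
    intro x hx y hy
    obtain ⟨v, w, a, b, z, ha, hb, hz1, rfl⟩ := hU x hx
    obtain ⟨v', w', a', b', z', ha', hb', hz1', rfl⟩ := hU y hy
    have hz' := (hz z hz1).2
    have hz'' := (hz z' hz1').2
    have hmem : ∀ {u : F × F} {q : L}, π q = colT u → q ∈ U := fun {u q} hq =>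
      ⟨uni 0 u.2 u.1, ⟨(0, u.2, u.1), rfl⟩, hq.symm⟩
    have hmem' : ∀ {u : F × F} {q : L}, π q = rowT u → q ∈ U := fun {u q} hq =>
      ⟨uni u.1 0 u.2, ⟨(u.1, 0, u.2), rfl⟩, hq.symm⟩
    have k1 := hK hb ha'
    have k2 := hK hb' ha
    have c1 : Commute (K w v') (a * a') := hTU _ (hKT _ _) _ (U.mul_mem (hmem ha) (hmem ha'))
    have c2 : Commute (K w' v) (a' * a) := hTU _ (hKT _ _) _ (U.mul_mem (hmem ha') (hmem ha))
    have e : a * b * z * (a' * b' * z') * (a * b * z)⁻¹ * (a' * b' * z')⁻¹ =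
        (a * b) * (a' * b') * ((a' * b') * (a * b))⁻¹ := by
      calc _ = (a * b) * (z * (a' * b' * z') * z⁻¹) * (a * b)⁻¹ * (a' * b' * z')⁻¹ := by group
        _ = (a * b) * (a' * b') * (z' * (a * b)⁻¹) * z'⁻¹ * (a' * b')⁻¹ := by
          rw [(hz' _).eq, mul_inv_cancel_right]; group
        _ = _ := by rw [(hz'' _).eq, mul_assoc _ _ z'⁻¹]; group
    have p1 : (a * b) * (a' * b') = (a * a') * (K w v')⁻¹⁻¹ * (b * b') := by
      have : b * a' = K w v' * (a' * b) := by rw [k1]; group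
      calc _ = a * (b * a') * b' := by group
        _ = a * (K w v') * a' * b * b' := by rw [this]; group
        _ = _ := by
          rw [inv_inv, mul_assoc a, (hTU _ (hKT w v') _ (hmem ha')).eq]; group
    have p2 : (a' * b') * (a * b) = (a' * a) * K w' v * (b' * b) := by
      have : b' * a = K w' v * (a * b') := by rw [k2]; group
      calc _ = a' * (b' * a) * b := by group
        _ = a' * (K w' v) * a * b' * b := by rw [this]; group
        _ = _ := by rw [mul_assoc a', (hTU _ (hKT w' v) _ (hmem ha)).eq]; group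
    rw [e, p1, p2, inv_inv, (hA ha' ha).eq, (hB hb' hb).eq, ← c1.eq,
      ← (hTU _ (hKT w' v) _ (U.mul_mem (hmem ha) (hmem ha'))).eq]
    convert T.mul_mem (hKT w v') (T.inv_mem (hKT w' v)) using 1
    group
  have hzU : ∀ z, π z = 1 → z ∈ U := fun z hz1 => by
    show π z ∈ Ub
    rw [hz1]; exact Ub.one_mem
  have hindex : Odd U.index := by
    have hinj : Nat.card Ub = 64 := by
      let f : F × F × F → Ub := fun t =>
        ⟨pu t.1 t.2.1 t.2.2, Subgroup.mem_map.2 ⟨uni t.1 t.2.1 t.2.2, ⟨t, rfl⟩, rfl⟩⟩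
      have hf : Function.Bijective f := by
        refine ⟨fun s t e => ?_, ?_⟩
        · obtain ⟨e1, e2, e3⟩ := pu_injective (congrArg Subtype.val e)
          exact Prod.ext e1 (Prod.ext e2 e3)
        · rintro ⟨_, ⟨_, ⟨t, rfl⟩, rfl⟩⟩; exact ⟨t, rfl⟩
      rw [← Nat.card_eq_of_bijective f hf, Nat.card_prod, Nat.card_prod, hF]
    have hS : Nat.card (Matrix.ProjectiveSpecialLinearGroup (Fin 3) F) = 20160 := by
      rw [CfsgLib.Classical.card_PSL_fin 3 (by norm_num), CfsgLib.Classical.card_SL_fin', hF]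
      decide
    have h1 := Subgroup.card_mul_index Ub
    rw [hinj, hS] at h1
    rw [Subgroup.index_comap_of_surjective _ hπ, show Ub.index = 315 by omega]
    decide
  have hker : π.ker ≤ T := by
    intro z hz1
    rw [MonoidHom.mem_ker] at hz1
    obtain ⟨hzz, hzc⟩ := hz z hz1
    have hkey : ∀ (k : ℕ) (g₀ : L), g₀⁻¹ * z ^ k * g₀ ∈ U → g₀⁻¹ * z ^ k * g₀ = z ^ k :=
      fun k g₀ _ => by rw [mul_assoc, ((hzc g₀).pow_left k).eq, inv_mul_cancel_left]
    have h1 := MonoidHom.transfer_eq_pow (Abelianization.of (G := ↥U)) z hkey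
    have h0 : MonoidHom.transfer (Abelianization.of (G := ↥U)) z = 1 := by
      have : commutator L ≤ (MonoidHom.transfer (Abelianization.of (G := ↥U))).ker :=
        Abelianization.commutator_subset_ker _
      exact this (hperf ▸ Subgroup.mem_top z)
    rw [h0] at h1
    have hmem : (⟨z ^ U.index, MonoidHom.transfer_eq_pow_aux z hkey⟩ : ↥U) ∈ commutator ↥U := by
      rw [← Abelianization.ker_of]; exact h1.symm
    have hle : commutator ↥U ≤ T.subgroupOf U := by
      rw [commutator_def, Subgroup.commutator_le]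
      exact fun x _ y _ => hcomm x.1 x.2 y.1 y.2
    have := hle hmem
    rw [Subgroup.mem_subgroupOf] at this
    obtain ⟨m, hm⟩ := hindex
    simp only [hm, pow_succ, pow_mul, pow_two, hzz, one_pow, one_mul] at this
    exact this
  set g := π.comp T.subtype
  have hrange : 4 ≤ Nat.card g.range := by
    have : ∀ c : F, colT (c, (0 : F)) ∈ g.range := fun c =>
      ⟨⟨K (c, 0) (0, 1), hKT _ _⟩, (hKπ _ _).trans (by simp)⟩
    rw [← hF]
    exact Nat.card_le_card_of_injective (fun c => (⟨_, this c⟩ : g.range)) fun c c' e =>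
      (pu_injective (congrArg Subtype.val e)).2.2
  have hg : Nat.card g.ker = Nat.card π.ker := by
    rw [show g.ker = π.ker.subgroupOf T from rfl]
    exact Nat.card_congr (Subgroup.subgroupOfEquivOfLe hker).toEquiv
  have hcard := Subgroup.card_eq_card_quotient_mul_card_subgroup g.ker
  rw [Nat.card_congr (QuotientGroup.quotientKerEquivRange g).toEquiv, hg] at hcard
  nlinarith

end CfsgLib.Schur.LThreeFour
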