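import Cfsg.Agent.Lib.Schur.Splits
import Cfsg.Agent.Lib.StSL.Universal
import Mathlib

/-!
A covering group whose kernel is as large as the bound for finite perfect central extensions is
universal.
-/

set_option autoImplicit false

namespace CfsgLib.Schur.BoundedSplits

open scoped commutatorElement

universe u

variable {X : Type*} [Group X] {Y : Type*} [Group Y]

/-- The commutator subgroup of a central extension of a finite group is finite. -/
theorem finite_commutator [Finite Y] (q : X →* Y) (hq : Function.Surjective q)
    (hc : q.ker ≤ Subgroup.center X) : Finite (commutator X) := by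
  have hset : commutatorSet X ⊆ Set.range fun t : Y × Y =>
      ⁅Function.surjInv hq t.1, Function.surjInv hq t.2⁆ := by
    rintro _ ⟨a, b, rfl⟩
    refine ⟨(q a, q b), ?_⟩
    have key : ∀ x, ∃ z ∈ Subgroup.center X, x = Function.surjInv hq (q x) * z := fun x =>
      ⟨(Function.surjInv hq (q x))⁻¹ * x, hc (by
        rw [MonoidHom.mem_ker, map_mul, map_inv, Function.surjInv_eq hq, inv_mul_cancel]),
        (mul_inv_cancel_left _ _).symm⟩
    obtain ⟨z, hz, ha⟩ := key a
    obtain ⟨w, hw, hb⟩ := key b
    show ⁅Function.surjInv hq (q a), Function.surjInv hq (q b)⁆ = ⁅a, b⁆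
    nth_rewrite 2 [ha, hb]
    rw [StSL.commutatorElement_central hz hw]
  have : Finite (commutatorSet X) := ((Set.finite_range _).subset hset).to_subtype
  infer_instance

/-- Elements over the centre of a perfect central extension are central. -/
theorem mem_center_of (q : X →* Y) (hc : q.ker ≤ Subgroup.center X) (hp : commutator X = ⊤)
    {x : X} (hx : ∀ y, Commute (q x) (q y)) : x ∈ Subgroup.center X := by
  rw [Subgroup.mem_center_iff]
  have hle : commutator X ≤ Subgroup.centralizer {x} := by
    rw [commutator_def, Subgroup.commutator_le]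
    intro a _ b _
    rw [Subgroup.mem_centralizer_singleton_iff]
    have key : ∀ c, ∃ z ∈ Subgroup.center X, x * c * x⁻¹ = c * z := fun c =>
      ⟨c⁻¹ * (x * c * x⁻¹), hc (by
        rw [MonoidHom.mem_ker, map_mul, map_mul, map_mul, map_inv, map_inv, (hx c).eq,
          mul_inv_cancel_right, inv_mul_cancel]), (mul_inv_cancel_left _ _).symm⟩
    obtain ⟨z, hz, ha⟩ := key a
    obtain ⟨w, hw, hb⟩ := key b
    have e : x * ⁅a, b⁆ * x⁻¹ = ⁅a, b⁆ := by
      rw [show x * ⁅a, b⁆ * x⁻¹ = ⁅x * a * x⁻¹, x * b * x⁻¹⁆ by simp only [commutatorElement_def]; group, ha, hb, StSL.commutatorElement_central hz hw]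
    exact (mul_inv_eq_iff_eq_mul.1 e).symm
  rw [hp] at hle
  intro y
  exact Subgroup.mem_centralizer_singleton_iff.1 (hle (Subgroup.mem_top y))

/-- A finite perfect cover with a kernel as large as the bound splits every central extension. -/
theorem splits {C : Type u} [Group C] [Finite C] {G : Type*} [Group G] (r : C →* G)
    (hrc : r.ker ≤ Subgroup.center C) (hp : commutator C = ⊤) {k : ℕ} (hk : Nat.card r.ker = k)
    (hbound : ∀ (P : Type u) [Group P] [Finite P] (p : P →* G), p.range = r.range →
      p.ker ≤ Subgroup.center P → commutator P = ⊤ → Nat.card p.ker ≤ k) :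
    Steinberg.Splits C := by
  intro X _ q hq hc
  have := finite_commutator q hq hc
  let q' : commutator X →* C := q.comp (commutator X).subtype
  have hq' : Function.Surjective q' := fun c => by
    have hc' : c ∈ (commutator X).map q := by
      rw [commutator_def, Subgroup.map_commutator, Subgroup.map_top_of_surjective q hq,
        ← commutator_def, hp]
      exact Subgroup.mem_top c
    obtain ⟨x, hx, rfl⟩ := hc'
    exact ⟨⟨x, hx⟩, rfl⟩
  have hc' : q'.ker ≤ Subgroup.center (commutator X) := fun x hx =>
    Subgroup.mem_center_iff.2 fun y =>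
      Subtype.ext (Subgroup.mem_center_iff.1 (hc (show (x : X) ∈ q.ker from hx)) y)
  have hperf : commutator (commutator X) = ⊤ := by
    refine Subgroup.map_injective (commutator X).subtype_injective ?_
    rw [← MonoidHom.range_eq_map, Subgroup.range_subtype, Subgroup.map_subtype_commutator]
    refine le_antisymm (Subgroup.commutator_le_self _) ?_
    nth_rw 1 [commutator_def]
    refine Subgroup.commutator_le.2 fun a _ b _ => ?_
    obtain ⟨a', ha'⟩ := hq' (q a)
    obtain ⟨b', hb'⟩ := hq' (q b)
    have key : ∀ {a : X} {a' : commutator X}, q' a' = q a →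
        ∃ z ∈ Subgroup.center X, a = (a' : X) * z := fun {a a'} h =>
      ⟨(a' : X)⁻¹ * a, hc (by
        rw [MonoidHom.mem_ker, map_mul, map_inv, show q (a' : X) = q a from h, inv_mul_cancel]),
        (mul_inv_cancel_left _ _).symm⟩
    obtain ⟨z, hz, rfl⟩ := key ha'
    obtain ⟨w, hw, rfl⟩ := key hb'
    rw [StSL.commutatorElement_central hz hw]
    exact Subgroup.commutator_mem_commutator a'.2 b'.2
  let p : commutator X →* G := r.comp q'
  have hpc : p.ker ≤ Subgroup.center (commutator X) := fun x hx =>
    mem_center_of q' hc' hperf fun y =>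
      ((Subgroup.mem_center_iff.1 (hrc (show q' x ∈ r.ker from hx))) (q' y)).symm
  have hrange : p.range = r.range := by
    rw [MonoidHom.range_comp, MonoidHom.range_eq_top.2 hq', ← MonoidHom.range_eq_map]
  have hle := hbound (commutator X) p hrange hpc hperf
  let f : p.ker →* r.ker := (q'.comp p.ker.subtype).codRestrict r.ker fun x => x.2
  have hf : Function.Surjective f := fun y => by
    obtain ⟨x, hx⟩ := hq' y.1
    exact ⟨⟨x, show r (q' x) = 1 by rw [hx]; exact y.2⟩, Subtype.ext hx⟩
  have hcard : Nat.card p.ker = Nat.card r.ker :=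
    le_antisymm (hk ▸ hle) (Nat.card_le_card_of_surjective f hf)
  have hinj := ((Nat.bijective_iff_surjective_and_card f).2 ⟨hf, hcard⟩).1
  have hqinj : Function.Injective q' := by
    rw [← MonoidHom.ker_eq_bot_iff, Subgroup.eq_bot_iff_forall]
    intro x hx
    have hxp : x ∈ p.ker := by
      show r (q' x) = 1
      rw [MonoidHom.mem_ker.1 hx, map_one]
    have := hinj (a₁ := ⟨x, hxp⟩) (a₂ := 1) (Subtype.ext (hx.trans (map_one q').symm))
    exact congrArg Subtype.val this
  let e := MulEquiv.ofBijective q' ⟨hqinj, hq'⟩
  exact ⟨(commutator X).subtype.comp e.symm.toMonoidHom, MonoidHom.ext fun c => e.apply_symm_apply c⟩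

end CfsgLib.Schur.BoundedSplits
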