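import Cfsg.Agent.Lib.Geometry.NormGraph
import Cfsg.Agent.Lib.Schur.OrthCover

/-!
Perfect central extensions of the commutator subgroup of an orthogonal group in characteristic two:
the kernel lies in the derived group over the stabiliser of a non-singular vector.
-/

set_option autoImplicit false
set_option maxHeartbeats 400000
set_option linter.unusedSectionVars false

namespace CfsgLib.Schur.EvenCover

open QuadraticMap CfsgLib.Geometry CfsgLib.Geometry.NormGraph
open CfsgLib.Schur.OrthCover (act Pts)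
open scoped commutatorElement

universe u

variable {F : Type u} [Field F] [Fintype F] {V : Type*} [AddCommGroup V] [Module F V]
  [FiniteDimensional F V]
variable {Q : QuadraticForm F V}

theorem exists_sqrt (h2 : (2 : F) = 0) (c : F) : ∃ s : F, s * s = c := by
  have := CharTwo.of_one_ne_zero_of_two_eq_zero (one_ne_zero (α := F)) h2
  obtain ⟨s, hs⟩ := FiniteField.isSquare_of_char_two (ringChar.eq F 2) c
  exact ⟨s, hs.symm⟩

theorem add_self (h2 : (2 : F) = 0) (v : V) : v + v = 0 := by rw [← two_smul F v, h2, zero_smul]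

/-- An element of the orthogonal group can be corrected by one reflection. -/
theorem exists_adjust (hQ : (polarBilin Q).Nondegenerate) (h2 : (2 : F) = 0)
    (hn : Module.finrank F V ≠ 4) (g : orth Q) {a : V} (ha : Q a ≠ 0) :
    g ∈ commutator (orth Q) ∨ oRefl Q a ha * g ∈ commutator (orth Q) := by
  have hR := reflGroup_eq_orth hQ (Or.inl hn)
  have key : ∀ x : Multiplicative (ZMod 2), x = 1 ∨ x = Multiplicative.ofAdd 1 := by decide
  rcases key (orthInvariant hQ hR g).2 with h | h
  · exact Or.inl ((mem_commutator_orth_iff hQ hR g).2 (Prod.ext (sqClass_eq_one_of_two h2 _) h))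
  · refine Or.inr ((mem_commutator_orth_iff hQ hR _).2 (Prod.ext (sqClass_eq_one_of_two h2 _) ?_))
    rw [map_mul, orthInvariant_oRefl, Prod.snd_mul, h]
    show Multiplicative.ofAdd (1 : ZMod 2) * Multiplicative.ofAdd 1 = 1
    decide

theorem oRefl_not_mem (hQ : (polarBilin Q).Nondegenerate) (hn : Module.finrank F V ≠ 4) {a : V}
    (ha : Q a ≠ 0) : oRefl Q a ha ∉ commutator (orth Q) := by
  have hR := reflGroup_eq_orth hQ (Or.inl hn)
  rw [mem_commutator_orth_iff hQ hR, orthInvariant_oRefl]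
  intro h
  have h' : Multiplicative.ofAdd (1 : ZMod 2) = 1 := congrArg Prod.snd h
  exact absurd h' (by decide)

/-- A vector of norm one orthogonal to `W` and outside it. -/
theorem exists_one_perp (hQ : (polarBilin Q).Nondegenerate) (h2 : (2 : F) = 0) (W : Submodule F V)
    (h : ¬ polarPerp Q W ≤ W) : ∃ v ∈ polarPerp Q W, v ∉ W ∧ Q v = 1 := by
  obtain ⟨v, hv, hvW⟩ := SetLike.not_le_iff_exists.1 h
  obtain ⟨w, hw, hQw⟩ : ∃ w ∈ polarPerp Q W, Q w ≠ 0 := by
    by_contra hall
    push Not at hall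
    refine h fun x hx => ?_
    have : x ∈ polarPerp Q (polarPerp Q W) :=
      mem_polarPerp.2 fun y hy => polar_eq_zero_of_singular hall hy hx
    rwa [polarPerp_perp hQ W] at this
  obtain ⟨s, hs⟩ := exists_sqrt h2 (Q w)⁻¹
  have hs1 : Q (s • w) = 1 := by rw [Geometry.map_smul', hs, inv_mul_cancel₀ hQw]
  by_cases hwW : w ∈ W
  swap
  · refine ⟨s • w, Submodule.smul_mem _ _ hw, fun h' => hwW ?_, hs1⟩
    have hs0 : s ≠ 0 := fun e => by simp [e] at hs1
    simpa [smul_smul, inv_mul_cancel₀ hs0] using W.smul_mem s⁻¹ h'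
  · obtain ⟨t, ht⟩ := exists_sqrt h2 (Q v + 1)
    have hp : polar Q (t • (s • w)) v = 0 :=
      mem_polarPerp.1 hv _ (W.smul_mem _ (W.smul_mem _ hwW))
    refine ⟨t • (s • w) + v, add_mem (Submodule.smul_mem _ _ (Submodule.smul_mem _ _ hw)) hv,
      fun h' => hvW ?_, ?_⟩
    · have h'' := W.sub_mem h' (W.smul_mem t (W.smul_mem s hwW))
      rwa [add_sub_cancel_left] at h''
    · rw [map_add', Geometry.map_smul' Q t, hs1, hp, mul_one, ht, add_zero]
      linear_combination (Q v) * h2

theorem not_perp_le (hQ : (polarBilin Q).Nondegenerate) {W : Submodule F V} {k : ℕ}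
    (hW : Module.finrank F W ≤ k) (hk : 2 * k < Module.finrank F V) : ¬ polarPerp Q W ≤ W := by
  intro h
  have := Submodule.finrank_mono h
  have := finrank_polarPerp hQ W
  omega

/-- Families with the same norms and inner products are conjugate under the commutator subgroup. -/
theorem exists_comm_map (hQ : (polarBilin Q).Nondegenerate) (h2 : (2 : F) = 0) {k : ℕ}
    (hn : 7 ≤ Module.finrank F V) (hk : 2 * k < Module.finrank F V) (v w : Fin k → V)
    (hv : LinearIndependent F v) (hw : LinearIndependent F w)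
    (hq : ∀ i, Q (v i) = Q (w i)) (hp : ∀ i j, polar Q (v i) (v j) = polar Q (w i) (w j)) :
    ∃ g : orth Q, g ∈ commutator (orth Q) ∧ ∀ i, (g : V ≃ₗ[F] V) (v i) = w i := by
  obtain ⟨g, hg, hgv⟩ := quad_extend hQ v w hv hw hq hp
  set W := Submodule.span F (Set.range w)
  obtain ⟨a, ha, -, hQa⟩ := exists_one_perp hQ h2 W
    (not_perp_le hQ (finrank_span_range_le w) hk)
  have ha0 : Q a ≠ 0 := by rw [hQa]; exact one_ne_zero
  rcases exists_adjust hQ h2 (by omega) ⟨g, hg⟩ ha0 with h | h
  · exact ⟨_, h, hgv⟩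
  · refine ⟨_, h, fun i => ?_⟩
    show refl Q a ha0 (g (v i)) = w i
    rw [hgv i, refl_eq_self Q a ha0]
    exact mem_polarPerp.1 ha _ (Submodule.subset_span ⟨i, rfl⟩)

/-- Orthogonal and different. -/
def R (Q : QuadraticForm F V) (x y : Pts Q (1 : F)) : Prop := polar Q x.1 y.1 = 0 ∧ x ≠ y

/-- No relation between three vectors. -/
def Ind3 (x y w : V) : Prop :=
  ∀ α β γ : F, α • x + β • y + γ • w = 0 → α = 0 ∧ β = 0 ∧ γ = 0

/-- Orthogonal independent triangles. -/
def T (Q : QuadraticForm F V) (x y w : Pts Q (1 : F)) : Prop :=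
  R Q x y ∧ R Q y w ∧ R Q x w ∧ Ind3 (F := F) x.1 y.1 w.1

theorem R.symm {x y : Pts Q (1 : F)} (h : R Q x y) : R Q y x :=
  ⟨(polar_comm Q y.1 x.1).trans h.1, h.2.symm⟩

theorem pts_ne_zero (x : Pts Q (1 : F)) : x.1 ≠ 0 := fun h => by
  have := x.2
  rw [h, QuadraticMap.map_zero] at this
  exact zero_ne_one this

theorem eq_of_smul (h2 : (2 : F) = 0) {x y : Pts Q (1 : F)} {c : F} (h : x.1 = c • y.1) : x = y := by
  have := CharTwo.of_one_ne_zero_of_two_eq_zero (one_ne_zero (α := F)) h2
  have h' : c * c = 1 := by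
    have := x.2
    rw [h, Geometry.map_smul', y.2, mul_one] at this
    exact this
  have h1 : (c - 1) * (c - 1) = 0 := by linear_combination h' + (1 - c) * h2
  rw [sub_eq_zero.1 (mul_self_eq_zero.1 h1), one_smul] at h
  exact Subtype.ext h

theorem ind3_of_not_mem (h2 : (2 : F) = 0) {x y : Pts Q (1 : F)} (hxy : x ≠ y) {w : V}
    {W : Submodule F V} (hx : x.1 ∈ W) (hy : y.1 ∈ W) (hw : w ∉ W) :
    Ind3 (F := F) x.1 y.1 w := by
  intro α β γ h
  have hγ : γ = 0 := by
    by_contra hγ
    refine hw ?_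
    have h1 := add_mem (W.smul_mem α hx) (W.smul_mem β hy)
    have e : w = (-γ⁻¹) • (α • x.1 + β • y.1) := by
      rw [eq_neg_of_add_eq_zero_left h]
      simp [smul_smul, inv_mul_cancel₀ hγ]
    rw [e]
    exact W.smul_mem _ h1
  subst hγ
  rw [zero_smul, add_zero] at h
  by_cases hα : α = 0
  · subst hα
    rw [zero_smul, zero_add, smul_eq_zero] at h
    exact ⟨rfl, h.resolve_right (pts_ne_zero y), rfl⟩
  · exfalso
    refine hxy (eq_of_smul h2 (c := -(α⁻¹ * β)) ?_)
    rw [neg_smul, ← smul_smul, ← smul_neg, ← eq_neg_of_add_eq_zero_left h, smul_smul,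
      inv_mul_cancel₀ hα, one_smul]

variable {E : Type*} [Group E] {p : E →* orth Q}

theorem graph (hQ : (polarBilin Q).Nondegenerate) (h2 : (2 : F) = 0)
    (hle : commutator (orth Q) ≤ p.range) (hn : 8 ≤ Module.finrank F V) :
    letI := act p (1 : F)
    TriangleCover.Graph (E := E) (R Q) (T Q) :=
  letI := act p (1 : F)
  have hinv : ∀ (e : E) {x y : Pts Q (1 : F)}, R Q x y → R Q (e • x) (e • y) := fun e x y h => by
    refine ⟨?_, fun h' => h.2 (smul_left_cancel e h')⟩
    show polar Q ((p e : V ≃ₗ[F] V) x.1) ((p e : V ≃ₗ[F] V) y.1) = 0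
    rw [orth_polar (p e).2]
    exact h.1
  have hspan : ∀ {k : ℕ} (f : Fin k → V) i, f i ∈ Submodule.span F (Set.range f) :=
    fun f i => Submodule.subset_span ⟨i, rfl⟩
  have hnew : ∀ {k : ℕ} (f : Fin k → Pts Q (1 : F)), k ≤ 3 → ∃ u : Pts Q (1 : F),
      u.1 ∉ Submodule.span F (Set.range fun i => (f i).1) ∧ ∀ i, R Q (f i) u := fun {k} f hk => by
    obtain ⟨u, hu, hu', hQu⟩ := exists_one_perp hQ h2 (Submodule.span F (Set.range fun i => (f i).1))
      (not_perp_le hQ (finrank_span_range_le _) (by omega))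
    exact ⟨⟨u, hQu⟩, hu', fun i => ⟨mem_polarPerp.1 hu _ (hspan (fun i => (f i).1) i),
      fun e => hu' (by
        have := hspan (fun i => (f i).1) i
        rwa [show (f i).1 = u from congrArg Subtype.val e] at this)⟩⟩
  { irrefl := fun x h => h.2 rfl
    symm := fun h => h.symm
    inv := hinv
    tri_edges := fun h => ⟨h.1, h.2.1, h.2.2.1⟩
    tri_swap := fun h => ⟨h.1.symm, h.2.2.1, h.2.1, fun α β γ e => by
      obtain ⟨a1, a2, a3⟩ := h.2.2.2 β α γ (by rw [← e]; abel)
      exact ⟨a2, a1, a3⟩⟩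
    tri_rot := fun h => ⟨h.2.1, h.2.2.1.symm, h.1.symm, fun α β γ e => by
      obtain ⟨a1, a2, a3⟩ := h.2.2.2 γ α β (by rw [← e]; abel)
      exact ⟨a2, a3, a1⟩⟩
    tri_inv := fun e {x y w} h => ⟨hinv e h.1, hinv e h.2.1, hinv e h.2.2.1, fun α β γ k => by
      refine h.2.2.2 α β γ ((p e : V ≃ₗ[F] V).map_eq_zero_iff.1 ?_)
      rw [map_add, map_add, map_smul, map_smul, map_smul]
      exact k⟩
    edge := fun {x y} h => by
      obtain ⟨u, hu, hR⟩ := hnew ![x, y] (by omega)
      exact ⟨u, h, hR 1, hR 0, ind3_of_not_mem h2 h.2 (hspan (fun i => (![x, y] i).1) 0)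
        (hspan (fun i => (![x, y] i).1) 1) hu⟩
    common := fun x y => by
      obtain ⟨u, hu, hR⟩ := hnew ![x, y] (by omega)
      exact ⟨u, hR 0, (hR 1).symm⟩
    third := fun x v w h => by
      obtain ⟨u, hu, hR⟩ := hnew ![x, v, w] le_rfl
      refine ⟨u, hR 0, (hR 1).symm, h, (hR 2).symm, fun α β γ e => ?_⟩
      obtain ⟨a1, a2, a3⟩ := ind3_of_not_mem h2 h.2 (hspan (fun i => (![x, v, w] i).1) 1)
        (hspan (fun i => (![x, v, w] i).1) 2) hu β γ α (by rw [← e]; abel)
      exact ⟨a3, a1, a2⟩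
    trans := fun {x y w x' y' w'} h h' => by
      have hli : ∀ {a b d : Pts Q (1 : F)}, T Q a b d → LinearIndependent F ![a.1, b.1, d.1] :=
        fun {a b d} k => Fintype.linearIndependent_iff.2 fun g hg i => by
          simp [Fin.sum_univ_three] at hg
          obtain ⟨a1, a2, a3⟩ := k.2.2.2 _ _ _ hg
          fin_cases i
          exacts [a1, a2, a3]
      have hpol : ∀ {a b d : Pts Q (1 : F)}, T Q a b d → ∀ i j : Fin 3,
          polar Q (![a.1, b.1, d.1] i) (![a.1, b.1, d.1] j) = 0 := fun {a b d} k i j => by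
        have hs : ∀ z : Pts Q (1 : F), polar Q z.1 z.1 = 0 := fun z => by
          rw [polar_self', z.2, h2, zero_mul]
        fin_cases i <;> fin_cases j <;> first
          | exact hs _
          | exact k.1.1
          | exact k.2.1.1
          | exact k.2.2.1.1
          | exact k.1.symm.1
          | exact k.2.1.symm.1
          | exact k.2.2.1.symm.1
      obtain ⟨g, hg, hgv⟩ := exists_comm_map hQ h2 (by omega) (by omega) ![x.1, y.1, w.1]
        ![x'.1, y'.1, w'.1] (hli h) (hli h')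
        (fun i => by
          fin_cases i
          exacts [x.2.trans x'.2.symm, y.2.trans y'.2.symm, w.2.trans w'.2.symm])
        fun i j => (hpol h i j).trans (hpol h' i j).symm
      obtain ⟨e, rfl⟩ := hle hg
      exact ⟨e, Subtype.ext (hgv 0), Subtype.ext (hgv 1), Subtype.ext (hgv 2)⟩ }

theorem trans' (hQ : (polarBilin Q).Nondegenerate) (h2 : (2 : F) = 0)
    (hle : commutator (orth Q) ≤ p.range) (hn : 8 ≤ Module.finrank F V) :
    letI := act p (1 : F)
    ∀ x y : Pts Q (1 : F), ∃ e : E, e • x = y := by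
  intro x y
  obtain ⟨g, hg, hgv⟩ := exists_comm_map hQ h2 (k := 1) (by omega) (by omega) ![x.1] ![y.1]
    (LinearIndependent.of_subsingleton 0 (pts_ne_zero x))
    (LinearIndependent.of_subsingleton 0 (pts_ne_zero y))
    (fun i => by fin_cases i; exact x.2.trans y.2.symm)
    fun i j => by fin_cases i; fin_cases j; show polar Q x.1 x.1 = polar Q y.1 y.1; rw [polar_self', polar_self', x.2, y.2]
  obtain ⟨e, rfl⟩ := hle hg
  exact ⟨e, Subtype.ext (hgv 0)⟩

theorem conn (hQ : (polarBilin Q).Nondegenerate) (h2 : (2 : F) = 0)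
    (hn : 8 ≤ Module.finrank F V) : TriangleCover.Conn (R Q) (T Q) := by
  intro x y u u' h1 h2' h3 h4
  set f : Fin 4 → V := ![x.1, y.1, u.1, u'.1] with hf
  set U := Submodule.span F (Set.range f) with hU
  have hm : ∀ i, f i ∈ U := fun i => Submodule.subset_span ⟨i, rfl⟩
  by_cases hle : polarPerp Q U ≤ U
  · -- the four vectors are independent and pairwise orthogonal
    rcases eq_or_ne u u' with rfl | hne
    · exact Relation.ReflTransGen.refl
    have hd : Module.finrank F U ≤ 4 := finrank_span_range_le (F := F) f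
    have hs := finrank_polarPerp hQ U
    have hmono := Submodule.finrank_mono hle
    have heq : polarPerp Q U = U := Submodule.eq_of_le_of_finrank_le hle (by omega)
    have horth : ∀ i j, polar Q (f i) (f j) = 0 := fun i j => by
      have h := hm j
      rw [← heq] at h
      exact mem_polarPerp.1 h _ (hm i)
    have hcard : Fintype.card (Fin 4) = Module.finrank F U := by
      rw [Fintype.card_fin]; omega
    have hli : LinearIndependent F f := linearIndependent_iff_card_eq_finrank_span.2 (by exact hcard)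
    have huu : R Q u u' := ⟨horth 2 3, hne⟩
    have hind := Fintype.linearIndependent_iff.1 hli
    refine Relation.ReflTransGen.single ⟨⟨h1, huu, h3, fun α β γ e => ?_⟩,
      ⟨huu, h4, h2', fun α β γ e => ?_⟩⟩
    · have := hind ![α, 0, β, γ] (by simp [Fin.sum_univ_four, hf]; rw [← e])
      exact ⟨this 0, this 2, this 3⟩
    · have := hind ![0, γ, α, β] (by simp [Fin.sum_univ_four, hf]; rw [← e]; try abel)
      exact ⟨this 2, this 3, this 1⟩
  · obtain ⟨w, hw, hwU, hQw⟩ := exists_one_perp hQ h2 U hle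
    let ww : Pts Q (1 : F) := ⟨w, hQw⟩
    have hR : ∀ z : Pts Q (1 : F), z.1 ∈ U → R Q z ww := fun z hz =>
      ⟨mem_polarPerp.1 hw _ hz, fun e => hwU (by rwa [show z.1 = w from congrArg Subtype.val e] at hz)⟩
    have hx := hR x (hm 0)
    have hy := hR y (hm 1)
    have hu := hR u (hm 2)
    have hu' := hR u' (hm 3)
    refine (Relation.ReflTransGen.single (b := ww)
      ⟨⟨h1, hu, hx, ind3_of_not_mem h2 h1.2 (hm 0) (hm 2) hwU⟩,
        ⟨hu, hy.symm, h2', fun α β γ e => ?_⟩⟩).trans (Relation.ReflTransGen.single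
      ⟨⟨hx, hu'.symm, h3, fun α β γ e => ?_⟩, ⟨hu'.symm, h4, hy.symm, fun α β γ e => ?_⟩⟩)
    · obtain ⟨a1, a2, a3⟩ := ind3_of_not_mem h2 h3.2 (hm 0) (hm 3) hwU α γ β (by rw [← e]; show _ = _; simp only [ww]; abel)
      exact ⟨a1, a3, a2⟩
    · obtain ⟨a1, a2, a3⟩ := ind3_of_not_mem h2 h4.2 (hm 3) (hm 1) hwU β γ α (by rw [← e]; show _ = _; simp only [ww]; abel)
      exact ⟨a3, a1, a2⟩
    · obtain ⟨a1, a2, a3⟩ := ind3_of_not_mem h2 h2'.2 (hm 2) (hm 1) hwU α γ β (by rw [← e]; show _ = _; simp only [ww]; abel)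
      exact ⟨a1, a3, a2⟩

/-- The preimage of a perfect group is the kernel times its derived group. -/
theorem pre_le {G : Type*} [Group G] {f : E →* G} {K : Subgroup G} (hK : K ≤ f.range)
    (hp : K ≤ ⁅K, K⁆) : K.comap f ≤ f.ker ⊔ ⁅K.comap f, K.comap f⁆ := by
  intro e he
  have h1 := hp he
  rw [← Subgroup.map_comap_eq_self hK, ← Subgroup.map_commutator] at h1
  have h3 : e ∈ (⁅K.comap f, K.comap f⁆.map f).comap f := h1
  rwa [Subgroup.comap_map_eq, sup_comm] at h3

/-- The kernel lies in the derived group over a point stabiliser. -/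
theorem ker_le_stab (hQ : (polarBilin Q).Nondegenerate) (h2 : (2 : F) = 0)
    (hn : 8 ≤ Module.finrank F V) (hr : p.range = commutator (orth Q))
    (hc : p.ker ≤ Subgroup.center E) (hp : commutator E = ⊤) [Finite p.ker] {x0 : V} (hx0 : Q x0 = 1)
    (hstab : frameStab Q ![x0] ≤ ⁅frameStab Q ![x0], frameStab Q ![x0]⁆)
    (hpair : ∀ x y : Pts Q (1 : F), R Q x y →
      frameStab Q ![x.1, y.1] ≤ ⁅frameStab Q ![x.1, y.1], frameStab Q ![x.1, y.1]⁆) :
    p.ker ≤ ⁅(frameStab Q ![x0]).comap p, (frameStab Q ![x0]).comap p⁆ := by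
  classical
  let act' := act p (1 : F)
  have hrange : ∀ e, p e ∈ commutator (orth Q) := fun e => hr ▸ ⟨e, rfl⟩
  have hst : ∀ x : Pts Q (1 : F), MulAction.stabilizer E x = (frameStab Q ![x.1]).comap p := fun x => by
    ext e
    constructor
    · intro h
      exact ⟨hrange e, fun i => by fin_cases i; exact congrArg Subtype.val h⟩
    · exact fun h => Subtype.ext (h.2 0)
  have hle : ∀ {k : ℕ} (w : Fin k → V), frameStab Q w ≤ p.range := fun w g hg => hr ▸ hg.1
  let y0 : Pts Q (1 : F) := ⟨x0, hx0⟩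
  refine TriangleCover.ker_le (graph hQ h2 hr.ge hn) (conn hQ h2 hn) hc
    (fun z hz x => Subtype.ext ?_) (hp ▸ le_top) (trans' hQ h2 hr.ge hn) (x0 := y0) ?_ ?_ ?_
  · show (p z : V ≃ₗ[F] V) x.1 = x.1
    rw [MonoidHom.mem_ker.1 hz]; rfl
  · exact (Subgroup.commutator_le_self _).trans (hst y0).ge
  · rw [hst y0]
    exact pre_le (hle _) hstab
  · intro x y hxy
    have hs : MulAction.stabilizer E x ⊓ MulAction.stabilizer E y =
        (frameStab Q ![x.1, y.1]).comap p := by
      rw [hst, hst]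
      ext e
      constructor
      · rintro ⟨h1, h2'⟩
        exact ⟨hrange e, fun i => by fin_cases i; exacts [h1.2 0, h2'.2 0]⟩
      · exact fun h => ⟨⟨h.1, fun i => by fin_cases i; exact h.2 0⟩,
          ⟨h.1, fun i => by fin_cases i; exact h.2 1⟩⟩
    rw [hs]
    exact pre_le (hle _) (hpair x y hxy)

end CfsgLib.Schur.EvenCover
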