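import Cfsg.Agent.Lib.Schur.OddMultiplier

/-!
Perfect central extensions of the commutator subgroup of an orthogonal group of minus type in odd
characteristic have a kernel of order at most two.
-/

set_option autoImplicit false
set_option maxHeartbeats 800000

namespace CfsgLib.Schur.MinusBound

open QuadraticMap CfsgLib.Geometry CfsgLib.Geometry.NormGraph Matrix
open CfsgLib.Schur.OrthCover (act Pts R T)
open CfsgLib.Schur.OddMultiplier (QO)
open scoped commutatorElement

universe u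

variable {F : Type u} [Field F]

/-- The index type. -/
abbrev Idx (m : ℕ) : Type := (Fin m ⊕ Fin m) ⊕ Fin 2

variable (F) in
/-- The standard minus form. -/
noncomputable abbrev QM (m : ℕ) (a b : F) : QuadraticForm F (Idx m → F) := matQuad (minusMat m F a b)

theorem QM_apply {m : ℕ} (a b : F) (v : Idx m → F) :
    QM F m a b v = (∑ i, v (.inl (.inl i)) * v (.inl (.inr i))) +
      (v (.inr 0) ^ 2 + a * v (.inr 0) * v (.inr 1) + b * v (.inr 1) ^ 2) := by
  show (⇑(matQuad (minusMat m F a b))) v = _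
  rw [coe_matQuad_minus]; rfl

theorem finrank_QM (m : ℕ) : Module.finrank F (Idx m → F) = 2 * m + 2 := by
  simp [Fintype.card_sum]; omega

section Coords

variable {m : ℕ} {a b : F}

/-- The vector orthogonal to the first basis vector of the binary part. -/
def xv (m : ℕ) (a : F) : Idx m → F := Sum.elim 0 ![-a / 2, 1]

/-- The first basis vector of the binary part. -/
def yv (m : ℕ) : Idx m → F := Sum.elim 0 ![1, 0]

variable (h2 : (2 : F) ≠ 0)

include h2

theorem QM_xv : QM F m a b (xv m a) = b - a ^ 2 / 4 := by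
  have h4 : (4 : F) ≠ 0 := by
    rw [show (4 : F) = 2 * 2 by norm_num]; exact mul_ne_zero h2 h2
  rw [QM_apply]
  simp [xv]
  field_simp
  ring

omit h2 in
theorem QM_yv : QM F m a b (yv m) = 1 := by rw [QM_apply]; simp [yv]

theorem xv_ne (hab : ∀ z₁ z₂ : F, z₁ ^ 2 + a * z₁ * z₂ + b * z₂ ^ 2 = 0 → z₁ = 0 ∧ z₂ = 0) :
    b - a ^ 2 / 4 ≠ 0 := by
  intro h
  have h4 : (4 : F) ≠ 0 := by
    rw [show (4 : F) = 2 * 2 by norm_num]; exact mul_ne_zero h2 h2
  refine one_ne_zero (hab (-a / 2) 1 ?_).2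
  field_simp at h ⊢
  linear_combination h

theorem nondeg_QM (hab : ∀ z₁ z₂ : F, z₁ ^ 2 + a * z₁ * z₂ + b * z₂ ^ 2 = 0 → z₁ = 0 ∧ z₂ = 0) :
    (polarBilin (QM F m a b)).Nondegenerate := by
  refine nondegenerate_matQuad ?_
  rw [det_minus_gram]
  refine mul_ne_zero (pow_ne_zero _ (neg_ne_zero.2 one_ne_zero)) fun h => xv_ne h2 hab ?_
  have h4 : (4 : F) ≠ 0 := by
    rw [show (4 : F) = 2 * 2 by norm_num]; exact mul_ne_zero h2 h2
  field_simp
  linear_combination h

theorem polar_xv (v : Idx m → F) :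
    polar (QM F m a b) (xv m a) v = 2 * (b - a ^ 2 / 4) * v (.inr 1) := by
  have h4 : (4 : F) ≠ 0 := by
    rw [show (4 : F) = 2 * 2 by norm_num]; exact mul_ne_zero h2 h2
  rw [polar, QM_apply, QM_apply, QM_apply]
  simp [xv]
  field_simp
  ring

omit h2 in
theorem polar_yv (v : Idx m → F) :
    polar (QM F m a b) (yv m) v = 2 * v (.inr 0) + a * v (.inr 1) := by
  rw [polar, QM_apply, QM_apply, QM_apply]
  simp [yv]
  ring

theorem polar_xv_yv : polar (QM F m a b) (xv m a) (yv m) = 0 := by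
  rw [polar_xv h2]; simp [yv]

/-- The orthogonal of `xv`. -/
theorem exists_odd_perp
    (hab : ∀ z₁ z₂ : F, z₁ ^ 2 + a * z₁ * z₂ + b * z₂ ^ 2 = 0 → z₁ = 0 ∧ z₂ = 0) :
    ∃ e : polarPerp (QM F m a b) (Submodule.span F (Set.range ![xv m a])) ≃ₗ[F]
      (Unit ⊕ (Fin m ⊕ Fin m) → F), ∀ v, QO F m (e v) = QM F m a b (v : Idx m → F) := by
  classical
  have hc := xv_ne h2 hab
  have hQ := nondeg_QM (m := m) h2 hab
  set C := polarPerp (QM F m a b) (Submodule.span F (Set.range ![xv m a]))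
  have hmem : ∀ v, v ∈ C → v (.inr 1) = 0 := fun v hv => by
    have h := mem_polarPerp.1 hv (xv m a) (Submodule.subset_span ⟨0, rfl⟩)
    rw [polar_xv h2] at h
    exact (mul_eq_zero.1 h).resolve_left (mul_ne_zero h2 hc)
  let f : C →ₗ[F] (Unit ⊕ (Fin m ⊕ Fin m) → F) :=
    { toFun := fun v => Sum.elim (fun _ => v.1 (.inr 0)) (v.1 ∘ Sum.inl)
      map_add' := fun x y => by funext A; rcases A with _ | _ <;> rfl
      map_smul' := fun c x => by funext A; rcases A with _ | _ <;> rfl }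
  have hinj : Function.Injective f := fun x y h => Subtype.ext (funext fun A => by
    rcases A with A | i
    · exact congrFun h (.inr A)
    · fin_cases i
      · exact congrFun h (.inl ())
      · exact (hmem _ x.2).trans (hmem _ y.2).symm)
  have hdim : Module.finrank F C = Module.finrank F (Unit ⊕ (Fin m ⊕ Fin m) → F) := by
    have h : Module.finrank F C + Module.finrank F (Submodule.span F (Set.range ![xv m a])) =
        Module.finrank F (Idx m → F) := finrank_polarPerp hQ _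
    have hfam := orth_family (Q := QM F m a b) h2 ![xv m a]
      (fun i => by fin_cases i; show QM F m a b (xv m a) ≠ 0; rw [QM_xv h2]; exact hc)
      fun i j h => absurd (Subsingleton.elim i j) h
    rw [hfam.2.1, finrank_QM] at h
    rw [OddMultiplier.finrank_QO]
    omega
  refine ⟨f.linearEquivOfInjective hinj hdim, fun v => ?_⟩
  rw [LinearMap.linearEquivOfInjective_apply, OddMultiplier.QO_apply, QM_apply, hmem _ v.2]
  show v.1 (.inr 0) ^ 2 + ∑ i, v.1 (.inl (.inl i)) * v.1 (.inl (.inr i)) = _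
  ring

/-- The orthogonal of the binary part. -/
theorem exists_plus_perp
    (hab : ∀ z₁ z₂ : F, z₁ ^ 2 + a * z₁ * z₂ + b * z₂ ^ 2 = 0 → z₁ = 0 ∧ z₂ = 0) :
    ∃ e : polarPerp (QM F m a b) (Submodule.span F (Set.range ![xv m a, yv m])) ≃ₗ[F]
      (Fin m ⊕ Fin m → F), ∀ v, matQuad (plusMat m F) (e v) = QM F m a b (v : Idx m → F) := by
  classical
  have hc := xv_ne h2 hab
  have hQ := nondeg_QM (m := m) h2 hab
  set C := polarPerp (QM F m a b) (Submodule.span F (Set.range ![xv m a, yv m]))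
  have hmem : ∀ v, v ∈ C → v (.inr 1) = 0 ∧ v (.inr 0) = 0 := fun v hv => by
    have h := mem_polarPerp.1 hv (xv m a) (Submodule.subset_span ⟨0, rfl⟩)
    rw [polar_xv h2] at h
    have h1 := (mul_eq_zero.1 h).resolve_left (mul_ne_zero h2 hc)
    have h' := mem_polarPerp.1 hv (yv m) (Submodule.subset_span ⟨1, rfl⟩)
    rw [polar_yv, h1, mul_zero, add_zero] at h'
    exact ⟨h1, (mul_eq_zero.1 h').resolve_left h2⟩
  let f : C →ₗ[F] (Fin m ⊕ Fin m → F) :=
    { toFun := fun v => v.1 ∘ Sum.inl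
      map_add' := fun _ _ => rfl
      map_smul' := fun _ _ => rfl }
  have hinj : Function.Injective f := fun x y h => Subtype.ext (funext fun A => by
    rcases A with A | i
    · exact congrFun h A
    · fin_cases i
      · exact (hmem _ x.2).2.trans (hmem _ y.2).2.symm
      · exact (hmem _ x.2).1.trans (hmem _ y.2).1.symm)
  have hdim : Module.finrank F C = Module.finrank F (Fin m ⊕ Fin m → F) := by
    have h : Module.finrank F C + Module.finrank F (Submodule.span F (Set.range ![xv m a, yv m])) =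
        Module.finrank F (Idx m → F) := finrank_polarPerp hQ _
    have hP := pair_family (Q := QM F m a b) h2 (x := xv m a) (y := yv m)
      (by rw [QM_xv h2]; exact hc) (by rw [QM_yv]; exact one_ne_zero) (polar_xv_yv h2)
    rw [hP.2.1, finrank_QM] at h
    simp [Fintype.card_sum]
    omega
  refine ⟨f.linearEquivOfInjective hinj hdim, fun v => ?_⟩
  rw [LinearMap.linearEquivOfInjective_apply, QM_apply, (hmem _ v.2).1, (hmem _ v.2).2,
    show matQuad (plusMat m F) (f v) = Cfsg.quadFormPlus m F (f v) from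
      congrFun (coe_matQuad_plus m) (f v)]
  show ∑ i, v.1 (.inl (.inl i)) * v.1 (.inl (.inr i)) = _
  ring

end Coords

/-- A map which is injective modulo a subgroup is surjective modulo it. -/
theorem exists_root {G : Type*} [Group G] {Z : Subgroup G} [Finite Z] (hZ : Z ≤ Subgroup.center G)
    (M : Subgroup G) (r : ℕ) (hr : ∀ z ∈ Z, z ^ r ∈ M → z ∈ M) :
    ∀ z ∈ Z, ∃ w ∈ Z, (w ^ r)⁻¹ * z ∈ M := by
  have hcomm : ∀ a b : Z, a * b = b * a := fun a b =>
    Subtype.ext (Subgroup.mem_center_iff.1 (hZ b.2) a)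
  let N : Subgroup Z := M.subgroupOf Z
  have hN : N.Normal := ⟨fun n hn g => by rwa [hcomm g n, mul_inv_cancel_right]⟩
  have hi : Function.Injective fun x : Z ⧸ N => x ^ r := by
    intro x y
    obtain ⟨x, rfl⟩ := QuotientGroup.mk_surjective x
    obtain ⟨y, rfl⟩ := QuotientGroup.mk_surjective y
    intro h
    simp only [← QuotientGroup.mk_pow] at h
    have h' := QuotientGroup.eq.1 h
    refine QuotientGroup.eq.2 ?_
    have h3 : ((x⁻¹ * y : Z) : G) ^ r ∈ M := by
      rw [← Subgroup.coe_pow, Commute.mul_pow (hcomm _ _), inv_pow]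
      exact h'
    exact hr _ (x⁻¹ * y).2 h3
  intro z hz
  obtain ⟨w, hw⟩ := Finite.injective_iff_surjective.1 hi (QuotientGroup.mk ⟨z, hz⟩)
  obtain ⟨w, rfl⟩ := QuotientGroup.mk_surjective w
  simp only [← QuotientGroup.mk_pow] at hw
  have h' := QuotientGroup.eq.1 hw
  exact ⟨w, w.2, h'⟩

variable [Fintype F]

/-- Dimension eight over three elements. -/
theorem ker_bound_eight_three (hq : Fintype.card F = 3) {V : Type*} [AddCommGroup V] [Module F V]
    [FiniteDimensional F V] {Q : QuadraticForm F V} (hQ : (polarBilin Q).Nondegenerate)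
    (hn : Module.finrank F V = 8) {x0 y0 w : V} (hQx : Q x0 = 1) (hQy : Q y0 = 1) (hw : Q w = 1)
    (hxy : polar Q x0 y0 = 0) (hwx : polar Q x0 w = 0) (hwy : polar Q y0 w = 0)
    (e1 : polarPerp Q (Submodule.span F (Set.range ![x0])) ≃ₗ[F] (Unit ⊕ (Fin 3 ⊕ Fin 3) → F))
    (he1 : ∀ v, QO F 3 (e1 v) = Q (v : V))
    (e2 : polarPerp Q (Submodule.span F (Set.range ![x0, y0])) ≃ₗ[F] (Fin 3 ⊕ Fin 3 → F))
    (he2 : ∀ v, matQuad (plusMat 3 F) (e2 v) = Q (v : V))
    {Γ : Type*} [Group Γ] {p : Γ →* orth Q} [Finite p.ker]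
    (hr : p.range = commutator (orth Q)) (hc : p.ker ≤ Subgroup.center Γ)
    (hp : commutator Γ = ⊤) : Nat.card p.ker ≤ 2 := by
  classical
  have h2 : (2 : F) ≠ 0 := two_ne_zero_of_odd_card hq ⟨1, rfl⟩
  have h3 : (3 : F) = 0 := by
    have := FiniteField.cast_card_eq_zero F
    rw [hq] at this
    exact_mod_cast this
  -- the part prime to three
  have hle := OrthCover.ker_le_stab hQ h2 (by omega) (fun h => by omega) hr hc hp
    (x0 := x0) (by rw [hQx]; exact one_ne_zero)
  set S := (frameStab Q ![x0]).comap p with hS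
  obtain ⟨r1, hrr1, hrc1, hrp1, hrk1⟩ := OrthCover.stab_cover hQ h2 hr hc ![x0]
    (fun i => by fin_cases i; show Q x0 ≠ 0; rw [hQx]; exact one_ne_zero)
    (fun i j h => absurd (Subsingleton.elim i j) h) (by omega) e1 he1
  have hfin1 : Finite r1.ker := Finite.of_injective
    (fun d : r1.ker => (⟨d.1.1, (hrk1 _).1 d.2⟩ : p.ker))
    fun d d' h => Subtype.ext (Subtype.ext (congrArg (fun z : p.ker => z.1) h))
  obtain ⟨K, hK, hKfin, hK3⟩ := OddMultiplier.ker_bound_seven h2 h3 hrr1 hrc1 hrp1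
  -- the part prime to two
  set S2 := (frameStab Q ![x0, y0]).comap p with hS2
  set D := ⁅S2, S2⁆ with hD
  have hcomm : ∀ {z : Γ}, z ∈ p.ker → ∀ g, Commute z g := fun hz g =>
    (Subgroup.mem_center_iff.1 (hc hz) g).symm
  let M : Subgroup Γ :=
    { carrier := {z | z ∈ p.ker ∧ ∃ j : ℕ, z ^ 2 ^ j ∈ D}
      one_mem' := ⟨one_mem _, 0, by simp⟩
      mul_mem' := by
        rintro a b ⟨ha, i, hi⟩ ⟨hb, j, hj⟩
        refine ⟨mul_mem ha hb, i + j, ?_⟩
        rw [(hcomm ha b).mul_pow]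
        refine mul_mem ?_ ?_
        · rw [pow_add, pow_mul]; exact pow_mem hi _
        · rw [pow_add, mul_comm, pow_mul]; exact pow_mem hj _
      inv_mem' := by
        rintro a ⟨ha, i, hi⟩
        exact ⟨inv_mem ha, i, by rw [inv_pow]; exact inv_mem hi⟩ }
  have hMz : M ≤ p.ker := fun z hz => hz.1
  have hsq : ∀ z ∈ p.ker, z ^ 2 ∈ M → z ∈ M := by
    rintro z hz ⟨-, j, hj⟩
    exact ⟨hz, j + 1, by rwa [pow_succ', pow_mul]⟩
  have hDker : p.ker ⊓ D ≤ M := fun z hz => ⟨hz.1, 0, by simpa using hz.2⟩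
  have hrange : ∀ g, p g ∈ commutator (orth Q) := fun g => hr ▸ ⟨g, rfl⟩
  -- the group fixing the line of `x0`
  let E1 : Subgroup Γ :=
    { carrier := {g | ((p g : orth Q) : V ≃ₗ[F] V) x0 = x0 ∨ ((p g : orth Q) : V ≃ₗ[F] V) x0 = -x0}
      one_mem' := Or.inl (by rw [map_one]; rfl)
      mul_mem' := by
        intro g h hg hh
        show ((p (g * h) : orth Q) : V ≃ₗ[F] V) x0 = x0 ∨ _
        rw [map_mul]
        show ((p g : orth Q) : V ≃ₗ[F] V) (((p h : orth Q) : V ≃ₗ[F] V) x0) = x0 ∨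
          ((p g : orth Q) : V ≃ₗ[F] V) (((p h : orth Q) : V ≃ₗ[F] V) x0) = -x0
        rcases hg with e | e <;> rcases hh with e' | e' <;> simp [e, e']
      inv_mem' := by
        intro g hg
        show ((p g⁻¹ : orth Q) : V ≃ₗ[F] V) x0 = x0 ∨ _
        rw [map_inv]
        show ((p g : orth Q) : V ≃ₗ[F] V).symm x0 = x0 ∨
          ((p g : orth Q) : V ≃ₗ[F] V).symm x0 = -x0
        rw [LinearEquiv.symm_apply_eq, LinearEquiv.symm_apply_eq, map_neg]
        rcases hg with e | e
        · exact Or.inl e.symm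
        · exact Or.inr (by rw [e, neg_neg]) }
  set W := Submodule.span F (Set.range ![x0]) with hW
  set C := polarPerp Q W with hCdef
  have hfam := orth_family (Q := Q) h2 ![x0]
    (fun i => by fin_cases i; show Q x0 ≠ 0; rw [hQx]; exact one_ne_zero)
    fun i j h => absurd (Subsingleton.elim i j) h
  have hC : C ⊓ polarPerp Q C = ⊥ := inf_polarPerp_perp hQ hfam.2.2
  set QC := Q.comp C.subtype with hQCdef
  have hQC : (polarBilin QC).Nondegenerate := nondeg_restrict hC
  have hnC : Module.finrank F C = 7 := by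
    have h : Module.finrank F C + Module.finrank F W = Module.finrank F V := finrank_polarPerp hQ W
    rw [hfam.2.1, hn] at h
    omega
  have hmemC : ∀ v : V, v ∈ C ↔ polar Q x0 v = 0 := fun v => by
    constructor
    · exact fun h => mem_polarPerp.1 h x0 (Submodule.subset_span ⟨0, rfl⟩)
    · intro h
      refine mem_polarPerp.2 fun w hw => ?_
      rw [hW, Matrix.range_cons, Matrix.range_empty, Set.union_empty,
        Submodule.mem_span_singleton] at hw
      obtain ⟨t, rfl⟩ := hw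
      rw [polar_smul_left', h, mul_zero]
  have hinC : ∀ (g : E1) (v : V), v ∈ C → ((p g.1 : orth Q) : V ≃ₗ[F] V) v ∈ C := fun g v hv => by
    rw [hmemC] at hv ⊢
    have h := orth_polar (p g.1).2 x0 v
    rcases g.2 with e | e
    · rw [e] at h; rw [h, hv]
    · rw [e, polar_neg_left] at h; rw [← neg_eq_zero, h, hv]
  have hres : ∀ g : E1, ∃ f : orth QC, ∀ v : C,
      (((f : C ≃ₗ[F] C) v : C) : V) = ((p g.1 : orth Q) : V ≃ₗ[F] V) v := fun g => by
    let f : C →ₗ[F] C :=
      { toFun := fun v => ⟨((p g.1 : orth Q) : V ≃ₗ[F] V) v, hinC g v v.2⟩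
        map_add' := fun x y => Subtype.ext (map_add _ _ _)
        map_smul' := fun t x => Subtype.ext (LinearEquiv.map_smul _ t _) }
    have hinj : Function.Injective f := fun x y h =>
      Subtype.ext (((p g.1 : orth Q) : V ≃ₗ[F] V).injective (congrArg Subtype.val h))
    exact ⟨⟨LinearEquiv.ofBijective f ⟨hinj, LinearMap.injective_iff_surjective.1 hinj⟩,
      mem_orth.2 fun v => mem_orth.1 (p g.1).2 (v : V)⟩, fun v => rfl⟩
  choose f hf using hres
  let ρ : E1 →* orth QC := MonoidHom.mk' f fun g h => Subtype.ext (LinearEquiv.ext fun v =>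
    Subtype.ext (by
      show (((f (g * h) : C ≃ₗ[F] C) v : C) : V) = (((f g : C ≃ₗ[F] C) ((f h : C ≃ₗ[F] C) v) : C) : V)
      rw [hf, hf, hf, Subgroup.coe_mul, map_mul]
      rfl))
  have hρ : commutator (orth QC) ≤ ρ.range := by
    intro h hh
    have hfr := (frameStab_eq_map hQ h2 ![x0]
      (fun i => by fin_cases i; show Q x0 ≠ 0; rw [hQx]; exact one_ne_zero)
      (fun i j h => absurd (Subsingleton.elim i j) h)).ge ⟨h, hh, rfl⟩
    obtain ⟨g, hg⟩ := hr.ge hfr.1
    have hg1 : g ∈ E1 := Or.inl (by rw [hg]; exact hfr.2 0)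
    refine ⟨⟨g, hg1⟩, Subtype.ext (LinearEquiv.ext fun v => Subtype.ext ?_)⟩
    show (((f ⟨g, hg1⟩ : C ≃ₗ[F] C) v : C) : V) = _
    rw [hf, hg]
    exact extHom_apply hQ hC h v
  let act' := act ρ (1 : F)
  have hsm : ∀ (g : E1) (v : Pts QC 1),
      (((g • v : Pts QC 1) : C) : V) = ((p g.1 : orth Q) : V ≃ₗ[F] V) ((v.1 : C) : V) := fun g v =>
    hf g v.1
  have hfix : ∀ (g : E1) (v : Pts QC 1), g • v = v ↔
      ((p g.1 : orth Q) : V ≃ₗ[F] V) ((v.1 : C) : V) = ((v.1 : C) : V) := fun g v => by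
    rw [← hsm]
    exact ⟨fun h => by rw [h], fun h => Subtype.ext (Subtype.ext h)⟩
  have hy0C : y0 ∈ C := (hmemC y0).2 hxy
  let yy : Pts QC 1 := ⟨⟨y0, hy0C⟩, hQy⟩
  -- a product of two reflections changing the sign of `x0`
  have hflipelt : ∀ w : V, Q w = 1 → polar Q x0 w = 0 → ∃ g : Γ,
      ((p g : orth Q) : V ≃ₗ[F] V) x0 = -x0 ∧
      ∀ v, polar Q x0 v = 0 → ((p g : orth Q) : V ≃ₗ[F] V) v = v - polar Q v w • w := by
    intro w hw hxw
    have hw0 : Q w ≠ 0 := by rw [hw]; exact one_ne_zero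
    have hx : Q x0 ≠ 0 := by rw [hQx]; exact one_ne_zero
    have hR := reflGroup_eq_orth_of_two_ne hQ h2
    obtain ⟨g, hg⟩ : (oRefl Q w hw0 * oRefl Q x0 hx : orth Q) ∈ p.range := by
      rw [hr, mem_commutator_orth_iff hQ hR, map_mul, orthInvariant_oRefl, orthInvariant_oRefl]
      refine Prod.ext ?_ ?_
      · show sqMk hw0 * sqMk hx = 1
        have e1 : sqMk hw0 = 1 := (sqMk_eq_one_iff hw0).2 (by rw [hw]; exact IsSquare.one)
        have e2 : sqMk hx = 1 := (sqMk_eq_one_iff hx).2 (by rw [hQx]; exact IsSquare.one)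
        rw [e1, e2, one_mul]
      · show Multiplicative.ofAdd (1 : ZMod 2) * Multiplicative.ofAdd 1 = 1
        decide
    refine ⟨g, ?_, fun v hv => ?_⟩
    · rw [hg]
      show refl Q w hw0 (refl Q x0 hx x0) = -x0
      rw [refl_apply Q x0, polar_self', hQx, refl_apply, polar_sub_left, polar_smul_left', hxw]
      simp
      module
    · rw [hg]
      show refl Q w hw0 (refl Q x0 hx v) = _
      rw [refl_apply Q x0, polar_comm Q v x0, hv]
      simp [refl_apply, hw]
  -- an element of the stabiliser outside the stabiliser of `x0`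
  obtain ⟨t, htx, htv⟩ := hflipelt w hw hwx
  have hty : ((p t : orth Q) : V ≃ₗ[F] V) y0 = y0 := by
    rw [htv _ hxy, hwy, zero_smul, sub_zero]
  have hxne : x0 ≠ -x0 := fun h => by
    have hh : (2 : F) • x0 = 0 := by rw [two_smul]; nth_rewrite 2 [h]; exact add_neg_cancel x0
    rcases smul_eq_zero.1 hh with h' | h'
    · exact h2 h'
    · rw [h', QuadraticMap.map_zero] at hQx; exact zero_ne_one hQx
  have hS2mem : ∀ g : Γ, ((p g : orth Q) : V ≃ₗ[F] V) x0 = x0 →
      ((p g : orth Q) : V ≃ₗ[F] V) y0 = y0 → g ∈ S2 := fun g e e' =>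
    ⟨hrange g, fun i => by fin_cases i <;> assumption⟩
  have hS2le : S2 ≤ p.ker ⊔ D := OrthCover.pre_frame_le hr hQ h2 _
    (fun i => by
      fin_cases i
      · show Q x0 ≠ 0; rw [hQx]; exact one_ne_zero
      · show Q y0 ≠ 0; rw [hQy]; exact one_ne_zero)
    (fun i j hij => by
      fin_cases i <;> fin_cases j <;> first
        | exact absurd rfl hij
        | exact hxy
        | exact (polar_comm Q _ _).trans hxy) (by omega)
  have hker_n : ∀ {A : Subgroup Γ}, A ≤ p.ker → A.Normal := fun hA => ⟨fun n hn g => by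
    rwa [← (hcomm (hA hn) g).eq, mul_inv_cancel_right]⟩
  have hMn : M.Normal := hker_n hMz
  -- correct the element
  have htt : t * t ∈ S2 := hS2mem _
    (by rw [map_mul]; show ((p t : orth Q) : V ≃ₗ[F] V) (((p t : orth Q) : V ≃ₗ[F] V) x0) = x0
        rw [htx, map_neg, htx, neg_neg])
    (by rw [map_mul]; show ((p t : orth Q) : V ≃ₗ[F] V) (((p t : orth Q) : V ≃ₗ[F] V) y0) = y0
        rw [hty, hty])
  have hroot := exists_root hc M 2 hsq
  obtain ⟨t', ht'x, ht'y, ht'2⟩ : ∃ t' : Γ, ((p t' : orth Q) : V ≃ₗ[F] V) x0 = -x0 ∧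
      ((p t' : orth Q) : V ≃ₗ[F] V) y0 = y0 ∧ t' * t' ∈ D ⊔ M := by
    have h := hS2le htt
    have : p.ker.Normal := MonoidHom.normal_ker p
    rw [← SetLike.mem_coe, Subgroup.normal_mul] at h
    obtain ⟨z, hz, d, hd, hzd⟩ := Set.mem_mul.1 h
    obtain ⟨v, hv, hvz⟩ := hroot z hz
    refine ⟨v⁻¹ * t, ?_, ?_, ?_⟩
    · rw [map_mul, map_inv, MonoidHom.mem_ker.1 hv, inv_one, one_mul]; exact htx
    · rw [map_mul, map_inv, MonoidHom.mem_ker.1 hv, inv_one, one_mul]; exact hty
    · have e : v⁻¹ * t * (v⁻¹ * t) = ((v ^ 2)⁻¹ * z) * d := by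
        rw [mul_assoc (v⁻¹) t, ← mul_assoc t, ← (hcomm (inv_mem hv) t).eq, mul_assoc _ z, hzd, pow_two,
          _root_.mul_inv_rev]
        group
      rw [e]
      exact mul_mem (Subgroup.mem_sup_right hvz) (Subgroup.mem_sup_left hd)
  set N0 := D ⊔ M with hN0
  have hDS : D ≤ S2 := Subgroup.commutator_le_self S2
  have hN0S : N0 ≤ S2 := sup_le hDS fun z hz => hS2mem z
    (by rw [MonoidHom.mem_ker.1 (hMz hz)]; rfl) (by rw [MonoidHom.mem_ker.1 (hMz hz)]; rfl)
  have hconjS : ∀ n ∈ S2, t'⁻¹ * n * t' ∈ S2 := fun n hn => by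
    refine hS2mem _ ?_ ?_
    · rw [map_mul, map_mul, map_inv]
      show ((p t' : orth Q) : V ≃ₗ[F] V).symm (((p n : orth Q) : V ≃ₗ[F] V)
        (((p t' : orth Q) : V ≃ₗ[F] V) x0)) = x0
      have : ((p n : orth Q) : V ≃ₗ[F] V) x0 = x0 := hn.2 0
      rw [ht'x, map_neg, this, LinearEquiv.symm_apply_eq, ht'x]
    · rw [map_mul, map_mul, map_inv]
      show ((p t' : orth Q) : V ≃ₗ[F] V).symm (((p n : orth Q) : V ≃ₗ[F] V)
        (((p t' : orth Q) : V ≃ₗ[F] V) y0)) = y0
      have : ((p n : orth Q) : V ≃ₗ[F] V) y0 = y0 := hn.2 1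
      rw [ht'y, this, LinearEquiv.symm_apply_eq, ht'y]
  have hconjN : ∀ n ∈ N0, t'⁻¹ * n * t' ∈ N0 := by
    intro n hn
    have hle : N0.map (MulAut.conj t'⁻¹).toMonoidHom ≤ N0 := by
      rw [hN0, Subgroup.map_sup]
      refine sup_le_sup ?_ ?_
      · rw [hD, Subgroup.map_commutator]
        refine Subgroup.commutator_mono ?_ ?_ <;>
        · rintro _ ⟨s, hs, rfl⟩
          simpa [MulAut.conj_apply] using hconjS s hs
      · rintro _ ⟨s, hs, rfl⟩
        show t'⁻¹ * s * t'⁻¹⁻¹ ∈ M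
        rwa [inv_inv, mul_assoc, (hcomm (hMz hs) t').eq, inv_mul_cancel_left]
    simpa [MulAut.conj_apply] using hle ⟨n, hn, rfl⟩
  let D2 : Subgroup Γ :=
    { carrier := {g | g ∈ N0 ∨ t'⁻¹ * g ∈ N0}
      one_mem' := Or.inl (one_mem _)
      mul_mem' := by
        rintro g h (hg | hg) (hh | hh)
        · exact Or.inl (mul_mem hg hh)
        · exact Or.inr (by
            have := mul_mem (hconjN g hg) hh
            rw [show t'⁻¹ * g * t' * (t'⁻¹ * h) = t'⁻¹ * (g * h) by group] at this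
            exact this)
        · exact Or.inr (by rw [← mul_assoc]; exact mul_mem hg hh)
        · refine Or.inl ?_
          have := mul_mem (mul_mem ht'2 (hconjN _ hg)) hh
          rw [show t' * t' * (t'⁻¹ * (t'⁻¹ * g) * t') * (t'⁻¹ * h) = g * h by group] at this
          exact this
      inv_mem' := by
        rintro g (hg | hg)
        · exact Or.inl (inv_mem hg)
        · refine Or.inr ?_
          have h' := mul_mem (hconjN _ (inv_mem hg)) (inv_mem ht'2)
          rw [show t'⁻¹ * (t'⁻¹ * g)⁻¹ * t' * (t' * t')⁻¹ = t'⁻¹ * g⁻¹ by group] at h'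
          exact h' }
  have hD2E : ∀ g ∈ D2, g ∈ E1 ∧ ((p g : orth Q) : V ≃ₗ[F] V) y0 = y0 := by
    have hbase : ∀ g ∈ N0, ((p g : orth Q) : V ≃ₗ[F] V) x0 = x0 ∧
        ((p g : orth Q) : V ≃ₗ[F] V) y0 = y0 := fun g hg => ⟨(hN0S hg).2 0, (hN0S hg).2 1⟩
    rintro g (hg | hg)
    · exact ⟨Or.inl (hbase g hg).1, (hbase g hg).2⟩
    · obtain ⟨k1, k2⟩ := hbase _ hg
      rw [map_mul, map_inv] at k1 k2
      change ((p t' : orth Q) : V ≃ₗ[F] V).symm (((p g : orth Q) : V ≃ₗ[F] V) x0) = x0 at k1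
      change ((p t' : orth Q) : V ≃ₗ[F] V).symm (((p g : orth Q) : V ≃ₗ[F] V) y0) = y0 at k2
      rw [LinearEquiv.symm_apply_eq] at k1 k2
      exact ⟨Or.inr (k1.trans ht'x), k2.trans ht'y⟩
  have hsup : ∀ {A B : Subgroup Γ}, A ≤ E1 → B ≤ E1 →
      (A ⊔ B).subgroupOf E1 = A.subgroupOf E1 ⊔ B.subgroupOf E1 := fun hA hB =>
    Subgroup.subgroupOf_sup hA hB
  have hkE : p.ker ≤ E1 := fun z hz => Or.inl (by rw [MonoidHom.mem_ker.1 hz]; rfl)
  set Z := p.ker.subgroupOf E1 with hZ
  have hSE : S ≤ E1 := fun g hg => Or.inl (hg.2 0)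
  have hcommE : ∀ {A : Subgroup Γ}, A ≤ E1 → ⁅A, A⁆.subgroupOf E1 ≤ ⁅A.subgroupOf E1, A.subgroupOf E1⁆ :=
    fun {A} hA g hg => by
      have e : ⁅A, A⁆ = ⁅A.subgroupOf E1, A.subgroupOf E1⁆.map E1.subtype := by
        rw [Subgroup.map_commutator, Subgroup.subgroupOf, Subgroup.map_comap_eq_self
          (E1.range_subtype.symm ▸ hA)]
      have hg' : (g : Γ) ∈ ⁅A, A⁆ := hg
      rw [e] at hg'
      obtain ⟨g', hg', hgg⟩ := hg'
      rwa [← Subtype.ext hgg]
  have hnQ : 7 ≤ Module.finrank F C := hnC.ge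
  have hkey : Z ≤ M.subgroupOf E1 := by
    have hMn' : (M.subgroupOf E1).Normal := hMn.subgroupOf E1
    have hZf : Finite Z := Finite.of_injective (fun z : Z => (⟨z.1.1, z.2⟩ : p.ker))
      fun z z' h => Subtype.ext (Subtype.ext (congrArg (fun y : p.ker => y.1) h))
    refine TriangleCover.step (E := E1) (X := Pts QC (1 : F))
      (OrthCover.graph hQC h2 one_ne_zero hρ hnQ)
      (Z := Z) (D := D2.subgroupOf E1) ?_ ?_ ?_ (OrthCover.trans' hQC h2 one_ne_zero hρ hnQ)
      (x0 := yy) ?_ ?_ (fun z hz => hMz hz) ?_ ?_ (r := 2)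
      (OrthCover.connFlip hQC h2 one_ne_zero hnQ (ε := -1) (by ring) ?_)
      (fun z hz h => hsq z.1 hz h) (Or.inl ⟨fun z hz => ?_, fun z hz h => ?_⟩)
    · exact fun z hz => Subgroup.mem_center_iff.2 fun g =>
        Subtype.ext (Subgroup.mem_center_iff.1 (hc hz) g)
    · exact fun z hz v => (hfix z v).2 (by rw [show p (z : Γ) = 1 from hz]; rfl)
    · intro z hz
      have h1 : (z : Γ) ∈ ⁅S, S⁆ := hle hz
      exact Subgroup.commutator_mono le_top le_top (hcommE hSE (show z ∈ _ from h1))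
    · exact fun g hg => (hfix g yy).2 (hD2E g.1 hg).2
    · intro g hg
      rw [hZ, ← hsup hkE (fun g hg => (hD2E g hg).1), Subgroup.mem_subgroupOf]
      have hgy : ((p g.1 : orth Q) : V ≃ₗ[F] V) y0 = y0 := (hfix g yy).1 hg
      have hbase : ∀ s ∈ S2, s ∈ p.ker ⊔ D2 := fun s hs => by
        refine (sup_le_sup_left (show D ≤ D2 from fun d hd => Or.inl (Subgroup.mem_sup_left hd)) _)
          (hS2le hs)
      rcases g.2 with e | e
      · exact hbase _ (hS2mem _ e hgy)
      · have h' : t'⁻¹ * g.1 ∈ S2 := by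
          refine hS2mem _ ?_ ?_ <;> rw [map_mul, map_inv]
          · show ((p t' : orth Q) : V ≃ₗ[F] V).symm (((p g.1 : orth Q) : V ≃ₗ[F] V) x0) = x0
            rw [e, LinearEquiv.symm_apply_eq, ht'x]
          · show ((p t' : orth Q) : V ≃ₗ[F] V).symm (((p g.1 : orth Q) : V ≃ₗ[F] V) y0) = y0
            rw [hgy, LinearEquiv.symm_apply_eq, ht'y]
        have ht' : t' ∈ p.ker ⊔ D2 := Subgroup.mem_sup_right (Or.inr (by rw [inv_mul_cancel]; exact one_mem _))
        have := mul_mem ht' (hbase _ h')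
        rwa [mul_inv_cancel_left] at this
    · rintro z ⟨hz, hzD⟩
      show (z : Γ) ∈ M
      have hz' : (z : Γ) ∈ p.ker := hz
      rcases (hzD : (z : Γ) ∈ D2) with h | h
      · have : p.ker.Normal := MonoidHom.normal_ker p
        rw [hN0, ← SetLike.mem_coe, Subgroup.mul_normal] at h
        obtain ⟨d, hd, k, hk, hdk⟩ := Set.mem_mul.1 h
        show (z : Γ) ∈ M
        rw [show (z : Γ) = d * k from hdk.symm]
        refine mul_mem (hDker ⟨?_, hd⟩) hk
        rw [show d = (z : Γ) * k⁻¹ by rw [show (z : Γ) = d * k from hdk.symm, mul_inv_cancel_right]]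
        show (z : Γ) * k⁻¹ ∈ p.ker
        exact mul_mem hz' (inv_mem (hMz (show k ∈ M from hk)))
      · exfalso
        have h' := (hN0S h).2 0
        rw [map_mul, map_inv, show p (E1.subtype z) = 1 from hz', mul_one] at h'
        change ((p t' : orth Q) : V ≃ₗ[F] V).symm x0 = x0 at h'
        rw [LinearEquiv.symm_apply_eq, ht'x] at h'
        exact hxne h'
    · intro x y hxy s hs
      refine ⟨2, ?_, fun z hz h => hsq z.1 hz h⟩
      set w3 : Fin 3 → V := ![x0, ((x.1 : C) : V), ((y.1 : C) : V)] with hw3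
      have hS3 : (frameStab Q w3).comap p ≤ E1 := fun g hg => Or.inl (hg.2 0)
      have hxC := (hmemC _).1 (x.1 : C).2
      have hyC := (hmemC _).1 (y.1 : C).2
      have hxy' : polar Q ((x.1 : C) : V) ((y.1 : C) : V) = 0 :=
        (polar_restrict C x.1 y.1).symm.trans hxy
      have hle3 : (frameStab Q w3).comap p ≤
          p.ker ⊔ ⁅(frameStab Q w3).comap p, (frameStab Q w3).comap p⁆ :=
        OrthCover.pre_frame_le hr hQ h2 _
          (fun i => by
            fin_cases i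
            · show Q x0 ≠ 0; rw [hQx]; exact one_ne_zero
            · show Q ((x.1 : C) : V) ≠ 0
              rw [show Q ((x.1 : C) : V) = 1 from x.2]; exact one_ne_zero
            · show Q ((y.1 : C) : V) ≠ 0
              rw [show Q ((y.1 : C) : V) = 1 from y.2]; exact one_ne_zero)
          (fun i j hij => by
            fin_cases i <;> fin_cases j <;> first
              | exact absurd rfl hij
              | exact hxC
              | exact hyC
              | exact hxy'
              | exact (polar_comm Q _ _).trans hxC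
              | exact (polar_comm Q _ _).trans hyC
              | exact (polar_comm Q _ _).trans hxy') (by omega)
      have hs1 := (hfix s x).1 hs.1
      have hs2 := (hfix s y).1 hs.2
      have hs3 : (s : Γ) ^ 2 ∈ (frameStab Q w3).comap p := by
        refine ⟨hrange _, fun i => ?_⟩
        rw [pow_two, map_mul]
        show ((p s.1 : orth Q) : V ≃ₗ[F] V) (((p s.1 : orth Q) : V ≃ₗ[F] V) (w3 i)) = w3 i
        fin_cases i
        · show ((p s.1 : orth Q) : V ≃ₗ[F] V) (((p s.1 : orth Q) : V ≃ₗ[F] V) x0) = x0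
          rcases s.2 with e | e
          · rw [e, e]
          · rw [e, map_neg, e, neg_neg]
        · show ((p s.1 : orth Q) : V ≃ₗ[F] V) (((p s.1 : orth Q) : V ≃ₗ[F] V) (x.1 : C)) = (x.1 : C)
          rw [hs1, hs1]
        · show ((p s.1 : orth Q) : V ≃ₗ[F] V) (((p s.1 : orth Q) : V ≃ₗ[F] V) (y.1 : C)) = (y.1 : C)
          rw [hs2, hs2]
      have h' : (s ^ 2 : E1) ∈ (p.ker ⊔ ⁅(frameStab Q w3).comap p, (frameStab Q w3).comap p⁆).subgroupOf E1 :=
        hle3 hs3
      rw [hsup hkE ((Subgroup.commutator_le_self _).trans hS3)] at h'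
      have hw : ((frameStab Q w3).comap p).subgroupOf E1 ≤
          MulAction.stabilizer E1 x ⊓ MulAction.stabilizer E1 y := fun g hg =>
        ⟨(hfix g x).2 (hg.2 1), (hfix g y).2 (hg.2 2)⟩
      exact sup_le_sup_left ((hcommE hS3).trans (Subgroup.commutator_mono hw hw)) _ h'
    · intro x y u u' k1 k2 k3 k4 hb
      set n : V := ((u.1 : C) : V) - ((u'.1 : C) : V) with hn'
      have hb' : polar Q ((u.1 : C) : V) ((u'.1 : C) : V) = -2 := by
        rw [← polar_restrict, hb]; ring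
      have hnx : polar Q x0 n = 0 := by
        rw [hn', polar_sub_right, (hmemC _).1 (u.1 : C).2, (hmemC _).1 (u'.1 : C).2, sub_zero]
      have hu1 : Q ((u.1 : C) : V) = 1 := u.2
      have hu2 : Q ((u'.1 : C) : V) = 1 := u'.2
      have hn1 : Q n = 1 := by
        rw [hn', Geometry.map_sub', hu1, hu2, hb']
        linear_combination h3
      obtain ⟨g, hgx, hgv⟩ := hflipelt n hn1 hnx
      let g' : E1 := ⟨g, Or.inr hgx⟩
      have hz : ∀ v : Pts QC (1 : F), R QC 1 v u → R QC 1 v u' → g' • v = v := fun v e1 e2 => by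
        refine (hfix g' v).2 ?_
        have e1' : polar Q ((v.1 : C) : V) ((u.1 : C) : V) = 0 := (polar_restrict C _ _).symm.trans e1
        have e2' : polar Q ((v.1 : C) : V) ((u'.1 : C) : V) = 0 := (polar_restrict C _ _).symm.trans e2
        rw [hgv _ ((hmemC _).1 (v.1 : C).2), hn', polar_sub_right, e1', e2', sub_zero, zero_smul,
          sub_zero]
      have e : polar Q ((u.1 : C) : V) n = 1 := by
        rw [hn', polar_sub_right, polar_self', hu1, hb']; linear_combination h3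
      have e' : polar Q ((u'.1 : C) : V) n = -1 := by
        rw [hn', polar_sub_right, polar_comm, hb', polar_self', hu2]; linear_combination -h3
      have g1 : g' • u = u' := Subtype.ext (Subtype.ext (by
        rw [hsm, hgv _ ((hmemC _).1 (u.1 : C).2), e, one_smul, hn', sub_sub_cancel]))
      refine ⟨g', hz x k1 k3, hz y (OrthCover.R.symm k2) (OrthCover.R.symm k4), g1, ?_⟩
      rw [pow_two, mul_smul, g1]
      exact Subtype.ext (Subtype.ext (by
        rw [hsm, hgv _ ((hmemC _).1 (u'.1 : C).2), e', neg_one_smul, hn']; abel))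
    · obtain ⟨v, hv, hvz⟩ := hroot z.1 hz
      rw [pow_two] at hvz
      exact ⟨⟨v, hkE hv⟩, hv, hvz⟩
    · rw [← pow_two] at h
      exact hsq z.1 hz h
  -- conclusion
  obtain ⟨r2, hrr2, hrc2, hrp2, hrk2⟩ := OrthCover.stab_cover hQ h2 hr hc ![x0, y0]
    (fun i => by
      fin_cases i
      · show Q x0 ≠ 0; rw [hQx]; exact one_ne_zero
      · show Q y0 ≠ 0; rw [hQy]; exact one_ne_zero)
    (fun i j hij => by
      fin_cases i <;> fin_cases j <;> first
        | exact absurd rfl hij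
        | exact hxy
        | exact (polar_comm Q _ _).trans hxy) (by omega) e2 he2
  obtain ⟨hfin2, hcard2⟩ := PlusBound.ker_bound le_rfl (fun _ => by
    rw [Nat.card_eq_fintype_card, hq]; omega) r2 hrr2 hrc2 hrp2
  have htwo : ∀ z ∈ p.ker, ∃ j : ℕ, z ^ 2 ^ j = 1 := fun z hz => by
    obtain ⟨-, j, hj⟩ : z ∈ M := hkey (show (⟨z, hkE hz⟩ : E1) ∈ Z from hz)
    refine ⟨j + 1, ?_⟩
    let k : r2.ker := ⟨⟨_, hj⟩, (hrk2 _).2 (MonoidHom.mem_ker.1 (pow_mem hz _))⟩
    have hk : k ^ 2 = 1 := by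
      have hpos : 0 < Nat.card r2.ker := Nat.card_pos
      rcases (show Nat.card r2.ker = 1 ∨ Nat.card r2.ker = 2 by omega) with h | h
      · have : Subsingleton r2.ker := (Nat.card_eq_one_iff_unique.1 h).1
        exact Subsingleton.elim _ _
      · rw [← h]; exact pow_card_eq_one'
    rw [pow_succ, pow_mul]
    exact congrArg (fun x : r2.ker => (x.1.1 : Γ)) hk
  let k : p.ker → K.map ((⁅S, S⁆).subtype) := fun z => ⟨z, by
    have hd : (z : Γ) ∈ ⁅S, S⁆ := hle z.2
    obtain ⟨i, hi⟩ := hK3 ⟨z, hd⟩ ((hrk1 _).2 (MonoidHom.mem_ker.1 z.2))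
    obtain ⟨j, hj⟩ := htwo z z.2
    refine ⟨⟨z, hd⟩, ?_, rfl⟩
    have hz1 : (⟨z, hd⟩ : (⁅S, S⁆ : Subgroup Γ)) ^ 2 ^ j = 1 := Subtype.ext hj
    have hco : Nat.Coprime (3 ^ i) (2 ^ j) := Nat.Coprime.pow _ _ (by norm_num)
    have hb := Nat.gcd_eq_gcd_ab (3 ^ i) (2 ^ j)
    rw [hco.gcd_eq_one, Nat.cast_one] at hb
    rw [SetLike.mem_coe, ← zpow_one (⟨z, hd⟩ : (⁅S, S⁆ : Subgroup Γ)), hb, _root_.zpow_add, _root_.zpow_mul, _root_.zpow_mul,
      zpow_natCast, zpow_natCast, hz1, _root_.one_zpow, mul_one]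
    exact zpow_mem hi _⟩
  have : Finite (K.map ((⁅S, S⁆).subtype)) :=
    Finite.of_equiv _ (K.equivMapOfInjective _ (Subgroup.subtype_injective _)).toEquiv
  refine (Nat.card_le_card_of_injective k fun z z' h => Subtype.ext
    (congrArg (fun x : K.map ((⁅S, S⁆).subtype) => (x : Γ)) h)).trans ?_
  rwa [← Nat.card_congr (K.equivMapOfInjective _ (Subgroup.subtype_injective _)).toEquiv]

/-- Dimension eight over three elements, standard form. -/
theorem ker_bound_four_three (hq : Fintype.card F = 3) {a b : F}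
    (hab : ∀ z₁ z₂ : F, z₁ ^ 2 + a * z₁ * z₂ + b * z₂ ^ 2 = 0 → z₁ = 0 ∧ z₂ = 0)
    {Γ : Type*} [Group Γ] {p : Γ →* orth (QM F 3 a b)} [Finite p.ker]
    (hr : p.range = commutator (orth (QM F 3 a b))) (hc : p.ker ≤ Subgroup.center Γ)
    (hp : commutator Γ = ⊤) : Nat.card p.ker ≤ 2 := by
  classical
  have h2 : (2 : F) ≠ 0 := two_ne_zero_of_odd_card hq ⟨1, rfl⟩
  have h3 : (3 : F) = 0 := by
    have := FiniteField.cast_card_eq_zero F
    rw [hq] at this
    exact_mod_cast this
  have hcx := xv_ne h2 hab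
  have hF : ∀ t : F, t = 0 ∨ t = 1 ∨ t = -1 := fun t => by
    have hu : ({0, 1, -1} : Finset F) = Finset.univ := by
      refine Finset.eq_univ_of_card _ (by
        rw [hq, Finset.card_insert_of_notMem, Finset.card_pair]
        · exact fun h => h2 (by linear_combination h)
        · simp)
    have ht : t ∈ ({0, 1, -1} : Finset F) := by rw [hu]; exact Finset.mem_univ t
    simpa using ht
  have hQx : QM F 3 a b (xv 3 a) = 1 := by
    rw [QM_xv h2]
    rcases hF (b - a ^ 2 / 4) with h | h | h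
    · exact absurd h hcx
    · exact h
    · exfalso
      have h4 : (4 : F) = 1 := by linear_combination h3
      rw [h4, div_one] at h
      refine one_ne_zero (hab (1 + a) 1 ?_).2
      linear_combination h + (a + a ^ 2) * h3
  obtain ⟨e1, he1⟩ := exists_odd_perp (m := 3) h2 hab
  obtain ⟨e2, he2⟩ := exists_plus_perp (m := 3) h2 hab
  refine ker_bound_eight_three hq (nondeg_QM h2 hab) (finrank_QM 3) hQx QM_yv
    (w := Sum.elim (Sum.elim (Pi.single 0 1) (Pi.single 0 1)) 0) ?_ (polar_xv_yv h2) ?_ ?_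
    e1 he1 e2 he2 hr hc hp
  · rw [QM_apply]; simp [Pi.single_apply]
  · rw [polar_xv h2]; simp
  · rw [polar_yv]; simp

/-- The bound. -/
theorem ker_bound_minus {m : ℕ} (hm : 3 ≤ m) (h2 : (2 : F) ≠ 0) {a b : F}
    (hab : ∀ z₁ z₂ : F, z₁ ^ 2 + a * z₁ * z₂ + b * z₂ ^ 2 = 0 → z₁ = 0 ∧ z₂ = 0)
    {Γ : Type*} [Group Γ] {p : Γ →* orth (QM F m a b)} [Finite p.ker]
    (hr : p.range = commutator (orth (QM F m a b))) (hc : p.ker ≤ Subgroup.center Γ)
    (hp : commutator Γ = ⊤) : Nat.card p.ker ≤ 2 := by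
  classical
  by_cases h5 : m = 3 → 5 ≤ Fintype.card F
  swap
  · push Not at h5
    obtain ⟨rfl, h5⟩ := h5
    have hodd : Fintype.card F % 2 = 1 := FiniteField.odd_card_of_char_ne_two fun h => by
      have : CharP F 2 := h ▸ ringChar.charP F
      exact h2 CharTwo.two_eq_zero
    have h1 : 1 < Fintype.card F := Fintype.one_lt_card
    exact ker_bound_four_three (by omega) hab hr hc hp
  have hQ := nondeg_QM (m := m) h2 hab
  have hn : Module.finrank F (Idx m → F) = 2 * m + 2 := finrank_QM m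
  have hx : QM F m a b (xv m a) ≠ 0 := by rw [QM_xv h2]; exact xv_ne h2 hab
  have hle := OrthCover.ker_le_stab hQ h2 (by omega) (fun h => by omega) hr hc hp hx
  obtain ⟨e, he⟩ := exists_odd_perp (m := m) h2 hab
  obtain ⟨r, hrr, hrc, hrp, hrk⟩ := OrthCover.stab_cover hQ h2 hr hc ![xv m a]
    (fun i => by fin_cases i; exact hx) (fun i j h => absurd (Subsingleton.elim i j) h) (by omega)
    e he
  have hfin : Finite r.ker := Finite.of_injective
    (fun d : r.ker => (⟨d.1.1, (hrk _).1 d.2⟩ : p.ker))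
    fun d d' h => Subtype.ext (Subtype.ext (congrArg (fun z : p.ker => z.1) h))
  let k : p.ker → r.ker := fun z => ⟨⟨z, hle z.2⟩, (hrk _).2 z.2⟩
  exact (Nat.card_le_card_of_injective k fun z z' h => Subtype.ext
    (congrArg (fun x : r.ker => (x.1.1 : Γ)) h)).trans
    (OddMultiplier.ker_bound_odd hm h2 h5 hrr hrc hrp)

end CfsgLib.Schur.MinusBound
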