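import Cfsg.Agent.Lib.Schur.EvenCover
import Cfsg.Agent.Lib.Schur.MinusBound
import Cfsg.Agent.Lib.Schur.Basic
import Cfsg.Agent.Lib.Classical.SympVectorStab
import Cfsg.Agent.Lib.Geometry.AutStd
import Cfsg.Agent.Lib.CTRecog.SpSchur.Big
import Cfsg.Agent.Lib.CTRecog.SpSchur.TwoSection

/-!
The orthogonal groups of minus type in characteristic two have trivial multiplier, in dimension at
least ten or over more than two elements.
-/

set_option autoImplicit false
set_option maxHeartbeats 400000
set_option linter.unusedSectionVars false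

namespace CfsgLib.Schur.EvenMinus

open QuadraticMap CfsgLib.Geometry CfsgLib.Geometry.NormGraph Matrix
open CfsgLib.Schur.MinusBound (QM Idx QM_apply yv QM_yv polar_yv finrank_QM)
open CfsgLib.Schur.EvenCover (exists_sqrt add_self exists_adjust oRefl_not_mem exists_comm_map)
open CfsgLib.Schur.OrthCover (Pts)
open CfsgLib.Classical (sbil sbil_apply vecStab mem_vecStab)
open scoped commutatorElement

universe u

variable {F : Type u} [Field F] [Fintype F] {m : ℕ} {a b : F}

/-- Hyperbolic part. -/
def ih (m : ℕ) (F : Type*) [Field F] : (Fin m ⊕ Fin m → F) →ₗ[F] (Idx m → F) where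
  toFun u := Sum.elim u 0
  map_add' u v := by funext A; rcases A with A | A <;> simp
  map_smul' c u := by funext A; rcases A with A | A <;> simp

/-- Projection to the hyperbolic part. -/
def ph (m : ℕ) (F : Type*) [Field F] : (Idx m → F) →ₗ[F] (Fin m ⊕ Fin m → F) where
  toFun v := v ∘ Sum.inl
  map_add' _ _ := rfl
  map_smul' _ _ := rfl

/-- The second basis vector of the binary part. -/
def zv (m : ℕ) : Idx m → F := Sum.elim 0 ![0, 1]

theorem ih_apply (u : Fin m ⊕ Fin m → F) : ih m F u = Sum.elim u 0 := rfl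

theorem ph_ih (u : Fin m ⊕ Fin m → F) : ph m F (ih m F u) = u := rfl

theorem ph_yv : ph m F (yv m) = 0 := rfl

theorem decomp (v : Idx m → F) :
    v = ih m F (ph m F v) + v (.inr 0) • yv m + v (.inr 1) • zv m := by
  funext A
  rcases A with A | i
  · simp [ih, ph, yv, zv]
  · fin_cases i <;> simp [ih, ph, yv, zv]

theorem polar_QM (u v : Idx m → F) :
    polar (QM F m a b) u v =
      (∑ i, (u (.inl (.inl i)) * v (.inl (.inr i)) + v (.inl (.inl i)) * u (.inl (.inr i)))) +
        (2 * u (.inr 0) * v (.inr 0) + a * (u (.inr 0) * v (.inr 1) + u (.inr 1) * v (.inr 0)) +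
          2 * b * u (.inr 1) * v (.inr 1)) := by
  rw [polar, QM_apply, QM_apply, QM_apply]
  simp only [Pi.add_apply, Finset.sum_add_distrib, add_mul, mul_add]
  ring

variable (h2 : (2 : F) = 0)

include h2

theorem polar_ih (u v : Fin m ⊕ Fin m → F) : polar (QM F m a b) (ih m F u) (ih m F v) = sbil u v := by
  rw [polar_QM, sbil_apply]
  simp only [ih_apply, Sum.elim_inl, Sum.elim_inr, Pi.zero_apply, mul_zero, add_zero]
  refine Finset.sum_congr rfl fun i _ => ?_
  linear_combination (u (.inl i) * v (.inr i)) * h2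

theorem polar_y (v : Idx m → F) : polar (QM F m a b) (yv m) v = a * v (.inr 1) := by
  rw [polar_yv, h2, zero_mul, zero_add]

omit h2 in
theorem QM_ih_add (u : Fin m ⊕ Fin m → F) (c : F) :
    QM F m a b (ih m F u + c • yv m) = Cfsg.quadFormPlus m F u + c * c := by
  rw [QM_apply]
  simp [ih_apply, yv, Cfsg.quadFormPlus]
  ring

omit h2 in
theorem quadFormPlus_single (A : Fin m ⊕ Fin m) :
    Cfsg.quadFormPlus m F (Pi.single A (1 : F)) = 0 := by
  rcases A with i | i <;> simp [Cfsg.quadFormPlus]

variable (hab : ∀ z₁ z₂ : F, z₁ ^ 2 + a * z₁ * z₂ + b * z₂ ^ 2 = 0 → z₁ = 0 ∧ z₂ = 0)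

include hab

theorem a_ne : a ≠ 0 := by
  intro ha
  obtain ⟨s, hs⟩ := exists_sqrt h2 b
  exact one_ne_zero (hab s 1 (by rw [ha]; linear_combination hs + b * h2)).2

omit hab in
theorem polar_yy : polar (QM F m a b) (yv m) (yv m) = 0 := by
  rw [polar_y h2]; simp [yv]

/-- The stabiliser of the vector. -/
noncomputable abbrev Stab (F : Type u) [Field F] (m : ℕ) (a b : F) : Subgroup (orth (QM F m a b)) :=
  frameStab (QM F m a b) ![yv m]

theorem stab_img (g : Stab F m a b) (u : Fin m ⊕ Fin m → F) :
    ((g : orth (QM F m a b)) : (Idx m → F) ≃ₗ[F] (Idx m → F)) (ih m F u) =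
      ih m F (ph m F (((g : orth (QM F m a b)) : (Idx m → F) ≃ₗ[F] (Idx m → F)) (ih m F u))) +
        ((g : orth (QM F m a b)) : (Idx m → F) ≃ₗ[F] (Idx m → F)) (ih m F u) (.inr 0) • yv m := by
  set w := ((g : orth (QM F m a b)) : (Idx m → F) ≃ₗ[F] (Idx m → F)) (ih m F u) with hw
  have hy : ((g : orth (QM F m a b)) : (Idx m → F) ≃ₗ[F] (Idx m → F)) (yv m) = yv m := g.2.2 0
  have h := orth_polar (g : orth (QM F m a b)).2 (yv m) (ih m F u)
  rw [hy, ← hw, polar_y h2, polar_y h2] at h
  have h1 : w (.inr 1) = 0 := by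
    have : a * w (.inr 1) = 0 := by rw [h]; simp [ih_apply]
    exact (mul_eq_zero.1 this).resolve_left (a_ne h2 hab)
  conv_lhs => rw [decomp w, h1, zero_smul, add_zero]

omit h2 hab in
/-- The action on the hyperbolic part. -/
noncomputable def hypMap (g : Stab F m a b) : (Fin m ⊕ Fin m → F) →ₗ[F] (Fin m ⊕ Fin m → F) :=
  (ph m F).comp ((((g : orth (QM F m a b)) : (Idx m → F) ≃ₗ[F] (Idx m → F)) :
    (Idx m → F) →ₗ[F] (Idx m → F)).comp (ih m F))

omit h2 hab in
theorem hypMap_apply (g : Stab F m a b) (u : Fin m ⊕ Fin m → F) :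
    hypMap g u = ph m F (((g : orth (QM F m a b)) : (Idx m → F) ≃ₗ[F] (Idx m → F)) (ih m F u)) := rfl

theorem sbil_hypMap (g : Stab F m a b) (u v : Fin m ⊕ Fin m → F) :
    sbil (hypMap g u) (hypMap g v) = sbil u v := by
  have hperp : ∀ x : Fin m ⊕ Fin m → F, polar (QM F m a b) (yv m) (ih m F x) = 0 := fun x => by
    rw [polar_y h2]; simp [ih_apply]
  have h := orth_polar (g : orth (QM F m a b)).2 (ih m F u) (ih m F v)
  rw [stab_img h2 hab g u, stab_img h2 hab g v, polar_add_left, polar_add_right, polar_add_right,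
    polar_smul_left', polar_smul_left', polar_smul_right', polar_smul_right',
    polar_comm _ (ih m F _) (yv m), hperp, hperp, polar_yy h2,
    polar_ih h2, polar_ih h2] at h
  simpa [hypMap_apply] using h

/-- The homomorphism to the symplectic group. -/
noncomputable def toSp : Stab F m a b →* Matrix.symplecticGroup (Fin m) F :=
  MonoidHom.mk' (fun g => ⟨LinearMap.toMatrix' (hypMap g),
      Classical.mem_symplecticGroup_iff_sbil.2 fun u v => by
        rw [LinearMap.toMatrix'_mulVec, LinearMap.toMatrix'_mulVec]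
        exact sbil_hypMap h2 hab g u v⟩)
    fun g k => Classical.sp_ext fun u => by
      show LinearMap.toMatrix' (hypMap (g * k)) *ᵥ u =
        (LinearMap.toMatrix' (hypMap g) * LinearMap.toMatrix' (hypMap k)) *ᵥ u
      rw [← mulVec_mulVec, LinearMap.toMatrix'_mulVec, LinearMap.toMatrix'_mulVec,
        LinearMap.toMatrix'_mulVec]
      show ph m F (((g : orth (QM F m a b)) : (Idx m → F) ≃ₗ[F] (Idx m → F))
        (((k : orth (QM F m a b)) : (Idx m → F) ≃ₗ[F] (Idx m → F)) (ih m F u))) = _
      rw [stab_img h2 hab k u, map_add, map_smul, map_add, map_smul,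
        show ((g : orth (QM F m a b)) : (Idx m → F) ≃ₗ[F] (Idx m → F)) (yv m) = yv m from g.2.2 0,
        ph_yv, smul_zero, add_zero]
      rfl

theorem toSp_mulVec (g : Stab F m a b) (u : Fin m ⊕ Fin m → F) :
    (toSp h2 hab g).1 *ᵥ u = hypMap g u := LinearMap.toMatrix'_mulVec _ _

omit hab in
/-- An isometry which fixes the hyperbolic part up to nothing fixes it. -/
theorem fix_of_hyp {g : orth (QM F m a b)} {u : Fin m ⊕ Fin m → F} {c : F}
    (hg : (g : (Idx m → F) ≃ₗ[F] (Idx m → F)) (ih m F u) = ih m F u + c • yv m) : c = 0 := by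
  have h := mem_orth.1 g.2 (ih m F u)
  rw [hg, QM_ih_add] at h
  have h' : QM F m a b (ih m F u) = Cfsg.quadFormPlus m F u := by
    have := QM_ih_add (a := a) (b := b) u 0
    simpa using this
  rw [h', add_eq_left] at h
  exact mul_self_eq_zero.1 h

theorem toSp_injective (hm : 3 ≤ m) : Function.Injective (toSp (m := m) h2 hab) := by
  refine (injective_iff_map_eq_one _).2 fun g hg => ?_
  set G : (Idx m → F) ≃ₗ[F] (Idx m → F) := ((g : orth (QM F m a b)) : (Idx m → F) ≃ₗ[F] (Idx m → F))
  have hA : ∀ u, hypMap g u = u := fun u => by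
    rw [← toSp_mulVec h2 hab, hg, Classical.sp_one_mulVec]
  have hih : ∀ u, G (ih m F u) = ih m F u := fun u => by
    have h := stab_img h2 hab g u
    rw [← hypMap_apply, hA] at h
    have hc := fix_of_hyp h2 h
    rw [h, hc, zero_smul, add_zero]
  have hy : G (yv m) = yv m := g.2.2 0
  have hQ : (polarBilin (QM F m a b)).Nondegenerate := nondegenerate_minus m hab
  set d := G (zv m) - zv m with hd
  have hd0 : ∀ w : Idx m → F, G w = w → polar (QM F m a b) w d = 0 := fun w hw => by
    have h := orth_polar (g : orth (QM F m a b)).2 w (zv m)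
    rw [show ((g : orth (QM F m a b)) : (Idx m → F) ≃ₗ[F] (Idx m → F)) w = w from hw] at h
    rw [hd, polar_sub_right, h, sub_self]
  have hd1 : d (.inr 1) = 0 := by
    have h := hd0 _ hy
    rw [polar_y h2] at h
    exact (mul_eq_zero.1 h).resolve_left (a_ne h2 hab)
  have hdh : ph m F d = 0 := Classical.sbil_ext fun x => by
    have h := hd0 _ (hih x)
    rw [decomp d, hd1, zero_smul, add_zero, polar_add_right, polar_ih h2, polar_smul_right',
      polar_comm, polar_y h2] at h
    simp [ih_apply] at h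
    rw [Classical.sbil_zero_left, Classical.sbil_swap, h, neg_zero]
  have hz : G (zv m) = zv m + d (.inr 0) • yv m := by
    have h := decomp d
    rw [hdh, hd1, map_zero, zero_smul, add_zero, zero_add] at h
    conv_lhs => rw [show G (zv m) = zv m + d by rw [hd, add_sub_cancel]]
    conv_lhs => rw [h]
  have hext : ∀ v, G v = v + (v (.inr 1) * d (.inr 0)) • yv m := fun v => by
    conv_lhs => rw [decomp v]
    rw [map_add, map_add, map_smul, map_smul, hih, hy, hz, smul_add, smul_smul]
    conv_rhs => rw [decomp v]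
    simp [ih_apply, ph, yv, zv]
    module
  have hc : d (.inr 0) * (d (.inr 0) + a) = 0 := by
    have h := mem_orth.1 (g : orth (QM F m a b)).2 (zv m)
    rw [show ((g : orth (QM F m a b)) : (Idx m → F) ≃ₗ[F] (Idx m → F)) (zv m) =
      zv m + d (.inr 0) • yv m from hz, QM_apply, QM_apply] at h
    simp [zv, yv] at h
    linear_combination h
  rcases mul_eq_zero.1 hc with hc0 | hca
  · refine Subtype.ext (Subtype.ext (LinearEquiv.ext fun v => ?_))
    show G v = v
    rw [hext, hc0, mul_zero, zero_smul, add_zero]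
  · exfalso
    have hy1 : QM F m a b (yv m) ≠ 0 := by rw [QM_yv]; exact one_ne_zero
    have hca' : d (.inr 0) = a := by linear_combination hca - a * h2
    have e : (g : orth (QM F m a b)) = oRefl (QM F m a b) (yv m) hy1 :=
      Subtype.ext (LinearEquiv.ext fun v => by
        show G v = refl (QM F m a b) (yv m) hy1 v
        rw [hext, hca', refl_apply, QM_yv, polar_comm, polar_y h2, sub_eq_add_neg, ← neg_smul]
        congr 2
        field_simp
        linear_combination (v (.inr 1) * a) * h2)
    exact oRefl_not_mem hQ (by rw [finrank_QM]; omega) hy1 (e ▸ g.2.1)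

theorem toSp_surjective (hm : 3 ≤ m) : Function.Surjective (toSp (m := m) h2 hab) := by
  classical
  intro A
  have hQ : (polarBilin (QM F m a b)).Nondegenerate := nondegenerate_minus m hab
  choose s hs using fun i => exists_sqrt h2 (Cfsg.quadFormPlus m F (A.1 *ᵥ Pi.single i 1))
  let idx : Fin (Fintype.card ((Fin m ⊕ Fin m) ⊕ Unit)) → (Fin m ⊕ Fin m) ⊕ Unit :=
    (Fintype.equivFin _).symm
  let v : (Fin m ⊕ Fin m) ⊕ Unit → (Idx m → F) :=
    Sum.elim (fun i => ih m F (Pi.single i 1)) fun _ => yv m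
  let w : (Fin m ⊕ Fin m) ⊕ Unit → (Idx m → F) :=
    Sum.elim (fun i => ih m F (A.1 *ᵥ Pi.single i 1) + s i • yv m) fun _ => yv m
  have hy1 : yv (F := F) m ≠ 0 := fun h => by simpa [yv] using congrFun h (.inr 0)
  have hvi : LinearIndependent F v := by
    refine Fintype.linearIndependent_iff.2 fun c hc => ?_
    rw [Fintype.sum_sum_type] at hc
    simp only [v, Sum.elim_inl, Sum.elim_inr, ← map_smul, ← map_sum, Finset.univ_unique,
      Finset.sum_singleton] at hc
    have h1 := congrArg (ph m F) hc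
    rw [map_add, ph_ih, map_smul, ph_yv, smul_zero, add_zero, map_zero] at h1
    have h1' : ∀ i, c (.inl i) = 0 := fun i => by
      have := congrFun h1 i
      simpa [Pi.single_apply] using this
    simp only [h1', zero_smul, Finset.sum_const_zero, map_zero, zero_add, smul_eq_zero, hy1,
      or_false] at hc
    rintro (i | ⟨⟩)
    exacts [h1' i, hc]
  have hwi : LinearIndependent F w := by
    refine Fintype.linearIndependent_iff.2 fun c hc => ?_
    rw [Fintype.sum_sum_type] at hc
    simp only [w, Sum.elim_inl, Sum.elim_inr, smul_add, Finset.sum_add_distrib, ← map_smul,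
      ← map_sum, Finset.univ_unique, Finset.sum_singleton, ← mulVec_smul, ← mulVec_sum] at hc
    have h1 := congrArg (ph m F) hc
    rw [map_add, map_add, ph_ih, map_sum, map_smul, ph_yv, smul_zero, add_zero, map_zero] at h1
    simp only [map_smul, ph_yv, smul_zero, Finset.sum_const_zero, add_zero] at h1
    have h1' : ∀ i, c (.inl i) = 0 := fun i => by
      have h2 := congrArg (fun z => (A⁻¹).1 *ᵥ z) h1
      simp only [Classical.sp_inv_mulVec, mulVec_zero] at h2
      have := congrFun h2 i
      simpa [Pi.single_apply] using this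
    simp only [h1', zero_smul, Finset.sum_const_zero, mulVec_zero, map_zero, zero_add,
      smul_eq_zero, hy1, or_false] at hc
    rintro (i | ⟨⟩)
    exacts [h1' i, hc]
  have hperp : ∀ x : Fin m ⊕ Fin m → F, polar (QM F m a b) (yv m) (ih m F x) = 0 := fun x => by
    rw [polar_y h2]; simp [ih_apply]
  have hq : ∀ i, QM F m a b (v i) = QM F m a b (w i) := by
    rintro (i | ⟨⟩)
    · show QM F m a b (ih m F (Pi.single i 1)) = QM F m a b (ih m F (A.1 *ᵥ Pi.single i 1) + s i • yv m)
      have e := QM_ih_add (a := a) (b := b) (Pi.single i (1 : F)) 0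
      rw [zero_smul, add_zero] at e
      rw [e, QM_ih_add, hs, quadFormPlus_single]
      linear_combination -(Cfsg.quadFormPlus m F (A.1 *ᵥ Pi.single i 1)) * h2
    · rfl
  have hp : ∀ i j, polar (QM F m a b) (v i) (v j) = polar (QM F m a b) (w i) (w j) := by
    rintro (i | ⟨⟩) (j | ⟨⟩) <;> simp only [v, w, Sum.elim_inl, Sum.elim_inr]
    · simp only [polar_add_left, polar_add_right, polar_smul_left', polar_smul_right',
        polar_comm _ (ih m F _) (yv m), hperp, polar_yy h2, polar_ih h2, Classical.sbil_mulVec,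
        mul_zero, add_zero]
    · simp only [polar_add_left, polar_smul_left', polar_comm _ (ih m F _) (yv m), hperp,
        polar_yy h2, mul_zero, add_zero]
    · simp only [polar_add_right, polar_smul_right', hperp, polar_yy h2, mul_zero, add_zero]
  obtain ⟨g, hg, hgv⟩ := quad_extend hQ (v ∘ idx) (w ∘ idx)
    (hvi.comp idx (Fintype.equivFin _).symm.injective) (hwi.comp idx (Fintype.equivFin _).symm.injective)
    (fun i => hq _) fun i j => hp _ _
  have hgv' : ∀ i, g (v i) = w i := fun i => by
    obtain ⟨k, hk⟩ := (Fintype.equivFin _).symm.surjective i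
    have := hgv k
    simp only [Function.comp_apply, idx, hk] at this
    exact this
  have hy0 : QM F m a b (yv m) ≠ 0 := by rw [QM_yv]; exact one_ne_zero
  obtain ⟨G, hG, hGv⟩ : ∃ G : orth (QM F m a b), G ∈ commutator (orth (QM F m a b)) ∧
      ∀ i, (G : (Idx m → F) ≃ₗ[F] (Idx m → F)) (v i) = w i := by
    rcases exists_adjust hQ h2 (by rw [finrank_QM]; omega) ⟨g, hg⟩ hy0 with h | h
    · exact ⟨_, h, hgv'⟩
    · refine ⟨_, h, fun i => ?_⟩
      show refl (QM F m a b) (yv m) hy0 (g (v i)) = w i
      rw [hgv', refl_eq_self _ _ hy0]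
      rw [polar_comm]
      rcases i with i | ⟨⟩
      · show polar (QM F m a b) (yv m) (ih m F _ + s i • yv m) = 0
        rw [polar_add_right, hperp, polar_smul_right', polar_yy h2, mul_zero, add_zero]
      · exact polar_yy h2
  refine ⟨⟨G, hG, fun i => by fin_cases i; exact hGv (.inr ())⟩, Classical.sp_ext fun u => ?_⟩
  rw [toSp_mulVec]
  have hlin : (hypMap (⟨G, hG, fun i => by fin_cases i; exact hGv (.inr ())⟩ : Stab F m a b)) =
      Matrix.mulVecLin A.1 := LinearMap.pi_ext' fun i => LinearMap.ext_ring (by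
    show hypMap _ (Pi.single i 1) = A.1 *ᵥ Pi.single i 1
    rw [hypMap_apply]
    show ph m F ((G : (Idx m → F) ≃ₗ[F] (Idx m → F)) (v (.inl i))) = _
    rw [hGv]
    simp [w, ph_ih, ph_yv])
  rw [hlin]; rfl

/-- The stabiliser of the vector is the symplectic group. -/
noncomputable def stabEquiv (hm : 3 ≤ m) : Stab F m a b ≃* Matrix.symplecticGroup (Fin m) F :=
  MulEquiv.ofBijective (toSp h2 hab) ⟨toSp_injective h2 hab hm, toSp_surjective h2 hab hm⟩

theorem stabEquiv_apply (hm : 3 ≤ m) (g : Stab F m a b) :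
    stabEquiv h2 hab hm g = toSp h2 hab g := rfl

theorem stab_perfect (hm : 3 ≤ m) : Stab F m a b ≤ ⁅Stab F m a b, Stab F m a b⁆ := by
  intro g hg
  have h : (⟨g, hg⟩ : Stab F m a b) ∈ commutator (Stab F m a b) := by
    have hsp : commutator (Matrix.symplecticGroup (Fin m) F) = ⊤ :=
      Classical.sp_commutator_eq_top' (Or.inl (by simpa using hm))
    have hmem : stabEquiv h2 hab hm ⟨g, hg⟩ ∈
        (commutator (Stab F m a b)).map (stabEquiv h2 hab hm).toMonoidHom := by
      rw [commutator_def, Subgroup.map_commutator,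
        Subgroup.map_top_of_surjective (stabEquiv h2 hab hm).toMonoidHom
          (stabEquiv h2 hab hm).surjective, ← commutator_def, hsp]
      exact Subgroup.mem_top _
    obtain ⟨x, hx, hxe⟩ := hmem
    rwa [← (stabEquiv h2 hab hm).injective hxe]
  rw [← Subgroup.map_subtype_commutator]
  exact ⟨_, h, rfl⟩

theorem pair_perfect (hm : 3 ≤ m) (hexc : ¬ (m = 3 ∧ Fintype.card F = 2))
    (x y : Pts (QM F m a b) (1 : F)) (hxy : EvenCover.R (QM F m a b) x y) :
    frameStab (QM F m a b) ![x.1, y.1] ≤
      ⁅frameStab (QM F m a b) ![x.1, y.1], frameStab (QM F m a b) ![x.1, y.1]⁆ := by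
  classical
  let L : Fin m := ⟨0, by omega⟩
  set e : Fin m ⊕ Fin m → F := Pi.single (.inl L) 1 with he
  set y1 : Idx m → F := ih m F e + (1 : F) • yv m with hy1
  have hQ1 : QM F m a b y1 = 1 := by
    rw [hy1, QM_ih_add, he, quadFormPlus_single, zero_add, one_mul]
  have hP1 : polar (QM F m a b) (yv m) y1 = 0 := by
    rw [polar_y h2, hy1]; simp [ih_apply, yv]
  have hne : yv m ≠ y1 := fun h => by
    have := congrFun h (.inl (.inl L))
    simp [hy1, he, ih_apply, yv] at this
  set w : Fin 2 → (Idx m → F) := ![yv m, y1] with hw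
  -- the standard pair
  have hstd : frameStab (QM F m a b) w ≤ ⁅frameStab (QM F m a b) w, frameStab (QM F m a b) w⁆ := by
    have hperf := Classical.vecStab_perfect (l := Fin m) (F := F) h2 (by simpa using hm) (by
      by_cases hq : Fintype.card F = 2
      · refine Or.inl ?_
        rw [Fintype.card_fin]
        by_contra hm4
        exact hexc ⟨by omega, hq⟩
      · exact Or.inr ((finite_field_two_or F).resolve_left hq)) L
    have hmap : (vecStab e).map ((Stab F m a b).subtype.comp (stabEquiv h2 hab hm).symm.toMonoidHom) =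
        frameStab (QM F m a b) w := by
      ext g
      constructor
      · rintro ⟨A, hA, rfl⟩
        obtain ⟨g, rfl⟩ := (stabEquiv h2 hab hm).surjective A
        simp only [MonoidHom.comp_apply, MulEquiv.coe_toMonoidHom, MulEquiv.symm_apply_apply,
          Subgroup.coe_subtype]
        refine ⟨g.2.1, fun i => ?_⟩
        fin_cases i
        · exact g.2.2 0
        · show ((g : orth (QM F m a b)) : (Idx m → F) ≃ₗ[F] (Idx m → F)) y1 = y1
          have hfixe : hypMap g e = e := by
            rw [← toSp_mulVec h2 hab]; exact hA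
          have h := stab_img h2 hab g e
          rw [← hypMap_apply, hfixe] at h
          have hc := fix_of_hyp h2 h
          rw [hy1, map_add, map_smul, h, hc, zero_smul, add_zero,
            show ((g : orth (QM F m a b)) : (Idx m → F) ≃ₗ[F] (Idx m → F)) (yv m) = yv m from g.2.2 0]
      · intro hg
        have hgS : g ∈ Stab F m a b := ⟨hg.1, fun i => by fin_cases i; exact hg.2 0⟩
        refine ⟨stabEquiv h2 hab hm ⟨g, hgS⟩, ?_, by simp⟩
        rw [SetLike.mem_coe, mem_vecStab, stabEquiv_apply, toSp_mulVec, hypMap_apply]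
        have e1 : (g : (Idx m → F) ≃ₗ[F] (Idx m → F)) y1 = y1 := hg.2 1
        have e0 : (g : (Idx m → F) ≃ₗ[F] (Idx m → F)) (yv m) = yv m := hg.2 0
        rw [hy1, map_add, map_smul, e0, add_left_inj] at e1
        rw [e1, ph_ih]
    rw [← hmap, ← Subgroup.map_commutator]
    exact Subgroup.map_mono hperf
  have hQ : (polarBilin (QM F m a b)).Nondegenerate := nondegenerate_minus m hab
  have hli : ∀ {u v : Idx m → F}, QM F m a b u = 1 → QM F m a b v = 1 → u ≠ v →
      LinearIndependent F ![u, v] := fun {u v} hu hv huv => by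
    have hu0 : u ≠ 0 := fun h => by rw [h, QuadraticMap.map_zero] at hu; exact zero_ne_one hu
    refine (LinearIndependent.pair_iff' hu0).2 fun c hc => huv ?_
    exact (congrArg Subtype.val (EvenCover.eq_of_smul h2 (x := (⟨v, hv⟩ : Pts _ (1 : F)))
      (y := ⟨u, hu⟩) hc.symm)).symm
  obtain ⟨g, hg, hgv⟩ := exists_comm_map hQ h2 (by rw [finrank_QM]; omega)
    (by rw [finrank_QM]; omega) w ![x.1, y.1] (hli QM_yv hQ1 hne)
    (hli x.2 y.2 fun h => hxy.2 (Subtype.ext h))
    (fun i => by
      fin_cases i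
      · exact QM_yv.trans x.2.symm
      · exact hQ1.trans y.2.symm)
    (fun i j => by
      fin_cases i <;> fin_cases j
      · show polar _ (yv m) (yv m) = polar _ x.1 x.1
        rw [polar_self', polar_self', QM_yv, x.2]
      · exact hP1.trans hxy.1.symm
      · exact ((polar_comm _ _ _).trans hP1).trans ((polar_comm _ _ _).trans hxy.1).symm
      · show polar _ y1 y1 = polar _ y.1 y.1
        rw [polar_self', polar_self', hQ1, y.2])
  have hnormal : (commutator (orth (QM F m a b))).Normal := inferInstance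
  have hconj : (frameStab (QM F m a b) w).map (MulAut.conj g).toMonoidHom =
      frameStab (QM F m a b) ![x.1, y.1] := by
    ext k
    constructor
    · rintro ⟨s, hs, rfl⟩
      refine ⟨hnormal.conj_mem s hs.1 g, fun i => ?_⟩
      show (g : (Idx m → F) ≃ₗ[F] (Idx m → F)) ((s : (Idx m → F) ≃ₗ[F] (Idx m → F))
        ((g : (Idx m → F) ≃ₗ[F] (Idx m → F)).symm (![x.1, y.1] i))) = _
      rw [← hgv i, LinearEquiv.symm_apply_apply, hs.2 i]
    · intro hk
      refine ⟨g⁻¹ * k * g, ⟨?_, fun i => ?_⟩, by simp [MulAut.conj_apply, mul_assoc]⟩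
      · simpa using hnormal.conj_mem k hk.1 g⁻¹
      · show (g : (Idx m → F) ≃ₗ[F] (Idx m → F)).symm ((k : (Idx m → F) ≃ₗ[F] (Idx m → F))
          ((g : (Idx m → F) ≃ₗ[F] (Idx m → F)) (w i))) = w i
        rw [hgv i, hk.2 i, ← hgv i, LinearEquiv.symm_apply_apply]
  rw [← hconj, ← Subgroup.map_commutator]
  exact Subgroup.map_mono hstd

omit h2 hab in
theorem splits_sp (hm : 3 ≤ m) (hexc : ¬ (m = 3 ∧ Fintype.card F = 2)) :
    Steinberg.Splits (Matrix.symplecticGroup (Fin m) F) := by
  classical
  by_cases hq : 3 ≤ Fintype.card F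
  · obtain ⟨k, rfl⟩ : ∃ k, m = k + 2 + 1 := ⟨m - 3, by omega⟩
    exact CTRecog.SpSchur.splits_sp_big k hq
  · have h1 : 1 < Fintype.card F := Fintype.one_lt_card
    have hq2 : Fintype.card F = 2 := by omega
    have hm4 : 4 ≤ m := by
      by_contra h
      exact hexc ⟨by omega, hq2⟩
    obtain ⟨k, rfl⟩ : ∃ k, m = k + 4 := ⟨m - 4, by omega⟩
    have hF : ∀ t : F, t = 0 ∨ t = 1 := fun t => by
      have hu : ({0, 1} : Finset F) = Finset.univ :=
        Finset.eq_univ_of_card _ (by rw [hq2]; exact Finset.card_pair zero_ne_one)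
      have ht : t ∈ ({0, 1} : Finset F) := by rw [hu]; exact Finset.mem_univ t
      simpa using ht
    intro X _ q hsur hc
    obtain ⟨S⟩ := CTRecog.SpSchur.exists_lifts (q := q) hF hsur hc
    obtain ⟨Ψ, hΨ⟩ := S.exists_hom hF
    exact ⟨Ψ, MonoidHom.ext hΨ⟩

/-- The multiplier is trivial. -/
theorem multiplier_minus_even (hm : 3 ≤ m) (hexc : ¬ (m = 3 ∧ Fintype.card F = 2)) :
    Cfsg.HasCyclicSchurMultiplier (Cfsg.POmega F (Cfsg.quadFormMinus m F a b)) 1 := by
  classical
  rw [show Cfsg.quadFormMinus m F a b = ⇑(QM F m a b) from (coe_matQuad_minus m a b).symm]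
  have hQ : (polarBilin (QM F m a b)).Nondegenerate := nondegenerate_minus m hab
  have hn : Module.finrank F (Idx m → F) = 2 * m + 2 := finrank_QM m
  have hcen : Subgroup.center (commutator (orth (QM F m a b))) = ⊥ := by
    rw [← Subgroup.card_eq_one, card_center_omega hQ (by omega), if_neg (fun h => h.1 h2)]
  let π : commutator (orth (QM F m a b)) →* Cfsg.POmega F ⇑(QM F m a b) :=
    (pOmegaEquiv (QM F m a b)).symm.toMonoidHom.comp (QuotientGroup.mk' _)
  have hπ : Function.Bijective π := by
    refine (pOmegaEquiv (QM F m a b)).symm.bijective.comp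
      ⟨fun x y h => ?_, QuotientGroup.mk'_surjective _⟩
    have h' := QuotientGroup.eq.1 h
    rw [hcen, Subgroup.mem_bot, inv_mul_eq_one] at h'
    exact h'
  let ψ := MulEquiv.ofBijective π hπ
  refine hasCyclicSchurMultiplier_one_of_forall fun Γ _ _ σ hσ => ?_
  obtain ⟨hsurj, hc, hcomm⟩ := hσ
  let p : Γ →* orth (QM F m a b) :=
    (commutator (orth (QM F m a b))).subtype.comp (ψ.symm.toMonoidHom.comp σ)
  have hk : p.ker = σ.ker := by
    ext y
    simp [p, MonoidHom.mem_ker]
  have hr : p.range = commutator (orth (QM F m a b)) := by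
    rw [MonoidHom.range_comp, MonoidHom.range_eq_top.2 (ψ.symm.surjective.comp hsurj),
      ← MonoidHom.range_eq_map, Subgroup.range_subtype]
  have hperf : commutator Γ = ⊤ := by
    have h1 : (commutator Γ).map p = commutator (orth (QM F m a b)) := by
      rw [commutator_def, Subgroup.map_commutator, ← MonoidHom.range_eq_map, hr]
      exact le_antisymm (Subgroup.commutator_le_self _) (commutator_orth_perfect hQ (by omega))
    rw [eq_top_iff]
    intro x _
    obtain ⟨y, hy, hxy⟩ := h1.ge (hr ▸ ⟨x, rfl⟩ : p x ∈ commutator (orth (QM F m a b)))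
    have : y⁻¹ * x ∈ σ.ker := by
      rw [← hk, MonoidHom.mem_ker, map_mul, map_inv, hxy, inv_mul_cancel]
    simpa using mul_mem hy (hcomm this)
  have : Finite p.ker := Subtype.finite
  have hpc : p.ker ≤ Subgroup.center Γ := hk ▸ hc
  have hle := EvenCover.ker_le_stab hQ h2 (by omega) hr hpc hperf QM_yv (stab_perfect h2 hab hm)
    fun x y => pair_perfect h2 hab hm hexc x y
  set S := (Stab F m a b).comap p
  let q : ↥⁅S, S⁆ →* Matrix.symplecticGroup (Fin m) F :=
    (stabEquiv h2 hab hm).toMonoidHom.comp ((p.comp ⁅S, S⁆.subtype).codRestrict (Stab F m a b)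
      fun d => (Subgroup.commutator_le_self S d.2 : _))
  have hSr : Stab F m a b ≤ p.range := fun g hg => hr ▸ hg.1
  have hpre := EvenCover.pre_le hSr (stab_perfect h2 hab hm)
  have hqk : ∀ d, q d = 1 ↔ p d = 1 := fun d => by
    simp only [q, MonoidHom.comp_apply, MulEquiv.coe_toMonoidHom, map_eq_one_iff _
      (MulEquiv.injective _)]
    exact ⟨fun h => congrArg Subtype.val h, fun h => Subtype.ext h⟩
  have hqs : Function.Surjective q := by
    intro A
    obtain ⟨g, rfl⟩ := (stabEquiv h2 hab hm).surjective A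
    obtain ⟨e, he⟩ := hSr g.2
    have heS : e ∈ S := by rw [Subgroup.mem_comap, he]; exact g.2
    have h' := hpre heS
    have : p.ker.Normal := MonoidHom.normal_ker p
    rw [← SetLike.mem_coe, Subgroup.normal_mul] at h'
    obtain ⟨z, hz, d, hd, rfl⟩ := Set.mem_mul.1 h'
    rw [map_mul, MonoidHom.mem_ker.1 hz, one_mul] at he
    refine ⟨⟨d, hd⟩, ?_⟩
    simp only [q, MonoidHom.comp_apply, MulEquiv.coe_toMonoidHom]
    congr 1
    exact Subtype.ext he
  have hqc : q.ker ≤ Subgroup.center _ := fun d hd => Subgroup.mem_center_iff.2 fun z =>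
    Subtype.ext (Subgroup.mem_center_iff.1 (hpc ((hqk d).1 hd)) z)
  have hDp : commutator ↥⁅S, S⁆ = ⊤ := by
    refine Subgroup.map_injective ⁅S, S⁆.subtype_injective ?_
    rw [← MonoidHom.range_eq_map, Subgroup.range_subtype, Subgroup.map_subtype_commutator]
    refine le_antisymm (Subgroup.commutator_le_self _) (Subgroup.commutator_le.2 fun u hu v hv => ?_)
    have : p.ker.Normal := MonoidHom.normal_ker p
    have hu' := hpre hu
    have hv' := hpre hv
    rw [← SetLike.mem_coe, sup_comm, Subgroup.mul_normal] at hu' hv'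
    obtain ⟨u1, hu1, z, hz, rfl⟩ := Set.mem_mul.1 hu'
    obtain ⟨v1, hv1, w, hw, rfl⟩ := Set.mem_mul.1 hv'
    rw [StSL.commutatorElement_central (hpc hz) (hpc hw)]
    exact Subgroup.commutator_mem_commutator hu1 hv1
  -- a perfect cover of a group all whose extensions split is trivial
  obtain ⟨τ, hτ⟩ := splits_sp hm hexc ↥⁅S, S⁆ q hqs hqc
  have hτr : commutator ↥⁅S, S⁆ ≤ τ.range := by
    rw [commutator_def, Subgroup.commutator_le]
    intro u _ v _
    have key : ∀ u, ∃ z ∈ Subgroup.center ↥⁅S, S⁆, u = τ (q u) * z := fun u =>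
      ⟨(τ (q u))⁻¹ * u, hqc (by
        rw [MonoidHom.mem_ker, map_mul, map_inv,
          show q (τ (q u)) = q u from DFunLike.congr_fun hτ (q u), inv_mul_cancel]),
        (mul_inv_cancel_left _ _).symm⟩
    obtain ⟨z, hz, hu⟩ := key u
    obtain ⟨w, hw, hv⟩ := key v
    rw [hu, hv, StSL.commutatorElement_central hz hw]
    exact ⟨⁅q u, q v⁆, map_commutatorElement _ _ _⟩
  rw [hDp] at hτr
  rw [← hk, Subgroup.eq_bot_iff_forall]
  intro z hz
  obtain ⟨A, hA⟩ := hτr (Subgroup.mem_top (⟨z, hle hz⟩ : ↥⁅S, S⁆))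
  have h1 : q (τ A) = 1 := by rw [hA]; exact (hqk _).2 hz
  rw [show q (τ A) = A from DFunLike.congr_fun hτ A] at h1
  rw [h1, map_one] at hA
  exact (congrArg Subtype.val hA).symm

end CfsgLib.Schur.EvenMinus
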