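import Mathlib
import Cfsg.Prelude.Def_KGroupFacts

/-!
A stem extension with cyclic kernel of order `N` of the metacyclic group
`⟨a, b | a ^ m, b ^ n = a ^ t, b a b⁻¹ = a ^ r⟩`.
-/

set_option autoImplicit false

namespace CfsgLib.Schur.Metacyclic

open Subgroup
open scoped commutatorElement

/-- The lattice of relations between `a` and `c`: `a ^ m = c ^ x`, `c ^ N = 1`. -/
def lattice (m N : ℕ) (x : ℤ) : AddSubgroup (ℤ × ℤ) where
  carrier := {p | ∃ k : ℤ, p.1 = m * k ∧ (N : ℤ) ∣ p.2 + k * x}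
  zero_mem' := ⟨0, by simp, by simp⟩
  add_mem' := by
    rintro p q ⟨k, hk, hk'⟩ ⟨k', hq, hq'⟩
    refine ⟨k + k', by rw [Prod.fst_add, hk, hq]; ring, ?_⟩
    rw [Prod.snd_add, show p.2 + q.2 + (k + k') * x = (p.2 + k * x) + (q.2 + k' * x) by ring]
    exact dvd_add hk' hq'
  neg_mem' := by
    rintro p ⟨k, hk, hk'⟩
    refine ⟨-k, by rw [Prod.fst_neg, hk]; ring, ?_⟩
    rw [Prod.snd_neg, show -p.2 + -k * x = -(p.2 + k * x) by ring]
    exact dvd_neg.2 hk'

theorem mem_lattice {m N : ℕ} {x : ℤ} {p : ℤ × ℤ} :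
    p ∈ lattice m N x ↔ ∃ k : ℤ, p.1 = m * k ∧ (N : ℤ) ∣ p.2 + k * x := Iff.rfl

/-- The abelian normal subgroup of the extension. -/
abbrev Base (m N : ℕ) (x : ℤ) : Type := Multiplicative ((ℤ × ℤ) ⧸ lattice m N x)

/-- The element `a ^ i c ^ j`. -/
def elt (m N : ℕ) (x : ℤ) (i j : ℤ) : Base m N x :=
  Multiplicative.ofAdd (QuotientAddGroup.mk (i, j))

theorem elt_mul (m N : ℕ) (x i j i' j' : ℤ) :
    elt m N x i j * elt m N x i' j' = elt m N x (i + i') (j + j') := rfl

theorem elt_zpow (m N : ℕ) (x i j k : ℤ) : elt m N x i j ^ k = elt m N x (k * i) (k * j) := by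
  apply Multiplicative.toAdd.injective
  simp only [elt, toAdd_zpow, toAdd_ofAdd]
  exact (QuotientAddGroup.mk_zsmul _ (i, j) k).symm

theorem elt_pow (m N : ℕ) (x i j : ℤ) (k : ℕ) : elt m N x i j ^ k = elt m N x (k * i) (k * j) := by
  rw [← zpow_natCast, elt_zpow]

theorem elt_eq_elt {m N : ℕ} {x i j i' j' : ℤ} :
    elt m N x i j = elt m N x i' j' ↔
      ∃ k : ℤ, i' - i = m * k ∧ (N : ℤ) ∣ j' - j + k * x := by
  rw [elt, elt, EmbeddingLike.apply_eq_iff_eq, QuotientAddGroup.eq, mem_lattice]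
  refine exists_congr fun k => ?_
  rw [Prod.fst_add, Prod.snd_add, Prod.fst_neg, Prod.snd_neg, neg_add_eq_sub, neg_add_eq_sub]

theorem exists_elt {m N : ℕ} {x : ℤ} (v : Base m N x) : ∃ i j : ℤ, v = elt m N x i j := by
  obtain ⟨w, rfl⟩ := Multiplicative.ofAdd.surjective v
  induction w using QuotientAddGroup.induction_on with
  | H p => exact ⟨p.1, p.2, rfl⟩

variable (m n r l N d e q s : ℕ) (x y : ℤ)
  (hm : m = e * d) (hr : r = q * d + 1) (hS : ∑ i ∈ Finset.range n, r ^ i = e * s)
  (hNd : N ∣ d) (hNs : N ∣ s) (hNl : N ∣ l) (hxy : (q : ℤ) * x + e * y = 1)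

/-- `(i, j) ↦ (r i, j + y i)`. -/
def actFun : ℤ × ℤ →+ ℤ × ℤ where
  toFun p := (r * p.1, p.2 + y * p.1)
  map_zero' := by simp
  map_add' p p' := by ext <;> simp [mul_add, add_assoc, add_left_comm]

include hm hr hS hNd hNs hNl hxy in
/-- The stem extension, as an existence statement. -/
theorem exists_stem (hm0 : 0 < m) (hn0 : 0 < n) (hN0 : 0 < N)
    {Q : Type} [Group Q] (a b : Q) (hgen : closure ({a, b} : Set Q) = ⊤)
    (h1 : a ^ m = 1) (h2 : b ^ n = a ^ (e * l)) (h3 : b * a * b⁻¹ = a ^ r)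
    (huniv : ∀ (X : Type) [Group X] (a' b' : X), a' ^ m = 1 → b' ^ n = a' ^ (e * l) →
      b' * a' * b'⁻¹ = a' ^ r → ∃ f : Q →* X, f a = a' ∧ f b = b') :
    Finite Q ∧ orderOf a = m ∧ ∃ (Γ : Type) (_ : Group Γ) (_ : Finite Γ) (σ : Γ →* Q),
      Cfsg.IsStemExtension σ ∧ Nat.card σ.ker = N := by
  -- the automorphism
  have hdx : ∀ k : ℤ, (N : ℤ) ∣ k * d := fun k => (Int.natCast_dvd_natCast.2 hNd).mul_left k
  have hle : lattice m N x ≤ (lattice m N x).comap (actFun r y) := by
    rintro ⟨i, j⟩ ⟨k, hk, hk'⟩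
    simp only at hk hk'
    refine ⟨r * k, by simp only [actFun, AddMonoidHom.coe_mk, ZeroHom.coe_mk]; rw [hk]; ring, ?_⟩
    simp only [actFun, AddMonoidHom.coe_mk, ZeroHom.coe_mk]
    have : j + y * i + r * k * x = (j + k * x) + k * d := by
      rw [hk, hm, hr]; push_cast; linear_combination (k * d) * hxy
    rw [this]
    exact dvd_add hk' (hdx k)
  let φA : (ℤ × ℤ) ⧸ lattice m N x →+ (ℤ × ℤ) ⧸ lattice m N x :=
    QuotientAddGroup.map _ _ (actFun r y) hle
  let φh : Base m N x →* Base m N x := AddMonoidHom.toMultiplicative φA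
  have hφ : ∀ i j : ℤ, φh (elt m N x i j) = elt m N x (r * i) (j + y * i) := fun i j => rfl
  have hiter : ∀ (k : ℕ) (i j : ℤ),
      φh^[k] (elt m N x i j) =
        elt m N x ((r : ℤ) ^ k * i) (j + y * (∑ u ∈ Finset.range k, (r : ℤ) ^ u) * i) := by
    intro k
    induction k with
    | zero => intro i j; simp
    | succ k ih =>
      intro i j
      rw [Function.iterate_succ_apply', ih, hφ, Finset.sum_range_succ, pow_succ]
      congr 1 <;> ring
  have hSZ : (∑ u ∈ Finset.range n, (r : ℤ) ^ u) = (e : ℤ) * s := by exact_mod_cast hS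
  have hrn : (r : ℤ) ^ n = 1 + q * d * e * s := by
    have := geom_sum_mul (r : ℤ) n
    rw [hSZ, hr] at this
    rw [hr]; push_cast at this ⊢; linear_combination -this
  have hper : ∀ v : Base m N x, φh^[n] v = v := by
    intro v
    obtain ⟨i, j, rfl⟩ := exists_elt v
    rw [hiter, hSZ, hrn, elt_eq_elt]
    refine ⟨-(q * s * i), by rw [hm]; push_cast; ring, ?_⟩
    have : j - (j + y * ((e : ℤ) * s) * i) + -(q * s * i) * x = -(i * s) := by
      linear_combination -((i : ℤ) * s) * hxy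
    rw [this]
    exact dvd_neg.2 ((Int.natCast_dvd_natCast.2 hNs).mul_left i)
  have hbij : Function.Bijective φh := by
    obtain ⟨k, hk⟩ : ∃ k, n = k + 1 := ⟨n - 1, by omega⟩
    refine ⟨fun u v huv => ?_, fun v => ⟨φh^[k] v, ?_⟩⟩
    · rw [← hper u, ← hper v, hk, Function.iterate_succ_apply, Function.iterate_succ_apply, huv]
    · rw [← Function.iterate_succ_apply' (⇑φh), show k.succ = n by omega, hper]
  let φ : MulAut (Base m N x) := MulEquiv.ofBijective φh hbij
  have hφpow : ∀ (k : ℕ) (v : Base m N x), (φ ^ k) v = φh^[k] v := by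
    intro k
    induction k with
    | zero => intro v; rfl
    | succ k ih =>
      intro v
      rw [pow_succ', Function.iterate_succ_apply', ← ih]
      rfl
  let ψ : Multiplicative ℤ →* MulAut (Base m N x) := zpowersHom _ φ
  let a0 : Base m N x := elt m N x 1 0
  let c0 : Base m N x := elt m N x 0 1
  let A1 : SemidirectProduct (Base m N x) (Multiplicative ℤ) ψ := SemidirectProduct.inl a0
  let B1 : SemidirectProduct (Base m N x) (Multiplicative ℤ) ψ :=
    SemidirectProduct.inr (Multiplicative.ofAdd 1)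
  let C1 : SemidirectProduct (Base m N x) (Multiplicative ℤ) ψ := SemidirectProduct.inl c0
  have hB : ∀ v, B1 * SemidirectProduct.inl v * B1⁻¹ = SemidirectProduct.inl (φh v) := by
    intro v
    have := (SemidirectProduct.inl_aut (φ := ψ) (Multiplicative.ofAdd (1 : ℤ)) v).symm
    rw [map_inv] at this
    convert this using 1
    simp [ψ, zpowersHom, φ]
  have hBk : ∀ k : ℤ, SemidirectProduct.inr (φ := ψ) (Multiplicative.ofAdd k) = B1 ^ k := by
    intro k
    rw [← map_zpow, ← ofAdd_zsmul, smul_eq_mul, mul_one]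
  have hgenS : ∀ g : SemidirectProduct (Base m N x) (Multiplicative ℤ) ψ,
      ∃ i j k : ℤ, g = SemidirectProduct.inl (elt m N x i j) * B1 ^ k := by
    intro g
    obtain ⟨i, j, hij⟩ := exists_elt g.left
    refine ⟨i, j, g.right.toAdd, ?_⟩
    rw [← hij, ← hBk, ofAdd_toAdd, SemidirectProduct.inl_left_mul_inr_right]
  set z : SemidirectProduct (Base m N x) (Multiplicative ℤ) ψ :=
    (SemidirectProduct.inl (a0 ^ (e * l)))⁻¹ * B1 ^ n with hz
  have hzr : z.right = Multiplicative.ofAdd (n : ℤ) := by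
    rw [hz, ← zpow_natCast B1, ← hBk, SemidirectProduct.mul_right, SemidirectProduct.inv_right,
      SemidirectProduct.right_inl, SemidirectProduct.right_inr, inv_one, one_mul]
  have hfix : φh (a0 ^ (e * l)) = a0 ^ (e * l) := by
    rw [elt_pow, hφ, elt_eq_elt]
    refine ⟨-((l : ℤ) * q), by rw [hm, hr]; push_cast; ring, ?_⟩
    have : ((e * l : ℕ) : ℤ) * 0 - (((e * l : ℕ) : ℤ) * 0 + y * (((e * l : ℕ) : ℤ) * 1))
        + -((l : ℤ) * q) * x = -(l : ℤ) := by
      push_cast; linear_combination -(l : ℤ) * hxy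
    rw [this]
    exact dvd_neg.2 (Int.natCast_dvd_natCast.2 hNl)
  have hzc : z ∈ center (SemidirectProduct (Base m N x) (Multiplicative ℤ) ψ) := by
    rw [mem_center_iff]
    have hv : ∀ v, Commute (SemidirectProduct.inl v) z := by
      intro v
      have h : B1 ^ n * SemidirectProduct.inl v * (B1 ^ n)⁻¹ = SemidirectProduct.inl v := by
        have h' : ∀ k : ℕ, B1 ^ k * SemidirectProduct.inl v * (B1 ^ k)⁻¹ =
            SemidirectProduct.inl (φh^[k] v) := by
          intro k
          induction k with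
          | zero => simp
          | succ k ih =>
            rw [Function.iterate_succ_apply', ← hB, ← ih, pow_succ']
            group
        rw [h', hper]
      have hc : SemidirectProduct.inl (φ := ψ) v * SemidirectProduct.inl (a0 ^ (e * l))⁻¹ =
          SemidirectProduct.inl (a0 ^ (e * l))⁻¹ * SemidirectProduct.inl v := by
        rw [← map_mul, mul_comm, map_mul]
      show _ * z = z * _
      rw [hz, ← map_inv, ← mul_assoc, hc, mul_assoc, mul_assoc]
      congr 1
      exact (mul_inv_eq_iff_eq_mul.1 h).symm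
    have hb : Commute B1 z := by
      refine Commute.mul_right (Commute.inv_right ?_) ((Commute.refl B1).pow_right n)
      have := hB (a0 ^ (e * l))
      rw [hfix] at this
      exact mul_inv_eq_iff_eq_mul.1 this
    intro g
    obtain ⟨i, j, k, rfl⟩ := hgenS g
    exact ((hv _).mul_left (hb.zpow_left k)).eq
  let K := zpowers z
  haveI hKn : K.Normal := ⟨fun u hu g => by
    have hu' : u ∈ center _ := zpowers_le.2 hzc hu
    rwa [mem_center_iff.1 hu' g, mul_inv_cancel_right]⟩
  let π := QuotientGroup.mk' K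
  have hπz : π z = 1 := (QuotientGroup.eq_one_iff z).2 (mem_zpowers z)
  have hBn : π B1 ^ n = π A1 ^ (e * l) := by
    rw [hz, map_mul, map_inv, inv_mul_eq_one] at hπz
    rw [← map_pow π, ← map_pow π, ← hπz, map_pow (SemidirectProduct.inl (φ := ψ))]
  haveI : Finite (Base m N x) := by
    refine Finite.of_surjective
      (fun p : Fin m × Fin N => elt m N x (p.1 : ℕ) (p.2 : ℕ)) fun v => ?_
    obtain ⟨i, j, rfl⟩ := exists_elt v
    have hmz : (m : ℤ) ≠ 0 := by omega
    have hNz : (N : ℤ) ≠ 0 := by omega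
    refine ⟨(⟨(i % m).toNat, ?_⟩, ⟨((j + i / m * x) % N).toNat, ?_⟩), ?_⟩
    · have := Int.emod_lt_of_pos i (show (0 : ℤ) < m by omega); omega
    · have := Int.emod_lt_of_pos (j + i / m * x) (show (0 : ℤ) < N by omega); omega
    · dsimp only
      rw [Int.toNat_of_nonneg (Int.emod_nonneg _ hmz), Int.toNat_of_nonneg (Int.emod_nonneg _ hNz),
        elt_eq_elt]
      refine ⟨i / m, ?_, -((j + i / m * x) / N) + (j + i / m * x) / N * 2, ?_⟩
      · rw [Int.emod_def]; ring
      · rw [Int.emod_def]; ring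
  haveI hfin : Finite (_ ⧸ K) := by
    refine Finite.of_surjective
      (fun p : Base m N x × Fin n => π (SemidirectProduct.inl p.1 * B1 ^ (p.2 : ℕ))) fun g => ?_
    obtain ⟨g, rfl⟩ := QuotientGroup.mk'_surjective K g
    obtain ⟨i, j, k, rfl⟩ := hgenS g
    have hnz : (n : ℤ) ≠ 0 := by omega
    refine ⟨(elt m N x i j * (a0 ^ (e * l)) ^ (k / n), ⟨(k % n).toNat, ?_⟩), ?_⟩
    · have := Int.emod_lt_of_pos k (show (0 : ℤ) < n by omega); omega
    · dsimp only
      simp only [map_mul, map_zpow, map_pow]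
      rw [mul_assoc]
      congr 1
      show (π A1 ^ (e * l)) ^ (k / n) * π B1 ^ (k % n).toNat = π B1 ^ k
      rw [← hBn, ← zpow_natCast _ (k % n).toNat, Int.toNat_of_nonneg (Int.emod_nonneg _ hnz),
        ← zpow_natCast (π B1) n, ← zpow_mul, ← zpow_add, Int.mul_ediv_add_emod]
  -- the map to `Q`
  let f0 : ℤ × ℤ →+ Additive Q :=
    (zmultiplesHom _ (Additive.ofMul a)).comp (AddMonoidHom.fst ℤ ℤ)
  have hf0 : lattice m N x ≤ f0.ker := by
    rintro ⟨i, j⟩ ⟨k, hk, -⟩
    simp only at hk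
    show f0 (i, j) = 0
    apply Additive.toMul.injective
    show a ^ i = 1
    rw [hk, zpow_mul, zpow_natCast, h1, one_zpow]
  let f1 : Base m N x →* Q :=
    AddMonoidHom.toMultiplicativeLeft (QuotientAddGroup.lift (lattice m N x) f0 hf0)
  have hf1 : ∀ i j, f1 (elt m N x i j) = a ^ i := fun i j => rfl
  let f2 : Multiplicative ℤ →* Q := zpowersHom _ b
  have hstep : ∀ v, f1 (φh v) = b * f1 v * b⁻¹ := by
    intro v
    obtain ⟨i, j, rfl⟩ := exists_elt v
    rw [hφ, hf1, hf1, zpow_mul, zpow_natCast, ← h3, conj_zpow]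
  have hcompat : ∀ g, f1.comp (MulEquiv.toMonoidHom (ψ g)) =
      (MulEquiv.toMonoidHom (MulAut.conj (f2 g))).comp f1 := by
    intro g
    refine MonoidHom.ext fun v => ?_
    show f1 ((φ ^ g.toAdd) v) = b ^ g.toAdd * f1 v * (b ^ g.toAdd)⁻¹
    induction g.toAdd using Int.induction_on generalizing v with
    | zero => simp
    | succ k ih =>
      rw [zpow_add_one, zpow_add_one, MulAut.mul_apply, ih, show φ v = φh v from rfl, hstep]
      group
    | pred k ih =>
      rw [zpow_sub_one, zpow_sub_one, MulAut.mul_apply, ih]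
      have := hstep (φ⁻¹ v)
      rw [show φh (φ⁻¹ v) = v from φ.apply_symm_apply v] at this
      rw [this]
      group
  let F := SemidirectProduct.lift f1 f2 hcompat
  have hFa : F A1 = a := by simp [F, A1, a0, hf1]
  have hFb : F B1 = b := by simp [F, B1, f2]
  have hFK : K ≤ F.ker := by
    rw [zpowers_le, MonoidHom.mem_ker, hz]
    simp only [map_mul, map_inv, map_pow, hFb]
    rw [show F (SemidirectProduct.inl a0) = a from hFa, h2, inv_mul_cancel]
  let σ := QuotientGroup.lift K F hFK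
  have hσsurj : Function.Surjective σ := by
    rw [← MonoidHom.range_eq_top, eq_top_iff, ← hgen, closure_le]
    rintro g (rfl | rfl)
    · exact ⟨π A1, hFa⟩
    · exact ⟨π B1, hFb⟩
  -- the kernel
  let Cc := zpowers (π C1)
  have hcc : π C1 ∈ center (_ ⧸ K) := by
    rw [mem_center_iff]
    intro g
    obtain ⟨g, rfl⟩ := QuotientGroup.mk'_surjective K g
    rw [← map_mul, ← map_mul]
    congr 1
    obtain ⟨i, j, k, rfl⟩ := hgenS g
    refine ((Commute.mul_left ?_ (Commute.zpow_left ?_ k)).eq)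
    · show _ = _
      rw [← map_mul, ← map_mul, mul_comm]
    · have := hB c0
      rw [show φh c0 = c0 by rw [hφ]; simp [c0]] at this
      exact mul_inv_eq_iff_eq_mul.1 this
  haveI hCn : Cc.Normal := ⟨fun u hu g => by
    have hu' : u ∈ center _ := zpowers_le.2 hcc hu
    rwa [mem_center_iff.1 hu' g, mul_inv_cancel_right]⟩
  let ρ := QuotientGroup.mk' Cc
  have hρc : ∀ j : ℤ, ρ (π (SemidirectProduct.inl (elt m N x 0 j))) = 1 := fun j => by
    rw [show elt m N x 0 j = c0 ^ j by rw [elt_zpow]; simp, map_zpow, map_zpow]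
    exact (QuotientGroup.eq_one_iff _).2 (zpow_mem (mem_zpowers _) j)
  have hρelt : ∀ i j : ℤ, ρ (π (SemidirectProduct.inl (elt m N x i j))) = ρ (π A1) ^ i := by
    intro i j
    rw [show elt m N x i j = a0 ^ i * elt m N x 0 j by rw [elt_zpow, elt_mul]; simp]
    simp only [map_mul, map_zpow, hρc, mul_one]
    rfl
  obtain ⟨τ, hτa, hτb⟩ := huniv _ (ρ (π A1)) (ρ (π B1))
    (by
      have h := hρelt m 0
      rw [zpow_natCast] at h
      rw [← h, show elt m N x m 0 = elt m N x 0 x from elt_eq_elt.2 ⟨-1, by ring, by simp⟩, hρc])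
    (by rw [← map_pow, hBn, map_pow])
    (by
      have h := congrArg (fun u => ρ (π u)) (hB a0)
      simp only [map_mul, map_inv] at h
      rw [show φh a0 = elt m N x r y by rw [hφ]; simp, hρelt (r : ℤ) y, zpow_natCast] at h
      exact h)
  have hτσ : ∀ g, τ (σ g) = ρ g := by
    intro g
    obtain ⟨g, rfl⟩ := QuotientGroup.mk'_surjective K g
    obtain ⟨i, j, k, rfl⟩ := hgenS g
    show τ (F _) = ρ (π _)
    simp only [map_mul, map_zpow, hFb, hτb]
    congr 1
    rw [hρelt, show F (SemidirectProduct.inl (elt m N x i j)) = a ^ i by simp [F, hf1],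
      map_zpow, hτa]
  have hker : σ.ker = Cc := by
    refine le_antisymm (fun g hg => ?_) ?_
    · rw [← QuotientGroup.eq_one_iff]
      show ρ g = 1
      rw [← hτσ, MonoidHom.mem_ker.1 hg, map_one]
    · rw [zpowers_le, MonoidHom.mem_ker]
      show F C1 = 1
      simp [F, C1, c0, hf1]
  have hinl : ∀ v, π (SemidirectProduct.inl v) = 1 → v = 1 := by
    intro v hv
    obtain ⟨k, hk⟩ := mem_zpowers_iff.1 ((QuotientGroup.eq_one_iff _).1 hv)
    have h := congrArg SemidirectProduct.rightHom hk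
    rw [map_zpow, SemidirectProduct.rightHom_inl, SemidirectProduct.rightHom_eq_right, hzr,
      ← ofAdd_zsmul, ofAdd_eq_one, smul_eq_mul, mul_eq_zero] at h
    have hk0 : k = 0 := h.resolve_right (by omega)
    rw [hk0, zpow_zero] at hk
    exact SemidirectProduct.inl_inj.1 (hk.symm.trans (map_one _).symm)
  have hC1 : ∀ k : ℤ, π C1 ^ k = 1 ↔ (N : ℤ) ∣ k := by
    intro k
    rw [← map_zpow, ← map_zpow (SemidirectProduct.inl (φ := ψ))]
    constructor
    · intro h
      have h' := hinl _ h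
      rw [show (1 : Base m N x) = elt m N x 0 0 from rfl, elt_zpow, elt_eq_elt] at h'
      obtain ⟨k', hk1, hk2⟩ := h'
      have : k' = 0 := by
        have h0 : (m : ℤ) * k' = 0 := by rw [← hk1]; ring
        rcases mul_eq_zero.1 h0 with h0 | h0
        · omega
        · exact h0
      subst this
      simpa using hk2
    · intro h
      rw [show c0 ^ k = 1 by
        rw [elt_zpow, show (1 : Base m N x) = elt m N x 0 0 from rfl, elt_eq_elt]
        exact ⟨0, by simp, by simpa using h⟩, map_one, map_one]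
  have hcard : Nat.card Cc = N := by
    rw [Nat.card_zpowers]
    refine Nat.dvd_antisymm (orderOf_dvd_of_pow_eq_one ?_) ?_
    · rw [← zpow_natCast, hC1]
    · rw [← Int.natCast_dvd_natCast, ← hC1, zpow_natCast, pow_orderOf_eq_one]
  refine ⟨Finite.of_surjective σ hσsurj, ?_, _, inferInstance, hfin, σ, ⟨hσsurj, ?_, ?_⟩,
    by rw [hker, hcard]⟩
  · refine Nat.dvd_antisymm (orderOf_dvd_of_pow_eq_one h1) ?_
    have h : ρ (π A1) ^ orderOf a = 1 := by rw [← hτa, ← map_pow, pow_orderOf_eq_one, map_one]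
    rw [← map_pow, QuotientGroup.mk'_apply, QuotientGroup.eq_one_iff] at h
    obtain ⟨j, hj⟩ := mem_zpowers_iff.1 h
    rw [← map_zpow, ← map_pow, ← map_zpow (SemidirectProduct.inl (φ := ψ)),
      ← map_pow (SemidirectProduct.inl (φ := ψ))] at hj
    have h' := hinl (c0 ^ j * (a0 ^ orderOf a)⁻¹) (by rw [map_mul, map_mul, hj, map_inv, map_inv,
      mul_inv_cancel])
    rw [mul_inv_eq_one, elt_zpow, elt_pow, elt_eq_elt] at h'
    obtain ⟨k, hk, -⟩ := h'
    exact Int.natCast_dvd_natCast.1 ⟨k, by rw [← hk]; ring⟩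
  · rw [hker]
    exact zpowers_le.2 hcc
  · rw [hker, zpowers_le]
    have hw : ⁅B1, A1⁆ = SemidirectProduct.inl (elt m N x ((r : ℤ) - 1) y) := by
      rw [commutatorElement_def, hB, ← map_inv, ← map_mul, hφ, ← zpow_neg_one, elt_zpow, elt_mul]
      congr 2 <;> ring
    have hce : C1 = ⁅B1, A1⁆ ^ e := by
      rw [hw, ← map_pow, elt_pow]
      refine congrArg SemidirectProduct.inl (elt_eq_elt.2 ?_)
      refine ⟨q, by rw [hm, hr]; push_cast; ring, ?_⟩
      have : (e : ℤ) * y - 1 + q * x = 0 := by linear_combination hxy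
      rw [this]; exact dvd_zero _
    rw [hce, map_pow, map_commutatorElement, _root_.commutator_def]
    exact pow_mem (commutator_mem_commutator (mem_top _) (mem_top _)) _

end CfsgLib.Schur.Metacyclic
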