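import Cfsg.Agent.Lib.Schur.OrthCover
import Cfsg.Agent.Lib.Pres.DPlus.Multiplier

/-!
The lifts to the spin group of the product of two reflections in orthogonal vectors of norm `-1`
square to the non-trivial element of the kernel.
-/

set_option autoImplicit false
set_option maxHeartbeats 400000

namespace CfsgLib.Schur.SpinInvol

open QuadraticMap CfsgLib.Geometry CfsgLib.Geometry.NormGraph Matrix
open CfsgLib.Pres.DPlus (QQ ee Act polar_ee QQ_ee flp flp_out flp_l SpinS spinProj spin_cov spin_ker Cov)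
open CfsgLib.Pres.AltMono (dg χ)
open scoped commutatorElement

universe u

section General

variable {F : Type*} [Field F] {V : Type*} [AddCommGroup V] [Module F V] [FiniteDimensional F V]
variable {Q : QuadraticForm F V}

set_option linter.unusedSectionVars false

/-- Minus the identity on the plane of two orthogonal vectors of norm `-1`. -/
def Neg2 (g : orth Q) (a b : V) : Prop :=
  ∀ v, (g : V ≃ₗ[F] V) v = v + polar Q v a • a + polar Q v b • b

/-- Two orthogonal vectors of norm `-1`. -/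
structure Frame (Q : QuadraticForm F V) (a b : V) : Prop where
  left : Q a = -1
  right : Q b = -1
  orth : polar Q a b = 0

theorem Frame.symm {a b : V} (h : Frame Q a b) : Frame Q b a :=
  ⟨h.right, h.left, (polar_comm Q b a).trans h.orth⟩

theorem Frame.nz {a b : V} (h : Frame Q a b) (i : Fin 2) : Q (![a, b] i) ≠ 0 := by
  fin_cases i
  · show Q a ≠ 0; rw [h.left]; exact neg_ne_zero.2 one_ne_zero
  · show Q b ≠ 0; rw [h.right]; exact neg_ne_zero.2 one_ne_zero

theorem Frame.perp {a b : V} (h : Frame Q a b) (i j : Fin 2) (hij : i ≠ j) :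
    polar Q (![a, b] i) (![a, b] j) = 0 := by
  fin_cases i <;> fin_cases j <;> first
    | exact absurd rfl hij
    | exact h.orth
    | exact h.symm.orth

theorem Neg2.apply_left {g : orth Q} {a b : V} (hg : Neg2 g a b) (h : Frame Q a b) :
    (g : V ≃ₗ[F] V) a = -a := by
  rw [hg, polar_self', h.left, h.orth]
  module

theorem Neg2.apply_right {g : orth Q} {a b : V} (hg : Neg2 g a b) (h : Frame Q a b) :
    (g : V ≃ₗ[F] V) b = -b := by
  rw [hg, polar_self', h.right, h.symm.orth]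
  module

theorem Neg2.apply_perp {g : orth Q} {a b : V} (hg : Neg2 g a b) {v : V} (h1 : polar Q v a = 0)
    (h2 : polar Q v b = 0) : (g : V ≃ₗ[F] V) v = v := by
  rw [hg, h1, h2]; module

theorem Neg2.ext {g g' : orth Q} {a b : V} (h : Neg2 g a b) (h' : Neg2 g' a b) : g = g' :=
  Subtype.ext (LinearEquiv.ext fun v => (h v).trans (h' v).symm)

theorem exists_neg2 [Finite F] (hQ : (polarBilin Q).Nondegenerate) (h2 : (2 : F) ≠ 0) {a b : V}
    (h : Frame Q a b) : ∃ g ∈ commutator (orth Q), Neg2 g a b := by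
  have ha : Q a ≠ 0 := h.nz 0
  have hb : Q b ≠ 0 := h.nz 1
  have hR := reflGroup_eq_orth_of_two_ne hQ h2
  refine ⟨oRefl Q a ha * oRefl Q b hb, ?_, fun v => ?_⟩
  · rw [mem_commutator_orth_iff hQ hR, map_mul, orthInvariant_oRefl, orthInvariant_oRefl]
    refine Prod.ext ?_ ?_
    · show sqMk ha * sqMk hb = 1
      rw [← sqMk_mul ha hb, sqMk_eq_one_iff, h.left, h.right]
      exact ⟨1, by ring⟩
    · show Multiplicative.ofAdd (1 : ZMod 2) * Multiplicative.ofAdd 1 = 1
      decide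
  · show refl Q a ha (refl Q b hb v) = _
    rw [refl_apply Q b, refl_apply, h.left, h.right, polar_sub_left, polar_smul_left', h.symm.orth]
    simp
    abel

variable {X : Type*} [Group X] {p : X →* orth Q}

/-- Lifts commute with the preimage of the pointwise stabiliser of the plane. -/
theorem comm [Fintype F] (hQ : (polarBilin Q).Nondegenerate) (h2 : (2 : F) ≠ 0)
    (hr : p.range = commutator (orth Q)) (hc : p.ker ≤ Subgroup.center X)
    (hn : 7 ≤ Module.finrank F V) {a b : V} (h : Frame Q a b) {t : X} (ht : Neg2 (p t) a b) :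
    ∀ s ∈ (frameStab Q ![a, b]).comap p, Commute t s := by
  set S := (frameStab Q ![a, b]).comap p
  have hp : ∀ s ∈ S, Commute (p t) (p s) := fun s hs => Subtype.ext (LinearEquiv.ext fun v => by
    show ((p t : orth Q) : V ≃ₗ[F] V) (((p s : orth Q) : V ≃ₗ[F] V) v) =
      ((p s : orth Q) : V ≃ₗ[F] V) (((p t : orth Q) : V ≃ₗ[F] V) v)
    have e1 : ((p s : orth Q) : V ≃ₗ[F] V) a = a := hs.2 0
    have e2 : ((p s : orth Q) : V ≃ₗ[F] V) b = b := hs.2 1
    have f1 := orth_polar (p s).2 v a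
    have f2 := orth_polar (p s).2 v b
    rw [e1] at f1
    rw [e2] at f2
    rw [ht, ht v, map_add, map_add, map_smul, map_smul, e1, e2, f1, f2])
  have hle : p.ker ⊔ ⁅S, S⁆ ≤ Subgroup.centralizer {t} := by
    refine sup_le (fun z hz => ?_) (Subgroup.commutator_le.2 fun u hu v hv => ?_)
    · rw [Subgroup.mem_centralizer_singleton_iff]
      exact (Subgroup.mem_center_iff.1 (hc hz) t).symm
    · rw [Subgroup.mem_centralizer_singleton_iff]
      exact (Pres.DPlus.ext_commute hc (hp u hu) (hp v hv)).symm.eq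
  intro s hs
  have := hle (OrthCover.pre_frame_le hr hQ h2 _ h.nz h.perp (by omega) hs)
  rw [Subgroup.mem_centralizer_singleton_iff] at this
  exact this.symm

/-- All lifts have the same square. -/
theorem sq_eq [Fintype F] (hQ : (polarBilin Q).Nondegenerate) (h2 : (2 : F) ≠ 0)
    (hr : p.range = commutator (orth Q)) (hc : p.ker ≤ Subgroup.center X)
    (hsq : ∀ z ∈ p.ker, z * z = 1)
    (hn : 7 ≤ Module.finrank F V) {a b c d : V} (h : Frame Q a b) (h' : Frame Q c d) {t t' : X}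
    (ht : Neg2 (p t) a b) (ht' : Neg2 (p t') c d) : t * t = t' * t' := by
  obtain ⟨g0, hg0, hg⟩ := exists_commutator_map hQ h2 (k := 2) (by omega) ![a, b] ![c, d] h.nz
    h.perp h'.perp (fun i => by
      fin_cases i
      · exact h.left.trans h'.left.symm
      · exact h.right.trans h'.right.symm)
  obtain ⟨g, rfl⟩ := hr.ge hg0
  have e1 : ((p g : orth Q) : V ≃ₗ[F] V) a = c := hg 0
  have e2 : ((p g : orth Q) : V ≃ₗ[F] V) b = d := hg 1
  have hgt : p (g * t * g⁻¹) = p t' := Neg2.ext (fun v => by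
    rw [map_mul, map_mul, map_inv]
    show ((p g : orth Q) : V ≃ₗ[F] V) (((p t : orth Q) : V ≃ₗ[F] V)
      (((p g : orth Q) : V ≃ₗ[F] V).symm v)) = _
    have f1 := orth_polar (p g).2 (((p g : orth Q) : V ≃ₗ[F] V).symm v) a
    have f2 := orth_polar (p g).2 (((p g : orth Q) : V ≃ₗ[F] V).symm v) b
    rw [LinearEquiv.apply_symm_apply, e1] at f1
    rw [LinearEquiv.apply_symm_apply, e2] at f2
    rw [ht, map_add, map_add, map_smul, map_smul, e1, e2, LinearEquiv.apply_symm_apply, f1, f2]) ht'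
  obtain ⟨w, hw, e⟩ : ∃ w ∈ p.ker, g * t * g⁻¹ = w * t' :=
    ⟨g * t * g⁻¹ * t'⁻¹, by rw [MonoidHom.mem_ker, map_mul, hgt, map_inv, mul_inv_cancel], by group⟩
  have hk : t * t ∈ p.ker := by
    rw [MonoidHom.mem_ker, map_mul]
    refine Subtype.ext (LinearEquiv.ext fun v => ?_)
    show ((p t : orth Q) : V ≃ₗ[F] V) (((p t : orth Q) : V ≃ₗ[F] V) v) = v
    rw [ht v, map_add, map_add, map_smul, map_smul, ht.apply_left h, ht.apply_right h, ht v]
    module
  calc t * t = g * (t * t) * g⁻¹ := by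
        rw [Subgroup.mem_center_iff.1 (hc hk) g, mul_inv_cancel_right]
    _ = (g * t * g⁻¹) * (g * t * g⁻¹) := by group
    _ = w * w * (t' * t') := by
        rw [e, mul_assoc w t', ← mul_assoc t', Subgroup.mem_center_iff.1 (hc hw) t']
        group
    _ = t' * t' := by rw [hsq w hw, one_mul]

end General

variable {F : Type u} [Field F] [Fintype F] {n : ℕ}

omit [Fintype F] in
theorem polar_QQ_sub (v : Fin n ⊕ Fin n → F) (i : Fin n) :
    polar (QQ F n) v (ee F (.inl i) - ee F (.inr i)) = v (.inr i) - v (.inl i) := by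
  rw [polar_sub_right, polar_ee, polar_ee]
  rfl

omit [Fintype F] in
theorem frame_aa {i j : Fin n} (h : i ≠ j) :
    Frame (QQ F n) (ee F (.inl i) - ee F (.inr i)) (ee F (.inl j) - ee F (.inr j)) := by
  have hq : ∀ k : Fin n, QQ F n (ee F (.inl k) - ee F (.inr k)) = -1 := fun k => by
    rw [Geometry.map_sub', QQ_ee, QQ_ee, polar_ee]
    simp [ee]
  refine ⟨hq i, hq j, ?_⟩
  rw [polar_QQ_sub]
  simp [ee, h.symm]

/-- The square of a lift. -/
theorem neg2_sq (hn : 4 ≤ n) (h2 : (2 : F) ≠ 0) {a b : Fin n ⊕ Fin n → F}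
    (h : Frame (QQ F n) a b) {t : SpinS F n} (ht : Neg2 (spinProj F n t) a b) :
    t * t ≠ 1 := by
  classical
  have hexc : n = 4 → Nat.card F ≠ 2 := fun _ hq => by
    have : CharP F 2 := by
      rw [← FiniteField.even_card_iff_char_two.2 (show Fintype.card F % 2 = 0 by
        rw [← Nat.card_eq_fintype_card, hq]) ]
      exact ringChar.charP F
    exact h2 CharTwo.two_eq_zero
  have H := spin_cov (F := F) hn hexc
  obtain ⟨z, hz, hall, hz2, hzc, hzG⟩ := spin_ker (F := F) hn hexc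
  have hnd : (polarBilin (QQ F n)).Nondegenerate := nondegenerate_matQuad
    (by rw [det_plus_gram]; exact pow_ne_zero _ (neg_ne_zero.2 one_ne_zero))
  have hdim : 7 ≤ Module.finrank F (Fin n ⊕ Fin n → F) := by simp [Fintype.card_sum]; omega
  have hsq : ∀ w ∈ (spinProj F n).ker, w * w = 1 := fun w hw => by
    rcases hall w hw with rfl | rfl
    · exact one_mul 1
    · exact hz2
  let pp : Fin n := ⟨n - 1, by omega⟩
  let r : Fin n := ⟨n - 2, by omega⟩
  let o : Fin n := ⟨n - 3, by omega⟩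
  have hop : o ≠ pp := by simp only [o, pp, ne_eq, Fin.ext_iff]; omega
  have hor : o ≠ r := by simp only [o, r, ne_eq, Fin.ext_iff]; omega
  have hpr : pp ≠ r := by simp only [pp, r, ne_eq, Fin.ext_iff]; omega
  set ao := ee F (Sum.inl o : Fin n ⊕ Fin n) - ee F (.inr o) with hao
  set ar := ee F (Sum.inl r : Fin n ⊕ Fin n) - ee F (.inr r) with har
  set ap := ee F (Sum.inl pp : Fin n ⊕ Fin n) - ee F (.inr pp) with hap
  have Fro : Frame (QQ F n) ar ao := frame_aa hor.symm
  have Fpr : Frame (QQ F n) ap ar := frame_aa hpr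
  have Fop : Frame (QQ F n) ao ap := frame_aa hop
  obtain ⟨g0, hg0, hG0⟩ := exists_neg2 hnd h2 Fro
  obtain ⟨G, rfl⟩ := H.exists_pre hg0
  obtain ⟨k0, hk0, hK0⟩ := exists_neg2 hnd h2 Fpr
  obtain ⟨K, rfl⟩ := H.exists_pre hk0
  have MG : Act (spinProj F n G) (flp r o) 1 := fun v A => by
    rw [hG0 v, polar_QQ_sub, polar_QQ_sub, Pi.one_apply, one_mul]
    obtain ⟨e1, e2, e3, e4⟩ := flp_l hor.symm
    rcases A with i | i <;> by_cases h1 : i = r <;> by_cases h3 : i = o <;>
      first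
      | (exfalso; exact hor (h3.symm.trans h1))
      | (rw [h1]; simp [e1, e2, har, hao, ee, hor.symm])
      | (rw [h3]; simp [e3, e4, har, hao, ee, hor])
      | (rw [flp_out (by simpa [Pres.DPlus.ix] using h1) (by simpa [Pres.DPlus.ix] using h3)]
         simp [har, hao, ee, h1, h3])
  set d := H.φ (dg (-1 : Fˣ) pp r) with hd
  have Md : Act (spinProj F n d) (Pres.DPlus.sf 1) (Pres.DPlus.sc (χ (-1 : Fˣ) pp r)) := by
    rw [hd, H.p_φ]; exact Pres.DPlus.act_ρ (Pres.DPlus.isMono_dg _ _ _)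
  have hdr : ((spinProj F n d : orth (QQ F n)) : (Fin n ⊕ Fin n → F) ≃ₗ[F] (Fin n ⊕ Fin n → F)) ar = -ar := by
    rw [har, map_sub, Md.apply_ee, Md.apply_ee, Pres.DPlus.sf_one]
    simp [χ, hpr.symm]
    module
  have hdo : ((spinProj F n d : orth (QQ F n)) : (Fin n ⊕ Fin n → F) ≃ₗ[F] (Fin n ⊕ Fin n → F)) ao = ao := by
    rw [hao, map_sub, Md.apply_ee, Md.apply_ee, Pres.DPlus.sf_one]
    simp [χ, hop, hor]
  have hKo : ((spinProj F n K : orth (QQ F n)) : (Fin n ⊕ Fin n → F) ≃ₗ[F] (Fin n ⊕ Fin n → F)) ao = ao :=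
    hK0.apply_perp Fop.orth Fro.symm.orth
  have hK' : K⁻¹ * d ∈ (frameStab (QQ F n) ![ar, ao]).comap (spinProj F n) := by
    refine ⟨H.range ▸ ⟨_, rfl⟩, fun i => ?_⟩
    rw [map_mul, map_inv]
    fin_cases i
    · show ((spinProj F n K : orth (QQ F n)) : (Fin n ⊕ Fin n → F) ≃ₗ[F] (Fin n ⊕ Fin n → F)).symm (((spinProj F n d : orth (QQ F n)) : (Fin n ⊕ Fin n → F) ≃ₗ[F] (Fin n ⊕ Fin n → F)) ar) = ar
      rw [hdr, LinearEquiv.symm_apply_eq, hK0.apply_right Fpr]
    · show ((spinProj F n K : orth (QQ F n)) : (Fin n ⊕ Fin n → F) ≃ₗ[F] (Fin n ⊕ Fin n → F)).symm (((spinProj F n d : orth (QQ F n)) : (Fin n ⊕ Fin n → F) ≃ₗ[F] (Fin n ⊕ Fin n → F)) ao) = ao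
      rw [hdo, LinearEquiv.symm_apply_eq, hKo]
  have hc := comm hnd h2 H.range H.cen hdim Fro hG0 _ hK'
  have hzc' : z ∈ Subgroup.center (SpinS F n) := H.cen hz
  have hGK : G * K = z * (K * G) := by
    have e : z = G * K * G⁻¹ * K⁻¹ := by
      rw [hzG o pp r hop hor hpr rfl rfl G MG, ← hd]
      calc G * d * G⁻¹ * d⁻¹ = G * K * ((K⁻¹ * d) * G⁻¹) * (K⁻¹ * d)⁻¹ * K⁻¹ := by group
        _ = G * K * (G⁻¹ * (K⁻¹ * d)) * (K⁻¹ * d)⁻¹ * K⁻¹ := by rw [hc.inv_left.eq]
        _ = G * K * G⁻¹ * K⁻¹ := by group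
    rw [e]; group
  have hL : Neg2 (spinProj F n (G * K)) ao ap := fun v => by
    rw [map_mul]
    show ((spinProj F n G : orth (QQ F n)) : (Fin n ⊕ Fin n → F) ≃ₗ[F] (Fin n ⊕ Fin n → F)) (((spinProj F n K : orth (QQ F n)) : (Fin n ⊕ Fin n → F) ≃ₗ[F] (Fin n ⊕ Fin n → F)) v) = _
    rw [hK0 v, map_add, map_add, map_smul, map_smul, hG0.apply_left Fro,
      hG0.apply_perp (v := ap) Fpr.orth Fop.symm.orth, hG0 v]
    module
  have s1 : K * K = G * G := sq_eq hnd h2 H.range H.cen hsq hdim Fpr Fro hK0 hG0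
  have s2 : G * K * (G * K) = G * G := sq_eq hnd h2 H.range H.cen hsq hdim Fop Fro hL hG0
  have hs : t * t = G * G := sq_eq hnd h2 H.range H.cen hsq hdim h Fro ht hG0
  rw [hs]
  intro h1
  refine h2 (hzc.2 ?_)
  have e : G * K * (G * K) = z * (G * (K * K) * G) := by
    nth_rewrite 2 [hGK]
    rw [← mul_assoc, Subgroup.mem_center_iff.1 hzc' (G * K)]
    group
  rw [s2, s1, h1, mul_one, h1, mul_one] at e
  exact e.symm

end CfsgLib.Schur.SpinInvol
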