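import Cfsg.Agent.Lib.Schur.MinusBound
import Cfsg.Agent.Lib.Schur.SpinInvol
import Cfsg.Agent.Lib.Schur.BoundedSplits
import Cfsg.Agent.Lib.Geometry.POmegaStd

/-!
The Schur multiplier of the orthogonal groups of minus type in odd characteristic.
-/

set_option autoImplicit false
set_option maxHeartbeats 800000

namespace CfsgLib.Schur.MinusMultiplier

open QuadraticMap CfsgLib.Geometry CfsgLib.Geometry.NormGraph Matrix
open CfsgLib.Schur.MinusBound (QM Idx QM_apply nondeg_QM finrank_QM)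
open CfsgLib.Schur.SpinInvol (Frame Neg2)
open CfsgLib.Pres.DPlus (QQ ee Act polar_ee QQ_ee flp flp_out SpinS spinProj spin_cov spin_ker
  flip_mem_omega IsNeg neg_even)
open scoped commutatorElement

universe u

variable {F : Type u} [Field F] [Fintype F]

omit [Fintype F] in
theorem sum_two_squares [Finite F] (h2 : (2 : F) ≠ 0) (x : F) : ∃ α β : F, α ^ 2 + β ^ 2 = x := by
  have := Fintype.ofFinite F
  obtain ⟨α, β, h⟩ := FiniteField.exists_root_sum_quadratic (f := (Polynomial.X ^ 2 : Polynomial F))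
    (g := Polynomial.X ^ 2 - Polynomial.C x) (Polynomial.degree_X_pow 2)
    (Polynomial.degree_X_pow_sub_C (by decide) _) (FiniteField.odd_card_of_char_ne_two fun h => by
      have : CharP F 2 := h ▸ ringChar.charP F
      exact h2 CharTwo.two_eq_zero)
  refine ⟨α, β, ?_⟩
  simp at h
  linear_combination h

/-- An orthogonal frame of two vectors of norm `-1` with the same span. -/
theorem exists_frame {V : Type*} [AddCommGroup V] [Module F V] {Q : QuadraticForm F V}
    (h2 : (2 : F) ≠ 0) {c : F} (hc : c ≠ 0) {x y : V} (hx : Q x = c) (hy : Q y = c)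
    (hxy : polar Q x y = 0) :
    ∃ a b : V, Frame Q a b ∧ (∀ g : orth Q, Neg2 g a b →
      (g : V ≃ₗ[F] V) x = -x ∧ (g : V ≃ₗ[F] V) y = -y) ∧
      ∃ α β : F, a = α • x + β • y ∧ b = -β • x + α • y := by
  obtain ⟨α, β, hab⟩ := sum_two_squares h2 (-c⁻¹)
  have hab' : c * (α ^ 2 + β ^ 2) = -1 := by rw [hab, mul_neg, mul_inv_cancel₀ hc]
  have hyx : polar Q y x = 0 := (polar_comm Q y x).trans hxy
  have hxx : polar Q x x = 2 * c := by rw [polar_self', hx]
  have hyy : polar Q y y = 2 * c := by rw [polar_self', hy]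
  refine ⟨α • x + β • y, -β • x + α • y, ⟨?_, ?_, ?_⟩, fun g hg => ?_, α, β, rfl, rfl⟩
  · rw [map_add', Geometry.map_smul', Geometry.map_smul', polar_smul_left', polar_smul_right', hx, hy, hxy]
    linear_combination hab'
  · rw [map_add', Geometry.map_smul', Geometry.map_smul', polar_smul_left', polar_smul_right', hx, hy, hxy]
    linear_combination hab'
  · simp only [polar_add_left, polar_add_right, polar_smul_left', polar_smul_right', hxx, hyy, hxy,
      hyx]
    ring
  · constructor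
    · rw [hg]
      simp only [polar_add_right, polar_smul_right', hxx, hxy]
      match_scalars <;> first | ring1 | linear_combination 2 * hab'
    · rw [hg]
      simp only [polar_add_right, polar_smul_right', hyy, hyx]
      match_scalars <;> first | ring1 | linear_combination 2 * hab'

omit [Fintype F] in
theorem exists_neg_iff {ι : Type} [Fintype ι] [DecidableEq ι] [Finite F] {M : Matrix ι ι F}
    (h2 : (2 : F) ≠ 0) (hn : Even (Fintype.card ι)) (hn2 : 2 ≤ Fintype.card ι)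
    (h : (M + Mᵀ).det ≠ 0) :
    (∃ g : commutator (orth (matQuad M)),
      ∀ v, ((g : orth (matQuad M)) : (ι → F) ≃ₗ[F] (ι → F)) v = -v) ↔ IsSquare (M + Mᵀ).det := by
  rw [← neg_one_mem_Omega_iff h2 hn hn2 h]
  constructor
  · rintro ⟨g, hg⟩
    refine ⟨((omegaEquiv (matQuad M)).symm g).1, ((omegaEquiv (matQuad M)).symm g).2,
      matrix_eq_of_mulVec fun v => ?_⟩
    rw [← isomEquiv_apply, Matrix.neg_mulVec, Matrix.one_mulVec, ← hg]
    congr 1
    exact congrArg (fun z : commutator (orth (matQuad M)) =>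
      ((z : orth (matQuad M)) : (ι → F) ≃ₗ[F] (ι → F))) ((omegaEquiv (matQuad M)).apply_symm_apply g)
  · rintro ⟨g, hg, hg1⟩
    refine ⟨omegaEquiv (matQuad M) ⟨g, hg⟩, fun v => ?_⟩
    show (isomEquiv (matQuad M) g : (ι → F) ≃ₗ[F] (ι → F)) v = -v
    rw [isomEquiv_apply, hg1, Matrix.neg_mulVec, Matrix.one_mulVec]

variable {m : ℕ} {a b : F}

omit [Fintype F] in
theorem neg_disc_not_square (h2 : (2 : F) ≠ 0)
    (hab : ∀ z₁ z₂ : F, z₁ ^ 2 + a * z₁ * z₂ + b * z₂ ^ 2 = 0 → z₁ = 0 ∧ z₂ = 0) :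
    ¬ IsSquare (a * a - 4 * b) := by
  rintro ⟨s, hs⟩
  refine one_ne_zero (hab ((s - a) / 2) 1 ?_).2
  field_simp
  linear_combination -hs

/-- An element of order four fixing two vectors and commuting with their stabiliser. -/
theorem exists_square_root (h2 : (2 : F) ≠ 0) (hm : 3 ≤ m)
    (hab : ∀ z₁ z₂ : F, z₁ ^ 2 + a * z₁ * z₂ + b * z₂ ^ 2 = 0 → z₁ = 0 ∧ z₂ = 0)
    (hsq : IsSquare ((-1 : F) ^ m * (4 * b - a * a))) {n : ℕ} (hndef : n = m + 2)
    {w1 w2 : Fin n ⊕ Fin n → F} (hQ1 : QQ F n w1 = -b) (hQ2 : QQ F n w2 = b * (a * a - 4 * b))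
    (h12 : polar (QQ F n) w1 w2 = 0) :
    ∃ y ∈ (frameStab (QQ F n) ![w1, w2]).comap (spinProj F n), y * y ≠ 1 ∧
      ∀ s ∈ (frameStab (QQ F n) ![w1, w2]).comap (spinProj F n), Commute y s := by
  classical
  have hn : 4 ≤ n := by omega
  have hexc : n = 4 → Nat.card F ≠ 2 := fun h => by omega
  have H := spin_cov (F := F) hn hexc
  have hnd : (polarBilin (QQ F n)).Nondegenerate := nondegenerate_matQuad
    (by rw [det_plus_gram]; exact pow_ne_zero _ (neg_ne_zero.2 one_ne_zero))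
  have hdim : 7 ≤ Module.finrank F (Fin n ⊕ Fin n → F) := by simp [Fintype.card_sum]; omega
  have hb0 : b ≠ 0 := fun h => one_ne_zero (hab 0 1 (by rw [h]; ring)).2
  have hnsq := neg_disc_not_square h2 hab
  have hD0 : a * a - 4 * b ≠ 0 := fun h => hnsq (h ▸ IsSquare.zero)
  have hm1 : ¬ IsSquare (-1 : F) := fun h1 => by
    have h' := (h1.pow (m + 1)).mul hsq
    rw [show (-1 : F) ^ (m + 1) * ((-1 : F) ^ m * (4 * b - a * a)) =
      ((-1 : F) ^ m * (-1 : F) ^ m) * (a * a - 4 * b) by ring, ← mul_pow,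
      show (-1 : F) * -1 = 1 by ring, one_pow, one_mul] at h'
    exact hnsq h'
  have hD : IsSquare (4 * b - a * a) := by
    by_contra hD
    have := isSquare_mul_of_not hm1 hD
    rw [show (-1 : F) * (4 * b - a * a) = a * a - 4 * b by ring] at this
    exact hnsq this
  have heven : Even n := by
    rcases Nat.even_or_odd m with h | h
    · rw [hndef]; exact h.add (by decide)
    · exfalso
      rw [h.neg_one_pow, show (-1 : F) * (4 * b - a * a) = a * a - 4 * b by ring] at hsq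
      exact hnsq hsq
  obtain ⟨s, hs⟩ := hD
  have hs0 : s ≠ 0 := fun e => hD0 (by rw [e, mul_zero] at hs; linear_combination -hs)
  obtain ⟨p1, p2, hF, hneg2, hspan⟩ := exists_frame (Q := QQ F n) h2 (neg_ne_zero.2 hb0) (x := w1)
    (y := s⁻¹ • w2) hQ1
    (by rw [Geometry.map_smul', hQ2]; field_simp; linear_combination -hs)
    (by rw [polar_smul_right', h12, mul_zero])
  obtain ⟨t0, ht0, htN⟩ := SpinInvol.exists_neg2 hnd h2 hF
  obtain ⟨t, rfl⟩ := H.exists_pre ht0
  obtain ⟨t1, t2⟩ := hneg2 _ htN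
  have tw2 : ((spinProj F n t : orth (QQ F n)) : (Fin n ⊕ Fin n → F) ≃ₗ[F] (Fin n ⊕ Fin n → F)) w2 =
      -w2 := by
    rw [map_smul, ← smul_neg] at t2
    exact smul_right_injective _ (inv_ne_zero hs0) t2
  have ht2 : t * t ≠ 1 := SpinInvol.neg2_sq hn h2 hF htN
  obtain ⟨u, hu, huu⟩ := neg_even (F := F) hn hexc heven
  have huc : u ∈ Subgroup.center (SpinS F n) := H.center_of fun x => by
    refine Subtype.ext (LinearEquiv.ext fun v => ?_)
    show ((spinProj F n u : orth (QQ F n)) : (Fin n ⊕ Fin n → F) ≃ₗ[F] (Fin n ⊕ Fin n → F))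
      (((spinProj F n x : orth (QQ F n)) : (Fin n ⊕ Fin n → F) ≃ₗ[F] (Fin n ⊕ Fin n → F)) v) =
      ((spinProj F n x : orth (QQ F n)) : (Fin n ⊕ Fin n → F) ≃ₗ[F] (Fin n ⊕ Fin n → F))
        (((spinProj F n u : orth (QQ F n)) : (Fin n ⊕ Fin n → F) ≃ₗ[F] (Fin n ⊕ Fin n → F)) v)
    rw [hu, hu v, map_neg]
  refine ⟨u * t, ⟨H.range ▸ ⟨_, rfl⟩, fun i => ?_⟩, fun e => ht2 ?_, fun g hg => ?_⟩
  · rw [map_mul]
    fin_cases i
    · show ((spinProj F n u : orth (QQ F n)) : (Fin n ⊕ Fin n → F) ≃ₗ[F] (Fin n ⊕ Fin n → F))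
        (((spinProj F n t : orth (QQ F n)) : (Fin n ⊕ Fin n → F) ≃ₗ[F] (Fin n ⊕ Fin n → F)) w1) = w1
      rw [t1, map_neg, hu, neg_neg]
    · show ((spinProj F n u : orth (QQ F n)) : (Fin n ⊕ Fin n → F) ≃ₗ[F] (Fin n ⊕ Fin n → F))
        (((spinProj F n t : orth (QQ F n)) : (Fin n ⊕ Fin n → F) ≃ₗ[F] (Fin n ⊕ Fin n → F)) w2) = w2
      rw [tw2, map_neg, hu, neg_neg]
  · rwa [mul_assoc u, ← mul_assoc t,
      ← (show Commute u t from (Subgroup.mem_center_iff.1 huc t).symm).eq,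
      mul_assoc u t, ← mul_assoc u u, huu, one_mul] at e
  · refine Commute.mul_left (Subgroup.mem_center_iff.1 huc g).symm ?_
    refine SpinInvol.comm hnd h2 H.range H.cen hdim hF htN g ⟨hg.1, fun i => ?_⟩
    have e1 : ((spinProj F n g : orth (QQ F n)) : (Fin n ⊕ Fin n → F) ≃ₗ[F] (Fin n ⊕ Fin n → F)) w1 = w1 :=
      hg.2 0
    have e2 : ((spinProj F n g : orth (QQ F n)) : (Fin n ⊕ Fin n → F) ≃ₗ[F] (Fin n ⊕ Fin n → F))
        (s⁻¹ • w2) = s⁻¹ • w2 := by
      rw [map_smul, show ((spinProj F n g : orth (QQ F n)) : (Fin n ⊕ Fin n → F) ≃ₗ[F]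
        (Fin n ⊕ Fin n → F)) w2 = w2 from hg.2 1]
    obtain ⟨α, β, rfl, rfl⟩ := hspan
    fin_cases i
    · show ((spinProj F n g : orth (QQ F n)) : (Fin n ⊕ Fin n → F) ≃ₗ[F] (Fin n ⊕ Fin n → F))
        (α • w1 + β • (s⁻¹ • w2)) = α • w1 + β • (s⁻¹ • w2)
      rw [map_add, map_smul _ α, map_smul _ β, e1, e2]
    · show ((spinProj F n g : orth (QQ F n)) : (Fin n ⊕ Fin n → F) ≃ₗ[F] (Fin n ⊕ Fin n → F))
        (-β • w1 + α • (s⁻¹ • w2)) = -β • w1 + α • (s⁻¹ • w2)
      rw [map_add, map_smul _ (-β), map_smul _ α, e1, e2]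

/-- A cover with a kernel of order two. -/
theorem exists_cover (h2 : (2 : F) ≠ 0) (hm : 3 ≤ m)
    (hab : ∀ z₁ z₂ : F, z₁ ^ 2 + a * z₁ * z₂ + b * z₂ ^ 2 = 0 → z₁ = 0 ∧ z₂ = 0) :
    ∃ (Y : Type u) (_ : Group Y) (_ : Finite Y) (r : Y →* orth (QM F m a b)),
      r.range = commutator (orth (QM F m a b)) ∧ r.ker ≤ Subgroup.center Y ∧ commutator Y = ⊤ ∧
      Nat.card r.ker = 2 ∧
      (IsSquare ((-1 : F) ^ m * (4 * b - a * a)) → ∃ y ∈ Subgroup.center Y, y * y ≠ 1) := by
  classical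
  set n := m + 2 with hndef
  have hn : 4 ≤ n := by omega
  have hexc : n = 4 → Nat.card F ≠ 2 := fun h => by omega
  obtain ⟨z, hz, hall, hz2, hz1, hzG⟩ := spin_ker (F := F) hn hexc
  have H := spin_cov (F := F) hn hexc
  have hfin := Pres.DPlus.spin_finite (F := F) hn hexc
  have hnd : (polarBilin (QQ F n)).Nondegenerate := nondegenerate_matQuad
    (by rw [det_plus_gram]; exact pow_ne_zero _ (neg_ne_zero.2 one_ne_zero))
  have hdim : Module.finrank F (Fin n ⊕ Fin n → F) = 2 * m + 4 := by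
    simp [Fintype.card_sum]; omega
  have hb0 : b ≠ 0 := fun h => one_ne_zero (hab 0 1 (by rw [h]; ring)).2
  have hD0 : a * a - 4 * b ≠ 0 := fun h => neg_disc_not_square h2 hab (h ▸ IsSquare.zero)
  let L : Fin n := ⟨0, by omega⟩
  let L' : Fin n := ⟨1, by omega⟩
  let suc : Fin m → Fin n := fun i => ⟨i + 2, by omega⟩
  have hLL : L ≠ L' := by simp [L, L']
  set w1 : Fin n ⊕ Fin n → F := ee F (.inl L') - b • ee F (.inr L') with hw1
  set w2 : Fin n ⊕ Fin n → F := (2 * b) • ee F (.inl L) - (2 * b) • ee F (.inr L) +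
    a • ee F (.inl L') + (a * b) • ee F (.inr L') with hw2
  have hp1 : ∀ v, polar (QQ F n) v w1 = v (.inr L') - b * v (.inl L') := fun v => by
    rw [hw1, polar_sub_right, polar_smul_right', polar_ee, polar_ee]
    rfl
  have hp2 : ∀ v, polar (QQ F n) v w2 = 2 * b * v (.inr L) - 2 * b * v (.inl L) + a * v (.inr L') +
      a * b * v (.inl L') := fun v => by
    rw [hw2, polar_add_right, polar_add_right, polar_sub_right, polar_smul_right', polar_smul_right',
      polar_smul_right', polar_smul_right', polar_ee, polar_ee, polar_ee, polar_ee]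
    rfl
  have hself : ∀ v, 2 * QQ F n v = polar (QQ F n) v v := fun v => (polar_self' _ v).symm
  have h12 : polar (QQ F n) w1 w2 = 0 := by
    rw [hp2, hw1]; simp [ee, hLL]
  have hQ1 : QQ F n w1 = -b := by
    refine mul_left_cancel₀ h2 ?_
    rw [hself, hp1, hw1]; simp [ee]; ring
  have hQ2 : QQ F n w2 = b * (a * a - 4 * b) := by
    refine mul_left_cancel₀ h2 ?_
    rw [hself, hp2, hw2]; simp [ee, hLL, hLL.symm]; ring
  have hwne : ∀ i, QQ F n (![w1, w2] i) ≠ 0 := fun i => by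
    fin_cases i
    · show QQ F n w1 ≠ 0; rw [hQ1]; exact neg_ne_zero.2 hb0
    · show QQ F n w2 ≠ 0; rw [hQ2]; exact mul_ne_zero hb0 hD0
  have hwo : ∀ i j, i ≠ j → polar (QQ F n) (![w1, w2] i) (![w1, w2] j) = 0 := fun i j hij => by
    fin_cases i <;> fin_cases j <;> first
      | exact absurd rfl hij
      | exact h12
      | exact (polar_comm (QQ F n) _ _).trans h12
  set C := polarPerp (QQ F n) (Submodule.span F (Set.range ![w1, w2]))
  have hmem : ∀ v, v ∈ C → v (.inr L') = b * v (.inl L') ∧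
      v (.inr L) = v (.inl L) - a * v (.inl L') := fun v hv => by
    have k1 : polar (QQ F n) v w1 = 0 :=
      (polar_comm _ v w1).trans (mem_polarPerp.1 hv w1 (Submodule.subset_span ⟨0, rfl⟩))
    have k2 : polar (QQ F n) v w2 = 0 :=
      (polar_comm _ v w2).trans (mem_polarPerp.1 hv w2 (Submodule.subset_span ⟨1, rfl⟩))
    rw [hp1, sub_eq_zero] at k1
    rw [hp2, k1] at k2
    refine ⟨k1, mul_left_cancel₀ (mul_ne_zero h2 hb0) ?_⟩
    linear_combination k2
  let f : C →ₗ[F] (Idx m → F) :=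
    { toFun := fun v => Sum.elim (Sum.elim (fun i => v.1 (.inl (suc i))) fun i => v.1 (.inr (suc i)))
        ![v.1 (.inl L), -v.1 (.inl L')]
      map_add' := fun x y => by
        funext A
        rcases A with (_ | _) | i
        · rfl
        · rfl
        · fin_cases i <;> simp [add_comm]
      map_smul' := fun c x => by
        funext A
        rcases A with (_ | _) | i
        · rfl
        · rfl
        · fin_cases i <;> simp }
  have hinj : Function.Injective f := fun x y h => by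
    have h0 : x.1 (.inl L) = y.1 (.inl L) := congrFun h (.inr 0)
    have h1 : x.1 (.inl L') = y.1 (.inl L') := neg_injective (congrFun h (.inr 1))
    refine Subtype.ext (funext fun A => ?_)
    rcases A with ⟨i, hi⟩ | ⟨i, hi⟩ <;>
      obtain rfl | rfl | ⟨j, rfl⟩ : i = 0 ∨ i = 1 ∨ ∃ j, i = j + 2 :=
        (by rcases i with _ | _ | j <;> simp)
    · exact h0
    · exact h1
    · exact congrFun h (.inl (.inl ⟨j, by omega⟩))
    · show x.1 (.inr L) = y.1 (.inr L)
      rw [(hmem _ x.2).2, (hmem _ y.2).2, h0, h1]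
    · show x.1 (.inr L') = y.1 (.inr L')
      rw [(hmem _ x.2).1, (hmem _ y.2).1, h1]
    · exact congrFun h (.inl (.inr ⟨j, by omega⟩))
  have hdimC : Module.finrank F C = Module.finrank F (Idx m → F) := by
    have h : Module.finrank F C + Module.finrank F (Submodule.span F (Set.range ![w1, w2])) =
        Module.finrank F (Fin n ⊕ Fin n → F) := finrank_polarPerp hnd _
    rw [(orth_family (Q := QQ F n) h2 ![w1, w2] hwne hwo).2.1, hdim] at h
    rw [finrank_QM]
    omega
  let e := f.linearEquivOfInjective hinj hdimC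
  have he : ∀ v, QM F m a b (e v) = QQ F n (v : Fin n ⊕ Fin n → F) := fun v => by
    rw [LinearMap.linearEquivOfInjective_apply, QM_apply, Pres.DPlus.QQ_apply]
    obtain ⟨k1, k2⟩ := hmem _ v.2
    show (∑ i : Fin m, v.1 (.inl (suc i)) * v.1 (.inr (suc i))) +
      (v.1 (.inl L) ^ 2 + a * v.1 (.inl L) * -v.1 (.inl L') + b * (-v.1 (.inl L')) ^ 2) =
      ∑ i : Fin (m + 2), v.1 (.inl i) * v.1 (.inr i)
    rw [Fin.sum_univ_succ, Fin.sum_univ_succ]
    show _ = v.1 (.inl L) * v.1 (.inr L) + (v.1 (.inl L') * v.1 (.inr L') +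
      ∑ i : Fin m, v.1 (.inl (suc i)) * v.1 (.inr (suc i)))
    rw [k1, k2]
    ring
  set S := (frameStab (QQ F n) ![w1, w2]).comap (spinProj F n)
  have hk5 : 2 + 5 ≤ Module.finrank F (Fin n ⊕ Fin n → F) := by rw [hdim]; omega
  obtain ⟨r, hr, hrc, hrp, hrk⟩ := OrthCover.stab_cover hnd h2 H.range H.cen ![w1, w2] hwne hwo hk5 e he
  -- the kernel
  let pp : Fin n := ⟨n - 1, by omega⟩
  let r' : Fin n := ⟨n - 2, by omega⟩
  let o : Fin n := ⟨n - 3, by omega⟩
  have hop : o ≠ pp := by simp only [o, pp, ne_eq, Fin.ext_iff]; omega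
  have hor : o ≠ r' := by simp only [o, r', ne_eq, Fin.ext_iff]; omega
  have hpr : pp ≠ r' := by simp only [pp, r', ne_eq, Fin.ext_iff]; omega
  obtain ⟨g0, hg0, MG⟩ := flip_mem_omega (F := F) hn hor.symm
  obtain ⟨G, rfl⟩ := H.exists_pre hg0
  have hfix : ∀ {y : SpinS F n} {g : Equiv.Perm (Fin n ⊕ Fin n)} {c : Fin n ⊕ Fin n → F},
      Act (spinProj F n y) g c →
      (∀ A, Pres.DPlus.ix A = L ∨ Pres.DPlus.ix A = L' → g A = A ∧ c A = 1) → y ∈ S := by
    intro y g c hy hg
    refine ⟨H.range ▸ ⟨y, rfl⟩, fun i => ?_⟩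
    obtain ⟨g1, c1⟩ := hg (.inl L) (Or.inl rfl)
    obtain ⟨g2, c2⟩ := hg (.inr L) (Or.inl rfl)
    obtain ⟨g3, c3⟩ := hg (.inl L') (Or.inr rfl)
    obtain ⟨g4, c4⟩ := hg (.inr L') (Or.inr rfl)
    fin_cases i
    · show ((spinProj F n y : orth (QQ F n)) : (Fin n ⊕ Fin n → F) ≃ₗ[F] (Fin n ⊕ Fin n → F)) w1 = w1
      simp [hw1, map_sub, map_smul, hy.apply_ee, g3, g4, c3, c4]
    · show ((spinProj F n y : orth (QQ F n)) : (Fin n ⊕ Fin n → F) ≃ₗ[F] (Fin n ⊕ Fin n → F)) w2 = w2
      simp [hw2, map_sub, map_add, map_smul, hy.apply_ee, g1, g2, g3, g4, c1, c2, c3, c4]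
  have hne : ∀ A : Fin n ⊕ Fin n, Pres.DPlus.ix A = L ∨ Pres.DPlus.ix A = L' →
      Pres.DPlus.ix A ≠ pp ∧ Pres.DPlus.ix A ≠ r' ∧ Pres.DPlus.ix A ≠ o := fun A hA => by
    rcases hA with e | e <;> rw [e] <;> simp only [L, L', pp, r', o, ne_eq, Fin.ext_iff] <;> omega
  have hGS : G ∈ S := hfix MG fun A hA => ⟨flp_out (hne A hA).2.1 (hne A hA).2.2, rfl⟩
  set d := H.φ (Pres.AltMono.dg (-1 : Fˣ) pp r')
  have hdS : d ∈ S := by
    refine hfix (g := Pres.DPlus.sf 1) (c := Pres.DPlus.sc (Pres.AltMono.χ (-1 : Fˣ) pp r'))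
      (by rw [H.p_φ]; exact Pres.DPlus.act_ρ (Pres.DPlus.isMono_dg _ _ _)) fun A hA => ?_
    obtain ⟨k1, k2, -⟩ := hne A hA
    rw [Pres.DPlus.sf_one]
    refine ⟨rfl, ?_⟩
    rcases A with i | i <;>
      simp [Pres.AltMono.χ, show i ≠ pp from k1, show i ≠ r' from k2]
  have hzD : z ∈ ⁅S, S⁆ := by
    rw [hzG o pp r' hop hor hpr rfl rfl G MG, ← commutatorElement_def]
    exact Subgroup.commutator_mem_commutator hGS hdS
  have hz0 : z ≠ 1 := fun h => h2 (hz1.2 h)
  refine ⟨↥⁅S, S⁆, inferInstance, inferInstance, r, hr, hrc, hrp, ?_, fun hsq => ?_⟩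
  · refine Nat.card_eq_two_iff.2 ⟨1, ⟨⟨z, hzD⟩, (hrk _).2 hz⟩, fun h => hz0 ?_,
      Set.eq_univ_of_forall fun x => ?_⟩
    · exact (congrArg (fun y : r.ker => (y.1.1 : SpinS F n)) h).symm
    · rcases hall x.1.1 ((hrk _).1 x.2) with h | h
      · exact Or.inl (Subtype.ext (Subtype.ext h))
      · exact Or.inr (Subtype.ext (Subtype.ext h))
  · obtain ⟨y, hyS, hy2, hycomm⟩ := exists_square_root (F := F) h2 (m := m) hm hab hsq hndef hQ1 hQ2 h12
    have hyD : y ∈ ⁅S, S⁆ := by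
      have h := OrthCover.pre_frame_le H.range hnd h2 _ hwne hwo hk5 hyS
      have : (spinProj F n).ker.Normal := MonoidHom.normal_ker _
      rw [← SetLike.mem_coe, Subgroup.normal_mul] at h
      obtain ⟨k, hk, d, hd, hkd⟩ := Set.mem_mul.1 h
      rw [← hkd]
      refine mul_mem ?_ hd
      rcases hall k hk with rfl | rfl
      · exact one_mem _
      · exact hzD
    exact ⟨⟨y, hyD⟩, Subgroup.mem_center_iff.2 fun g =>
      Subtype.ext (hycomm _ (Subgroup.commutator_le_self S g.2)).symm.eq,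
      fun e => hy2 (congrArg Subtype.val e)⟩

/-- The multiplier. -/
theorem multiplier_minus (hm : 3 ≤ m) (h2 : (2 : F) ≠ 0)
    (hab : ∀ z₁ z₂ : F, z₁ ^ 2 + a * z₁ * z₂ + b * z₂ ^ 2 = 0 → z₁ = 0 ∧ z₂ = 0) :
    Cfsg.HasCyclicSchurMultiplier (Cfsg.POmega F (Cfsg.quadFormMinus m F a b))
      (Nat.gcd 4 (Fintype.card F ^ (m + 1) + 1)) := by
  classical
  rw [show Cfsg.quadFormMinus m F a b = ⇑(QM F m a b) from (coe_matQuad_minus m a b).symm]
  have hQ := nondeg_QM (m := m) h2 hab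
  have hn : Module.finrank F (Idx m → F) = 2 * m + 2 := finrank_QM m
  obtain ⟨Y, _, _, r, hr, hrc, hrp, hcard, hy⟩ := exists_cover (F := F) h2 hm hab
  have hsplit : Steinberg.Splits Y := by
    refine BoundedSplits.splits r hrc hrp hcard fun P _ _ p hp hpc hpp => ?_
    exact MinusBound.ker_bound_minus hm h2 hab (hp.trans hr) hpc hpp
  let r1 : Y →* commutator (orth (QM F m a b)) := r.codRestrict _ fun y => hr ▸ ⟨y, rfl⟩
  have hr1 : Function.Surjective r1 := fun g => by
    obtain ⟨y, hy⟩ := hr.ge g.2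
    exact ⟨y, Subtype.ext hy⟩
  let σ : Y →* Cfsg.POmega F ⇑(QM F m a b) :=
    (pOmegaEquiv (QM F m a b)).symm.toMonoidHom.comp ((QuotientGroup.mk' _).comp r1)
  have hσ : Function.Surjective σ :=
    (pOmegaEquiv (QM F m a b)).symm.surjective.comp ((QuotientGroup.mk'_surjective _).comp hr1)
  have hker : ∀ y, y ∈ σ.ker ↔ r1 y ∈ Subgroup.center (commutator (orth (QM F m a b))) := fun y => by
    rw [MonoidHom.mem_ker, MonoidHom.comp_apply, MulEquiv.coe_toMonoidHom, map_eq_one_iff _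
      (MulEquiv.injective _), MonoidHom.comp_apply, QuotientGroup.mk'_apply, QuotientGroup.eq_one_iff]
  have hcen : σ.ker ≤ Subgroup.center Y := fun y hy' =>
    BoundedSplits.mem_center_of r1 (fun x hx => hrc (congrArg Subtype.val hx)) hrp fun g =>
      ((Subgroup.mem_center_iff.1 ((hker y).1 hy')) (r1 g)).symm
  let f : σ.ker →* Subgroup.center (commutator (orth (QM F m a b))) :=
    (r1.comp σ.ker.subtype).codRestrict _ fun y => (hker y).1 y.2
  have hf : Function.Surjective f := fun g => by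
    obtain ⟨y, hy'⟩ := hr1 g.1
    exact ⟨⟨y, (hker y).2 (by rw [hy']; exact g.2)⟩, Subtype.ext hy'⟩
  have hfk : Nat.card f.ker = 2 := by
    refine Eq.trans ?_ hcard
    refine Nat.card_congr
      { toFun := fun y => ⟨y.1.1, by
          have e : f y.1 = 1 := y.2
          exact congrArg (fun g : Subgroup.center (commutator (orth (QM F m a b))) =>
            ((g : commutator (orth (QM F m a b))) : orth (QM F m a b))) e⟩
        invFun := fun y => ⟨⟨y.1, (hker _).2 (by
          rw [show r1 y.1 = 1 from Subtype.ext y.2]; exact one_mem _)⟩, Subtype.ext (Subtype.ext y.2)⟩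
        left_inv := fun y => rfl
        right_inv := fun y => rfl }
  have hk : Nat.card σ.ker =
      Nat.card (Subgroup.center (commutator (orth (QM F m a b)))) * 2 := by
    have h := Subgroup.card_eq_card_quotient_mul_card_subgroup f.ker
    rw [hfk, Nat.card_congr (QuotientGroup.quotientKerEquivOfSurjective f hf).toEquiv] at h
    exact h
  rw [card_center_omega hQ (by omega)] at hk
  have hdet : (minusMat m F a b + (minusMat m F a b)ᵀ).det = (-1) ^ m * (4 * b - a * a) :=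
    det_minus_gram m a b
  have hd0 : (minusMat m F a b + (minusMat m F a b)ᵀ).det ≠ 0 := by
    rw [hdet]
    refine mul_ne_zero (pow_ne_zero _ (neg_ne_zero.2 one_ne_zero)) fun e => ?_
    exact neg_disc_not_square h2 hab ⟨0, by linear_combination -e⟩
  have hiff := exists_neg_iff (M := minusMat m F a b) h2
    (by simp [Fintype.card_sum]; exact ⟨m + 1, by omega⟩)
    (by simp [Fintype.card_sum]) hd0
  rw [hdet] at hiff
  have hodd : Odd (Fintype.card F) := Nat.odd_iff.2 (FiniteField.odd_card_of_char_ne_two fun h => by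
    have : CharP F 2 := h ▸ ringChar.charP F
    exact h2 CharTwo.two_eq_zero)
  have hsqiff : IsSquare ((-1 : F) ^ m * (4 * b - a * a)) ↔
      Fintype.card F ^ (m + 1) % 4 = 3 := by
    have hns := neg_disc_not_square h2 hab
    have e : (-1 : F) ^ m * (4 * b - a * a) = (-1 : F) ^ (m + 1) * (a * a - 4 * b) := by ring
    have h4 : Fintype.card F ^ (m + 1) % 4 = 1 ∨ Fintype.card F ^ (m + 1) % 4 = 3 := by
      have := Nat.odd_iff.1 (hodd.pow (n := m + 1))
      omega
    rw [e]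
    constructor
    · intro h
      refine h4.resolve_left fun h1 => hns ?_
      obtain ⟨i, hi⟩ := (isSquare_neg_one_pow_iff rfl hodd (m + 1)).2 h1
      obtain ⟨s, hs⟩ := h
      have hi0 : i ≠ 0 := fun e0 => pow_ne_zero (m + 1) (neg_ne_zero.2 (one_ne_zero (α := F)))
        (by rw [hi, e0, mul_zero])
      refine ⟨s / i, ?_⟩
      field_simp
      linear_combination hs - (a * a - 4 * b) * hi
    · intro h
      refine isSquare_mul_of_not (fun h1 => ?_) hns
      have := (isSquare_neg_one_pow_iff rfl hodd (m + 1)).1 h1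
      omega
  have hgcd : Nat.gcd 4 (Fintype.card F ^ (m + 1) + 1) =
      if Fintype.card F ^ (m + 1) % 4 = 3 then 4 else 2 := by
    have := Nat.odd_iff.1 (hodd.pow (n := m + 1))
    rw [Nat.gcd_rec 4]
    split_ifs with h
    · rw [show (Fintype.card F ^ (m + 1) + 1) % 4 = 0 by omega]; rfl
    · rw [show (Fintype.card F ^ (m + 1) + 1) % 4 = 2 by omega]; rfl
  rw [hgcd]
  by_cases hs : IsSquare ((-1 : F) ^ m * (4 * b - a * a))
  · rw [if_pos (hsqiff.1 hs)]
    rw [if_pos ⟨h2, hiff.2 hs⟩] at hk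
    obtain ⟨y, hyc, hyy⟩ := hy hs
    have hyσ : y ∈ σ.ker := (hker y).2 (Subgroup.mem_center_iff.2 fun g => by
      obtain ⟨x, rfl⟩ := hr1 g
      rw [← map_mul, ← map_mul, Subgroup.mem_center_iff.1 hyc x])
    have hord : orderOf (⟨y, hyσ⟩ : σ.ker) = 4 := by
      have hd : orderOf (⟨y, hyσ⟩ : σ.ker) ∣ 2 ^ 2 := by
        rw [show (2 : ℕ) ^ 2 = Nat.card σ.ker by omega]
        exact orderOf_dvd_natCard _
      obtain ⟨k, hk2, hk'⟩ := (Nat.dvd_prime_pow Nat.prime_two).1 hd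
      rcases (show k ≤ 1 ∨ k = 2 by omega) with h | rfl
      · exfalso
        refine hyy ?_
        have h' : (⟨y, hyσ⟩ : σ.ker) ^ 2 = 1 := by
          rw [← orderOf_dvd_iff_pow_eq_one, hk']
          exact pow_dvd_pow (m := k) (n := 1) 2 h
        rw [pow_two] at h'
        exact congrArg Subtype.val h'
      · exact hk'
    have : IsCyclic σ.ker := isCyclic_of_orderOf_eq_card ⟨y, hyσ⟩ (by omega)
    exact Steinberg.hasMultiplier hsplit hrp σ hσ hcen
      (mulEquivOfCyclicCardEq (by rw [hk, Nat.card_congr Multiplicative.toAdd, Nat.card_zmod]))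
  · rw [if_neg (fun h => hs (hsqiff.2 h))]
    rw [if_neg (fun h => hs (hiff.1 h.2))] at hk
    obtain ⟨e⟩ := Pres.DPlus.equiv_prime (Or.inr Nat.prime_two) (show Nat.card σ.ker = 2 by omega)
    exact Steinberg.hasMultiplier hsplit hrp σ hσ hcen e

end CfsgLib.Schur.MinusMultiplier
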