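import Mathlib
import Cfsg.Agent.Lib.Schur.Basic

/-!
The Schur multiplier of a direct product.
-/

set_option autoImplicit false

namespace CfsgLib.Schur

open Cfsg Subgroup TensorProduct
open scoped commutatorElement

universe u v w x

section Construction

variable {Γ₁ : Type u} {Γ₂ : Type v} [Group Γ₁] [Group Γ₂] {Q₁ : Type u} {Q₂ : Type v} [Group Q₁]
  [Group Q₂] (σ₁ : Γ₁ →* Q₁) (σ₂ : Γ₂ →* Q₂)

/-- The tensor product of the commutator quotients. -/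
abbrev AbTensor (Q₁ : Type u) (Q₂ : Type v) [Group Q₁] [Group Q₂] : Type (max u v) :=
  TensorProduct ℤ (Additive (Abelianization Q₁)) (Additive (Abelianization Q₂))

/-- The image in the additive commutator quotient. -/
def abOf {Q : Type w} [Group Q] (q : Q) : Additive (Abelianization Q) :=
  Additive.ofMul (Abelianization.of q)

@[simp] theorem abOf_one {Q : Type w} [Group Q] : abOf (1 : Q) = 0 := by simp [abOf]

theorem abOf_mul {Q : Type w} [Group Q] (a b : Q) : abOf (a * b) = abOf a + abOf b := by simp [abOf]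

theorem abOf_inv {Q : Type w} [Group Q] (a : Q) : abOf a⁻¹ = -abOf a := by simp [abOf]

/-- The extension `Γ₁ × Γ₂ × (Q₁ᵃᵇ ⊗ Q₂ᵃᵇ)` with cocycle `(g,h) ↦ ḡ₁ ⊗ h̄₂`. -/
@[ext] structure ProdExt (σ₁ : Γ₁ →* Q₁) (σ₂ : Γ₂ →* Q₂) : Type (max u v) where
  fst : Γ₁
  snd : Γ₂
  val : AbTensor Q₁ Q₂

instance : Mul (ProdExt σ₁ σ₂) :=
  ⟨fun a b => ⟨a.fst * b.fst, a.snd * b.snd, a.val + b.val + abOf (σ₁ a.fst) ⊗ₜ abOf (σ₂ b.snd)⟩⟩

instance : One (ProdExt σ₁ σ₂) := ⟨⟨1, 1, 0⟩⟩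

instance : Inv (ProdExt σ₁ σ₂) :=
  ⟨fun a => ⟨a.fst⁻¹, a.snd⁻¹, -a.val + abOf (σ₁ a.fst) ⊗ₜ abOf (σ₂ a.snd)⟩⟩

@[simp] theorem ProdExt.mul_fst (a b : ProdExt σ₁ σ₂) : (a * b).fst = a.fst * b.fst := rfl
@[simp] theorem ProdExt.mul_snd (a b : ProdExt σ₁ σ₂) : (a * b).snd = a.snd * b.snd := rfl
@[simp] theorem ProdExt.mul_val (a b : ProdExt σ₁ σ₂) :
    (a * b).val = a.val + b.val + abOf (σ₁ a.fst) ⊗ₜ abOf (σ₂ b.snd) := rfl
@[simp] theorem ProdExt.one_fst : (1 : ProdExt σ₁ σ₂).fst = 1 := rfl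
@[simp] theorem ProdExt.one_snd : (1 : ProdExt σ₁ σ₂).snd = 1 := rfl
@[simp] theorem ProdExt.one_val : (1 : ProdExt σ₁ σ₂).val = 0 := rfl
@[simp] theorem ProdExt.inv_fst (a : ProdExt σ₁ σ₂) : a⁻¹.fst = a.fst⁻¹ := rfl
@[simp] theorem ProdExt.inv_snd (a : ProdExt σ₁ σ₂) : a⁻¹.snd = a.snd⁻¹ := rfl
@[simp] theorem ProdExt.inv_val (a : ProdExt σ₁ σ₂) :
    a⁻¹.val = -a.val + abOf (σ₁ a.fst) ⊗ₜ abOf (σ₂ a.snd) := rfl

instance : Group (ProdExt σ₁ σ₂) where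
  mul_assoc a b c := by
    ext
    · simp [mul_assoc]
    · simp [mul_assoc]
    · simp only [ProdExt.mul_val, ProdExt.mul_fst, ProdExt.mul_snd, map_mul, abOf_mul, add_tmul,
        tmul_add]
      abel
  one_mul a := by ext <;> simp
  mul_one a := by ext <;> simp
  inv_mul_cancel a := by
    ext
    · simp
    · simp
    · simp only [ProdExt.mul_val, ProdExt.inv_val, ProdExt.inv_fst, map_inv, abOf_inv, neg_tmul,
        ProdExt.one_val]
      abel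

/-- The projection onto `Q₁ × Q₂`. -/
def ProdExt.proj : ProdExt σ₁ σ₂ →* Q₁ × Q₂ where
  toFun a := (σ₁ a.fst, σ₂ a.snd)
  map_one' := by simp
  map_mul' a b := by simp

/-- The embedding of the first factor. -/
def ProdExt.inl : Γ₁ →* ProdExt σ₁ σ₂ where
  toFun g := ⟨g, 1, 0⟩
  map_one' := rfl
  map_mul' a b := by ext <;> simp

/-- The embedding of the second factor. -/
def ProdExt.inr : Γ₂ →* ProdExt σ₁ σ₂ where
  toFun g := ⟨1, g, 0⟩
  map_one' := rfl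
  map_mul' a b := by ext <;> simp

theorem ProdExt.mem_ker {a : ProdExt σ₁ σ₂} :
    a ∈ (ProdExt.proj σ₁ σ₂).ker ↔ σ₁ a.fst = 1 ∧ σ₂ a.snd = 1 := by
  rw [MonoidHom.mem_ker]
  exact Prod.ext_iff

theorem ProdExt.isStemExtension (h₁ : IsStemExtension σ₁) (h₂ : IsStemExtension σ₂) :
    IsStemExtension (ProdExt.proj σ₁ σ₂) := by
  refine ⟨fun q => ?_, ?_, ?_⟩
  · obtain ⟨a, ha⟩ := h₁.1 q.1
    obtain ⟨b, hb⟩ := h₂.1 q.2
    exact ⟨⟨a, b, 0⟩, Prod.ext ha hb⟩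
  · intro a ha
    obtain ⟨ha1, ha2⟩ := (ProdExt.mem_ker σ₁ σ₂).1 ha
    rw [mem_center_iff]
    intro b
    ext
    · exact mem_center_iff.1 (h₁.2.1 ha1) _
    · exact mem_center_iff.1 (h₂.2.1 ha2) _
    · simp only [ProdExt.mul_val, ha1, ha2, abOf_one, zero_tmul, tmul_zero]
      abel
  · intro a ha
    obtain ⟨ha1, ha2⟩ := (ProdExt.mem_ker σ₁ σ₂).1 ha
    have hin : ∀ t, (⟨1, 1, t⟩ : ProdExt σ₁ σ₂) ∈ commutator (ProdExt σ₁ σ₂) := by
      intro t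
      induction t using TensorProduct.induction_on with
      | zero => exact one_mem _
      | tmul p q =>
        obtain ⟨g₀, hg₀⟩ := QuotientGroup.mk_surjective (Additive.toMul p)
        obtain ⟨g, hg⟩ := h₁.1 g₀
        obtain ⟨h₀, hh₀⟩ := QuotientGroup.mk_surjective (Additive.toMul q)
        obtain ⟨h, hh⟩ := h₂.1 h₀
        have hp : abOf (σ₁ g) = p := by rw [hg]; exact congrArg Additive.ofMul hg₀
        have hq : abOf (σ₂ h) = q := by rw [hh]; exact congrArg Additive.ofMul hh₀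
        have hgh : (⟨1, 1, p ⊗ₜ q⟩ : ProdExt σ₁ σ₂) =
            ⁅ProdExt.inl σ₁ σ₂ g, ProdExt.inr σ₁ σ₂ h⁆ := by
          rw [commutatorElement_def]
          ext
          · simp [ProdExt.inl, ProdExt.inr]
          · simp [ProdExt.inl, ProdExt.inr]
          · simp [ProdExt.inl, ProdExt.inr, abOf_mul, abOf_inv, hp, hq]
        rw [hgh, _root_.commutator_def]
        exact commutator_mem_commutator (mem_top _) (mem_top _)
      | add p q hp hq =>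
        convert mul_mem hp hq using 1
        ext <;> simp
    have hsplit : a = ProdExt.inl σ₁ σ₂ a.fst * ProdExt.inr σ₁ σ₂ a.snd * ⟨1, 1, a.val⟩ := by
      ext <;> simp [ProdExt.inl, ProdExt.inr, ha1]
    rw [hsplit]
    refine mul_mem (mul_mem ?_ ?_) (hin _)
    · have := mem_map_of_mem (ProdExt.inl σ₁ σ₂) (h₁.2.2 ha1)
      rw [_root_.commutator_def, map_commutator] at this
      exact commutator_mono le_top le_top this
    · have := mem_map_of_mem (ProdExt.inr σ₁ σ₂) (h₂.2.2 ha2)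
      rw [_root_.commutator_def, map_commutator] at this
      exact commutator_mono le_top le_top this

/-- The kernel of the product extension. -/
def ProdExt.kerEquiv :
    (ProdExt.proj σ₁ σ₂).ker ≃* σ₁.ker × σ₂.ker × Multiplicative (AbTensor Q₁ Q₂) where
  toFun a := (⟨a.1.fst, ((ProdExt.mem_ker σ₁ σ₂).1 a.2).1⟩,
    ⟨a.1.snd, ((ProdExt.mem_ker σ₁ σ₂).1 a.2).2⟩, Multiplicative.ofAdd a.1.val)
  invFun t := ⟨⟨t.1, t.2.1, Multiplicative.toAdd t.2.2⟩, (ProdExt.mem_ker σ₁ σ₂).2 ⟨t.1.2, t.2.1.2⟩⟩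
  left_inv _ := rfl
  right_inv _ := rfl
  map_mul' a b := by
    have h1 : σ₁ a.1.fst = 1 := ((ProdExt.mem_ker σ₁ σ₂).1 a.2).1
    refine Prod.ext rfl (Prod.ext rfl ?_)
    show Multiplicative.ofAdd (a.1 * b.1).val = Multiplicative.ofAdd (a.1.val + b.1.val)
    rw [ProdExt.mul_val, h1, abOf_one, zero_tmul, add_zero]

end Construction

section Upper

variable {Q₁ : Type u} {Q₂ : Type v} [Group Q₁] [Group Q₂] {Δ : Type x} [Group Δ]

/-- Every stem extension of a product has kernel an image of `M(Q₁) × M(Q₂) × (Q₁ᵃᵇ ⊗ Q₂ᵃᵇ)`. -/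
theorem exists_surjective_of_stem_prod (τ : Δ →* Q₁ × Q₂) (hs : IsStemExtension τ) :
    ∃ π : Mult Q₁ × Mult Q₂ × Multiplicative (AbTensor Q₁ Q₂) →* τ.ker, Function.Surjective π := by
  classical
  letI : CommGroup τ.ker :=
    { (inferInstance : Group τ.ker) with
      mul_comm := fun a b => Subtype.ext (mem_center_iff.1 (hs.2.1 b.2) a) }
  let Δ₁ : Subgroup Δ := ((MonoidHom.snd Q₁ Q₂).comp τ).ker
  let Δ₂ : Subgroup Δ := ((MonoidHom.fst Q₁ Q₂).comp τ).ker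
  let ξ₁ : Δ₁ →* Q₁ := ((MonoidHom.fst Q₁ Q₂).comp τ).comp Δ₁.subtype
  let ξ₂ : Δ₂ →* Q₂ := ((MonoidHom.snd Q₁ Q₂).comp τ).comp Δ₂.subtype
  have hmem₁ : ∀ d : Δ, d ∈ Δ₁ ↔ (τ d).2 = 1 := fun _ => Iff.rfl
  have hmem₂ : ∀ d : Δ, d ∈ Δ₂ ↔ (τ d).1 = 1 := fun _ => Iff.rfl
  have hξ₁ : Function.Surjective ξ₁ := fun q => by
    obtain ⟨d, hd⟩ := hs.1 (q, 1)
    exact ⟨⟨d, (hmem₁ d).2 (by rw [hd])⟩, show (τ d).1 = q by rw [hd]⟩
  have hξ₂ : Function.Surjective ξ₂ := fun q => by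
    obtain ⟨d, hd⟩ := hs.1 (1, q)
    exact ⟨⟨d, (hmem₂ d).2 (by rw [hd])⟩, show (τ d).2 = q by rw [hd]⟩
  have hcom : ∀ (a : Δ₁) (b : Δ₂), ⁅(a : Δ), (b : Δ)⁆ ∈ τ.ker := fun a b => by
    rw [MonoidHom.mem_ker, map_commutatorElement, commutatorElement_eq_one_iff_mul_comm]
    exact Prod.ext (by simp [(hmem₂ _).1 b.2]) (by simp [(hmem₁ _).1 a.2])
  let c : Δ₁ → Δ₂ → τ.ker := fun a b => ⟨⁅(a : Δ), (b : Δ)⁆, hcom a b⟩
  have hcl : ∀ a a' b, c (a * a') b = c a b * c a' b := fun a a' b => by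
    refine Subtype.ext ?_
    show ⁅(a : Δ) * (a' : Δ), (b : Δ)⁆ = ⁅(a : Δ), (b : Δ)⁆ * ⁅(a' : Δ), (b : Δ)⁆
    have hz : ∀ y : Δ, y * ⁅(a' : Δ), (b : Δ)⁆ = ⁅(a' : Δ), (b : Δ)⁆ * y :=
      mem_center_iff.1 (hs.2.1 (hcom a' b))
    calc ⁅(a : Δ) * (a' : Δ), (b : Δ)⁆
        = (a : Δ) * ⁅(a' : Δ), (b : Δ)⁆ * ((b : Δ) * (a : Δ)⁻¹ * (b : Δ)⁻¹) := by
          simp only [commutatorElement_def]; group
      _ = ⁅(a' : Δ), (b : Δ)⁆ * ((a : Δ) * ((b : Δ) * (a : Δ)⁻¹ * (b : Δ)⁻¹)) := by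
          rw [hz, mul_assoc]
      _ = ⁅(a' : Δ), (b : Δ)⁆ * ⁅(a : Δ), (b : Δ)⁆ := by
          simp only [commutatorElement_def]; group
      _ = _ := (hz _).symm
  have hcr : ∀ a b b', c a (b * b') = c a b * c a b' := fun a b b' => by
    refine Subtype.ext ?_
    show ⁅(a : Δ), (b : Δ) * (b' : Δ)⁆ = ⁅(a : Δ), (b : Δ)⁆ * ⁅(a : Δ), (b' : Δ)⁆
    have hz : ∀ y : Δ, y * ⁅(a : Δ), (b' : Δ)⁆ = ⁅(a : Δ), (b' : Δ)⁆ * y :=
      mem_center_iff.1 (hs.2.1 (hcom a b'))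
    calc ⁅(a : Δ), (b : Δ) * (b' : Δ)⁆
        = ⁅(a : Δ), (b : Δ)⁆ * ((b : Δ) * ⁅(a : Δ), (b' : Δ)⁆) * (b : Δ)⁻¹ := by
          simp only [commutatorElement_def]; group
      _ = ⁅(a : Δ), (b : Δ)⁆ * (⁅(a : Δ), (b' : Δ)⁆ * (b : Δ)) * (b : Δ)⁻¹ := by rw [hz]
      _ = _ := by group
  -- `c` only depends on the images in the commutator quotients
  let cR : Δ₁ → (Δ₂ →* τ.ker) := fun a => MonoidHom.mk' (c a) (hcr a)
  let cL : Δ₁ →* (Δ₂ →* τ.ker) := MonoidHom.mk' cR fun a a' => MonoidHom.ext fun b => hcl a a' b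
  have hk₁ : ξ₁.ker ≤ cL.ker := fun a ha => MonoidHom.ext fun b => Subtype.ext (by
    have : (a : Δ) ∈ center Δ := hs.2.1 (Prod.ext ha ((hmem₁ _).1 a.2))
    show ⁅(a : Δ), (b : Δ)⁆ = 1
    exact commutatorElement_eq_one_iff_mul_comm.2 (mem_center_iff.1 this _).symm)
  let d₁ : Q₁ →* (Δ₂ →* τ.ker) := ξ₁.liftOfSurjective hξ₁ ⟨cL, hk₁⟩
  let e₁ : Abelianization Q₁ →* (Δ₂ →* τ.ker) := Abelianization.lift d₁
  have hk₂ : ∀ p, ξ₂.ker ≤ (e₁ p).ker := by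
    intro p b hb
    obtain ⟨q, rfl⟩ := QuotientGroup.mk_surjective p
    obtain ⟨a, rfl⟩ := hξ₁ q
    show e₁ (Abelianization.of (ξ₁ a)) b = 1
    rw [Abelianization.lift_apply_of, MonoidHom.liftOfRightInverse_comp_apply]
    have : (b : Δ) ∈ center Δ := hs.2.1 (Prod.ext ((hmem₂ _).1 b.2) hb)
    exact Subtype.ext (commutatorElement_eq_one_iff_mul_comm.2 (mem_center_iff.1 this _))
  let f : Abelianization Q₁ → (Abelianization Q₂ →* τ.ker) := fun p =>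
    Abelianization.lift (ξ₂.liftOfSurjective hξ₂ ⟨e₁ p, hk₂ p⟩)
  have hf : ∀ p b, f p (Abelianization.of (ξ₂ b)) = e₁ p b := fun p b => by
    simp only [f]
    rw [Abelianization.lift_apply_of, MonoidHom.liftOfRightInverse_comp_apply]
  let F : Additive (Abelianization Q₁) →+ Additive (Abelianization Q₂) →+ Additive τ.ker :=
    AddMonoidHom.mk' (fun p => MonoidHom.toAdditive (f (Additive.toMul p))) (fun p p' => by
      refine AddMonoidHom.ext fun y => congrArg Additive.ofMul ?_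
      obtain ⟨q, hq⟩ := QuotientGroup.mk_surjective (Additive.toMul y)
      obtain ⟨b, rfl⟩ := hξ₂ q
      obtain rfl : y = abOf (ξ₂ b) := congrArg Additive.ofMul hq.symm
      show f (Additive.toMul p * Additive.toMul p') (Abelianization.of (ξ₂ b)) =
        f (Additive.toMul p) (Abelianization.of (ξ₂ b)) * f (Additive.toMul p') (Abelianization.of (ξ₂ b))
      rw [hf, map_mul]
      exact congrArg₂ (· * ·) (hf _ b).symm (hf _ b).symm)
  let Φ : AbTensor Q₁ Q₂ →+ Additive τ.ker := liftAddHom F (fun r m n => by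
    rw [map_zsmul, AddMonoidHom.smul_apply, map_zsmul])
  -- the two multipliers
  have hc₁ : ξ₁.ker ≤ center Δ₁ := fun a ha => mem_center_iff.2 fun b => Subtype.ext
    (mem_center_iff.1 (hs.2.1 (Prod.ext ha ((hmem₁ _).1 a.2))) b)
  have hc₂ : ξ₂.ker ≤ center Δ₂ := fun a ha => mem_center_iff.2 fun b => Subtype.ext
    (mem_center_iff.1 (hs.2.1 (Prod.ext ((hmem₂ _).1 a.2) ha)) b)
  obtain ⟨g₁, hg₁⟩ := exists_lift ξ₁ hξ₁ hc₁ (MonoidHom.id Q₁)
  obtain ⟨g₂, hg₂⟩ := exists_lift ξ₂ hξ₂ hc₂ (MonoidHom.id Q₂)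
  rw [MonoidHom.id_comp] at hg₁ hg₂
  have hm₁ := map_multiplier ξ₁ hc₁ g₁ hg₁
  have hm₂ := map_multiplier ξ₂ hc₂ g₂ hg₂
  let π₁ : Mult Q₁ →* τ.ker := ((Δ₁.subtype.comp g₁).comp (multiplier Q₁).subtype).codRestrict τ.ker
    fun m => Prod.ext (show ξ₁ (g₁ m) = 1 from (hm₁ ▸ mem_map_of_mem g₁ m.2 :
      g₁ m ∈ ξ₁.ker ⊓ commutator Δ₁).1) ((hmem₁ _).1 (g₁ m).2)
  let π₂ : Mult Q₂ →* τ.ker := ((Δ₂.subtype.comp g₂).comp (multiplier Q₂).subtype).codRestrict τ.ker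
    fun m => Prod.ext ((hmem₂ _).1 (g₂ m).2) (show ξ₂ (g₂ m) = 1 from
      (hm₂ ▸ mem_map_of_mem g₂ m.2 : g₂ m ∈ ξ₂.ker ⊓ commutator Δ₂).1)
  let π₃ : Multiplicative (AbTensor Q₁ Q₂) →* τ.ker := AddMonoidHom.toMultiplicativeLeft Φ
  have hπ₃ : ∀ a b, c a b ∈ π₃.range := fun a b =>
    ⟨Multiplicative.ofAdd (abOf (ξ₁ a) ⊗ₜ abOf (ξ₂ b)), by
      show Additive.toMul (F (abOf (ξ₁ a)) (abOf (ξ₂ b))) = c a b
      show f (Abelianization.of (ξ₁ a)) (Abelianization.of (ξ₂ b)) = c a b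
      rw [hf, Abelianization.lift_apply_of, MonoidHom.liftOfRightInverse_comp_apply]
      rfl⟩
  refine ⟨π₁.coprod (π₂.coprod π₃), fun z => ?_⟩
  -- decompose `Δ'`
  let N : Subgroup Δ := π₃.range.map τ.ker.subtype
  have hNc : N ≤ center Δ := (map_subtype_le _).trans hs.2.1
  let D₁ : Subgroup Δ := (commutator Δ₁).map Δ₁.subtype
  let D₂ : Subgroup Δ := (commutator Δ₂).map Δ₂.subtype
  have hdec : ∀ d : Δ, ∃ a ∈ Δ₁, ∃ b ∈ Δ₂, d = a * b := fun d => by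
    obtain ⟨a, ha⟩ := hs.1 ((τ d).1, 1)
    refine ⟨a, (hmem₁ a).2 (by rw [ha]), a⁻¹ * d, (hmem₂ _).2 ?_, by group⟩
    rw [map_mul, map_inv, ha]; simp
  haveI hNn : N.Normal := ⟨fun y hy g => by
    rwa [mem_center_iff.1 (hNc hy) g, mul_inv_cancel_right]⟩
  -- modulo `N` the two factors commute
  have hcommN : ∀ a ∈ Δ₁, ∀ b ∈ Δ₂, ⁅a, b⁆ ∈ N := fun a ha b hb =>
    ⟨c ⟨a, ha⟩ ⟨b, hb⟩, hπ₃ _ _, rfl⟩
  have key : commutator Δ ≤ (D₁ ⊔ D₂) ⊔ N := by
    have hD : ∀ (a : Δ) (b : Δ), a ∈ Δ₁ → b ∈ Δ₁ → ⁅a, b⁆ ∈ D₁ := fun a b ha hb =>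
      ⟨⁅(⟨a, ha⟩ : Δ₁), ⟨b, hb⟩⁆, by
        rw [_root_.commutator_def]; exact commutator_mem_commutator (mem_top _) (mem_top _), rfl⟩
    have hD' : ∀ (a : Δ) (b : Δ), a ∈ Δ₂ → b ∈ Δ₂ → ⁅a, b⁆ ∈ D₂ := fun a b ha hb =>
      ⟨⁅(⟨a, ha⟩ : Δ₂), ⟨b, hb⟩⁆, by
        rw [_root_.commutator_def]; exact commutator_mem_commutator (mem_top _) (mem_top _), rfl⟩
    let S := (D₁ ⊔ D₂) ⊔ N
    rw [_root_.commutator_def, commutator_le]
    intro x _ y _
    obtain ⟨a, ha, b, hb, rfl⟩ := hdec x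
    obtain ⟨a', ha', b', hb', rfl⟩ := hdec y
    -- compute in `Δ ⧸ N`, where the factors commute
    let q := QuotientGroup.mk' N
    have hq : ∀ s ∈ Δ₁, ∀ t ∈ Δ₂, Commute (q s) (q t) := fun s hs' t ht => by
      show q s * q t = q t * q s
      rw [← commutatorElement_eq_one_iff_mul_comm, ← map_commutatorElement]
      exact (QuotientGroup.eq_one_iff _).2 (hcommN s hs' t ht)
    have he : q ⁅a * b, a' * b'⁆ = q (⁅a, a'⁆ * ⁅b, b'⁆) := by
      have e1 : Commute (q b) (q a') := (hq a' ha' b hb).symm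
      have e2 : Commute (q b') (q a) := (hq a ha b' hb').symm
      have e3 : Commute (q a) (q b) := hq a ha b hb
      have e4 : Commute (q a') (q b') := hq a' ha' b' hb'
      simp only [map_commutatorElement, map_mul]
      generalize q a = A, q b = B, q a' = A', q b' = B' at *
      simp only [commutatorElement_def, mul_inv_rev]
      calc A * B * (A' * B') * (B⁻¹ * A⁻¹) * (B'⁻¹ * A'⁻¹)
          = A * (B * A') * B' * B⁻¹ * A⁻¹ * B'⁻¹ * A'⁻¹ := by group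
        _ = A * (A' * B) * B' * B⁻¹ * (A⁻¹ * B'⁻¹) * A'⁻¹ := by rw [e1.eq]; group
        _ = A * A' * B * B' * B⁻¹ * (B'⁻¹ * A⁻¹) * A'⁻¹ := by
          rw [(e2.symm.inv_inv).eq]; group
        _ = A * A' * (⁅B, B'⁆ * (A⁻¹ * A'⁻¹)) := by simp only [commutatorElement_def]; group
        _ = A * A' * ((A⁻¹ * A'⁻¹) * ⁅B, B'⁆) := by
          have f1 : Commute ⁅B, B'⁆ A⁻¹ := by
            simp only [commutatorElement_def]
            exact ((((e3.symm.mul_left e2).mul_left e3.symm.inv_left).mul_left e2.inv_left)).inv_right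
          have f2 : Commute ⁅B, B'⁆ A'⁻¹ := by
            simp only [commutatorElement_def]
            exact ((((e1.mul_left e4.symm).mul_left e1.inv_left).mul_left e4.symm.inv_left)).inv_right
          rw [(f1.mul_right f2).eq]
        _ = _ := by simp only [commutatorElement_def]; group
    have hin : (⁅a, a'⁆ * ⁅b, b'⁆)⁻¹ * ⁅a * b, a' * b'⁆ ∈ N := QuotientGroup.eq.1 he.symm
    have := mul_mem_sup (mul_mem_sup (hD a a' ha ha') (hD' b b' hb hb')) hin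
    rwa [mul_inv_cancel_left] at this
  obtain ⟨s, hs', n, hn, hsn⟩ := mem_sup_of_normal_right.1 (key (hs.2.2 z.2))
  have hD12 : ∀ d₁ ∈ D₁, ∀ d₂ ∈ D₂, d₁ * d₂ = d₂ * d₁ := by
    -- commutator elements of the two factors commute
    intro d₁ hd₁ d₂ hd₂
    obtain ⟨u, hu, rfl⟩ := hd₁
    obtain ⟨w', hw', rfl⟩ := hd₂
    have h1 : cL u = 1 := Abelianization.commutator_subset_ker cL hu
    exact commutatorElement_eq_one_iff_mul_comm.1
      (congrArg Subtype.val (DFunLike.congr_fun h1 w'))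
  have hsup : ∀ s ∈ D₁ ⊔ D₂, ∃ u ∈ D₁, ∃ w' ∈ D₂, s = u * w' := by
    intro s hs'
    have hn' : D₁ ≤ normalizer (D₂ : Set Δ) := fun u hu => by
      rw [mem_normalizer_iff]
      intro y
      constructor
      · intro hy
        rwa [hD12 u hu y hy, mul_inv_cancel_right]
      · intro hy
        have h' := hD12 u⁻¹ (inv_mem hu) _ hy
        have : y = u * y * u⁻¹ := by
          calc y = u⁻¹ * (u * y * u⁻¹) * u := by group
            _ = _ := by rw [h', inv_mul_cancel_right]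
        rw [this]; exact hy
    have hs'' : s ∈ ((D₁ ⊔ D₂ : Subgroup Δ) : Set Δ) := hs'
    rw [Subgroup.coe_mul_of_left_le_normalizer_right D₁ D₂ hn'] at hs''
    obtain ⟨u, hu, w', hw', he⟩ := Set.mem_mul.1 hs''
    exact ⟨u, hu, w', hw', he.symm⟩
  obtain ⟨u, ⟨u', hu', rfl⟩, w', ⟨w'', hw'', rfl⟩, rfl⟩ := hsup s hs'
  obtain ⟨n', ⟨t, rfl⟩, rfl⟩ := hn
  have hker : τ ((Δ₁.subtype u') * (Δ₂.subtype w'')) = 1 := by
    have h1 := congrArg τ hsn
    rw [map_mul, MonoidHom.mem_ker.1 z.2] at h1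
    have h2 : τ ((π₃ t : τ.ker) : Δ) = 1 := (π₃ t).2
    rw [show τ (τ.ker.subtype (π₃ t)) = 1 from h2, mul_one] at h1
    exact h1
  rw [map_mul, Prod.ext_iff] at hker
  have hu1 : ξ₁ u' = 1 := by
    have := hker.1
    rw [Prod.fst_mul, Prod.fst_one, show (τ (Δ₂.subtype w'')).1 = 1 from (hmem₂ _).1 w''.2,
      mul_one] at this
    exact this
  have hw1 : ξ₂ w'' = 1 := by
    have := hker.2
    rw [Prod.snd_mul, Prod.snd_one, show (τ (Δ₁.subtype u')).2 = 1 from (hmem₁ _).1 u'.2,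
      one_mul] at this
    exact this
  obtain ⟨m₁, hm₁', hme₁⟩ : u' ∈ (multiplier Q₁).map g₁ := hm₁ ▸ ⟨hu1, hu'⟩
  obtain ⟨m₂, hm₂', hme₂⟩ : w'' ∈ (multiplier Q₂).map g₂ := hm₂ ▸ ⟨hw1, hw''⟩
  refine ⟨(⟨m₁, hm₁'⟩, ⟨m₂, hm₂'⟩, t), Subtype.ext ?_⟩
  rw [← hsn, ← hme₁, ← hme₂]
  simp only [MonoidHom.coprod_apply, Subgroup.coe_mul]
  exact (mul_assoc _ _ _).symm

end Upper

theorem finite_abTensor (Q₁ : Type u) (Q₂ : Type v) [Group Q₁] [Group Q₂] [Finite Q₁] [Finite Q₂] :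
    Finite (AbTensor Q₁ Q₂) := by
  haveI : Finite (Abelianization Q₁) := Finite.of_surjective _ QuotientGroup.mk_surjective
  haveI : Finite (Abelianization Q₂) := Finite.of_surjective _ QuotientGroup.mk_surjective
  haveI : Finite (Additive (Abelianization Q₁)) := inferInstanceAs (Finite (Abelianization Q₁))
  haveI : Finite (Additive (Abelianization Q₂)) := inferInstanceAs (Finite (Abelianization Q₂))
  haveI : AddGroup.FG (AbTensor Q₁ Q₂) := by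
    rw [AddGroup.fg_iff]
    refine ⟨Set.range (fun p : Additive (Abelianization Q₁) × Additive (Abelianization Q₂) =>
      p.1 ⊗ₜ[ℤ] p.2), ?_, Set.finite_range _⟩
    rw [eq_top_iff]
    intro z _
    induction z using TensorProduct.induction_on with
    | zero => exact zero_mem _
    | tmul a b => exact AddSubgroup.subset_closure ⟨(a, b), rfl⟩
    | add a b ha hb => exact add_mem (ha trivial) (hb trivial)
  refine AddCommGroup.finite_of_fg_isAddTorsion _ fun z => ?_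
  rw [isOfFinAddOrder_iff_nsmul_eq_zero]
  refine ⟨Nat.card (Additive (Abelianization Q₁)), Nat.card_pos, ?_⟩
  induction z using TensorProduct.induction_on with
  | zero => simp
  | tmul a b => rw [smul_tmul', card_nsmul_eq_zero', zero_tmul]
  | add a b ha hb => rw [smul_add, ha, hb, add_zero]

/-- The multiplier of a product. -/
theorem hasSchurMultiplier_prod {Q₁ : Type u} {Q₂ : Type v} [Group Q₁] [Group Q₂] [Finite Q₁]
    [Finite Q₂] {A B : Type w} [CommGroup A] [CommGroup B] (hA : HasSchurMultiplier Q₁ A)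
    (hB : HasSchurMultiplier Q₂ B) :
    HasSchurMultiplier (Q₁ × Q₂) (A × B × Multiplicative (AbTensor Q₁ Q₂)) := by
  obtain ⟨eA⟩ := nonempty_equiv_mult hA
  obtain ⟨eB⟩ := nonempty_equiv_mult hB
  obtain ⟨Γ₁, _, _, σ₁, -, hs₁, -, -, -, ⟨e₁⟩⟩ := exists_cover Q₁
  obtain ⟨Γ₂, _, _, σ₂, -, hs₂, -, -, -, ⟨e₂⟩⟩ := exists_cover Q₂
  haveI : Finite (Abelianization Q₁) := Finite.of_surjective _ QuotientGroup.mk_surjective
  haveI : Finite (Abelianization Q₂) := Finite.of_surjective _ QuotientGroup.mk_surjective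
  haveI : Finite (Additive (Abelianization Q₁)) := inferInstanceAs (Finite (Abelianization Q₁))
  haveI : Finite (Additive (Abelianization Q₂)) := inferInstanceAs (Finite (Abelianization Q₂))
  have hs := ProdExt.isStemExtension σ₁ σ₂ hs₁ hs₂
  obtain ⟨π, hπ⟩ := exists_surjective_of_stem_prod _ hs
  haveI : Finite (ProdExt.proj σ₁ σ₂).ker := by
    have : Finite ((ProdExt.proj σ₁ σ₂).ker) := by
      haveI : Finite (Multiplicative (AbTensor Q₁ Q₂)) := finite_abTensor Q₁ Q₂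
      exact Finite.of_surjective π hπ
    exact this
  haveI : Finite (ProdExt σ₁ σ₂) := by
    have : Finite (ProdExt σ₁ σ₂ ⧸ (ProdExt.proj σ₁ σ₂).ker) :=
      Finite.of_injective _ (QuotientGroup.kerLift_injective (ProdExt.proj σ₁ σ₂))
    exact Finite.of_equiv _
      (Subgroup.groupEquivQuotientProdSubgroup (s := (ProdExt.proj σ₁ σ₂).ker)).symm
  refine ⟨⟨ProdExt σ₁ σ₂, inferInstance, inferInstance, ProdExt.proj σ₁ σ₂, hs,
    ⟨(ProdExt.kerEquiv σ₁ σ₂).trans ((e₁.trans eA.symm).prodCongr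
      ((e₂.trans eB.symm).prodCongr (MulEquiv.refl _)))⟩⟩, fun Δ _ _ τ hτ => ?_⟩
  obtain ⟨π', hπ'⟩ := exists_surjective_of_stem_prod τ hτ
  exact ⟨π'.comp (eA.prodCongr (eB.prodCongr (MulEquiv.refl _))).toMonoidHom,
    hπ'.comp (MulEquiv.surjective _)⟩

end CfsgLib.Schur
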