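import Cfsg.Agent.Lib.Schur.RankTwoLift

/-!
Central extensions with kernel prime to `p` of a group with a split (B,N)-pair of any rank: the kernel lies in
the product of the lifted tori of the rank one subgroups.
-/

set_option autoImplicit false

namespace CfsgLib.Schur.RankN

open Subgroup CfsgLib.Schur.RankTwo
open scoped commutatorElement

universe u v w

variable {G : Type u} [Group G] {ι : Type w}

/-- the braid word -/
def bW (i j : ι) (k : ℕ) : List ι := [i, j, i].take k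

/-- the last letter of the braid word -/
def bC (i j : ι) (k : ℕ) : ι := if k = 2 then i else j

/-- The data of a split (B,N)-pair used for lifting. -/
structure DatumN (p : ℕ) (G : Type u) [Group G] (ι : Type w) where
  U : Subgroup G
  H : Subgroup G
  X : ι → Subgroup G
  n : ι → G
  M : CoxeterMatrix ι
  U_pgroup : IsPGroup p U
  X_le : ∀ s, X s ≤ U
  H_comm : ∀ a ∈ H, ∀ b ∈ H, a * b = b * a
  H_U : ∀ h ∈ H, ∀ u ∈ U, h * u * h⁻¹ ∈ U
  H_X : ∀ s, ∀ h ∈ H, ∀ u ∈ X s, h * u * h⁻¹ ∈ X s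
  n_mem : ∀ s, n s ∈ X s ⊔ (X s).map (MulAut.conj (n s)).toMonoidHom
  n_sq : ∀ s, n s * n s ∈ H
  n_H : ∀ s, ∀ h ∈ H, n s * h * (n s)⁻¹ ∈ H
  split : ∀ s, ∀ u ∈ U, ∃ a ∈ X s, ∃ b ∈ U, n s * b * (n s)⁻¹ ∈ U ∧ u = b * a
  rankOne : ∀ s, ∀ u ∈ X s, u ≠ 1 → ∃ a ∈ X s, ∃ h ∈ H, ∃ b ∈ X s,
    n s * u * (n s)⁻¹ = a * h * n s * b
  U_inf : ∀ x ∈ closure ((H : Set G) ∪ Set.range n), x ∈ U → x = 1
  positive : ∀ x ∈ closure ((H : Set G) ∪ Set.range n), ∀ s,
    (∀ u ∈ X s, x⁻¹ * u * x ∈ U) ∨ ∀ u ∈ X s, x⁻¹ * (n s * u * (n s)⁻¹) * x ∈ U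
  M_cases : ∀ i j, i ≠ j → M i j = 2 ∨ M i j = 3 ∨ M i j = 4
  braid_H : ∀ i j, i ≠ j → ((bW i j (M i j - 1)).map n).prod * n (bC i j (M i j - 1)) *
    (((bW i j (M i j - 1)).map n).prod)⁻¹ * (n j)⁻¹ ∈ H
  braid_X : ∀ i j, i ≠ j → ∀ u ∈ X (bC i j (M i j - 1)),
    ((bW i j (M i j - 1)).map n).prod * u * (((bW i j (M i j - 1)).map n).prod)⁻¹ ∈ X j
  finM : Finite M.Group
  index : Nat.card M.Group ≤ H.relIndex (closure ((H : Set G) ∪ Set.range n))
  gen : ⨆ s, (X s ⊔ (X s).map (MulAut.conj (n s)).toMonoidHom) = ⊤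

variable {p : ℕ} {Γ : Type v} [Group Γ] [Finite Γ] [hp : Fact p.Prime] (π : Γ →* G) (D : DatumN p G ι)

/-- The rank one subgroups. -/
def DatumN.L (s : ι) : Subgroup G := D.X s ⊔ (D.X s).map (MulAut.conj (D.n s)).toMonoidHom

/-- The lifted rank one subgroups. -/
def liftL (s : ι) : Subgroup Γ :=
  lift π p (D.X s) ⊔ lift π p ((D.X s).map (MulAut.conj (D.n s)).toMonoidHom)

omit [Finite Γ] hp in
theorem map_liftL_le (s : ι) : (liftL π D s).map π ≤ D.L s := by
  rw [liftL, Subgroup.map_sup]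
  exact sup_le_sup (map_lift_le π _) (map_lift_le π _)

theorem X_pgroup (s : ι) : IsPGroup p (D.X s) := D.U_pgroup.to_le (D.X_le s)

theorem map_liftL (hsurj : Function.Surjective π) (s : ι) : (liftL π D s).map π = D.L s := by
  rw [liftL, Subgroup.map_sup, map_lift π (X_pgroup D s) hsurj,
    map_lift π ((X_pgroup D s).map _) hsurj]
  rfl

omit [Finite Γ] hp in
/-- An element whose image normalises both root subgroups normalises the lifted rank one subgroup. -/
theorem conj_liftL {s : ι} (g : Γ) (h1 : ∀ v ∈ D.X s, π g * v * (π g)⁻¹ ∈ D.X s)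
    (h2 : ∀ v ∈ D.X s, π g * (D.n s * v * (D.n s)⁻¹) * (π g)⁻¹ ∈
      (D.X s).map (MulAut.conj (D.n s)).toMonoidHom) {x : Γ} (hx : x ∈ liftL π D s) :
    g * x * g⁻¹ ∈ liftL π D s := by
  have : (liftL π D s).map (MulAut.conj g).toMonoidHom ≤ liftL π D s := by
    rw [liftL, Subgroup.map_sup]
    refine sup_le_sup ?_ ?_
    · rintro _ ⟨y, hy, rfl⟩
      exact conj_mem_lift π g h1 hy
    · rintro _ ⟨y, hy, rfl⟩
      refine conj_mem_lift π g ?_ hy
      rintro _ ⟨v, hv, rfl⟩
      exact h2 v hv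
  exact this ⟨x, hx, rfl⟩

/-- The lifted torus in one rank one subgroup. -/
def liftH (s : ι) : Subgroup Γ := liftL π D s ⊓ D.H.comap π

omit [Finite Γ] hp in
/-- An element whose image carries one pair of root subgroups to another carries the lifted rank one
subgroup. -/
theorem conj_liftL' {c j : ι} (g : Γ) (h1 : ∀ v ∈ D.X c, π g * v * (π g)⁻¹ ∈ D.X j)
    (h2 : ∀ v ∈ D.X c, π g * (D.n c * v * (D.n c)⁻¹) * (π g)⁻¹ ∈
      (D.X j).map (MulAut.conj (D.n j)).toMonoidHom) {x : Γ} (hx : x ∈ liftL π D c) :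
    g * x * g⁻¹ ∈ liftL π D j := by
  have : (liftL π D c).map (MulAut.conj g).toMonoidHom ≤ liftL π D j := by
    rw [liftL, Subgroup.map_sup]
    refine sup_le_sup ?_ ?_
    · rintro _ ⟨y, hy, rfl⟩
      exact conj_mem_lift π g h1 hy
    · rintro _ ⟨y, hy, rfl⟩
      refine conj_mem_lift π g ?_ hy
      rintro _ ⟨v, hv, rfl⟩
      exact h2 v hv
  exact this ⟨x, hx, rfl⟩

theorem DatumN.H_opp {p : ℕ} (D : DatumN p G ι) (s : ι) {h : G} (hh : h ∈ D.H) {u : G} (hu : u ∈ D.X s) :
    h * (D.n s * u * (D.n s)⁻¹) * h⁻¹ ∈ (D.X s).map (MulAut.conj (D.n s)).toMonoidHom := by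
  have h' : (D.n s)⁻¹ * h * D.n s ∈ D.H := by
    have := mul_mem (mul_mem (inv_mem (D.n_sq s)) (D.n_H s h hh)) (D.n_sq s)
    convert this using 1
    group
  refine ⟨_, D.H_X s _ h' u hu, ?_⟩
  simp only [MulEquiv.coe_toMonoidHom, MulAut.conj_apply]
  group

set_option maxHeartbeats 1600000 in
-- one long construction
/-- The kernel times the torus fits into the product of the tori of the rank one subgroups. -/
theorem card_ker_mul_le [Fintype ι] (hsurj : Function.Surjective π) (hc : π.ker ≤ center Γ)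
    (hco : (Nat.card π.ker).Coprime p) (hperf : _root_.commutator Γ = ⊤)
    (hone : ∀ s, liftL π D s ⊓ π.ker = ⊥) :
    Nat.card π.ker * Nat.card D.H ≤ ∏ s, Nat.card ↥(D.L s ⊓ D.H) := by
  classical
  haveI := D.finM
  have hU := D.U_pgroup
  -- injectivity in a rank one subgroup
  have hinjL : ∀ s {x y : Γ}, x ∈ liftL π D s → y ∈ liftL π D s → π x = π y → x = y := by
    intro s x y hx hy h
    refine inv_mul_eq_one.1 ((mem_bot).1 ((hone s).le
      (show x⁻¹ * y ∈ liftL π D s ⊓ π.ker from mem_inf.2 ⟨mul_mem (inv_mem hx) hy, ?_⟩)))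
    rw [MonoidHom.mem_ker, map_mul, map_inv, h, inv_mul_cancel]
  choose m hmL hm using fun s => (show D.n s ∈ (liftL π D s).map π by
    rw [map_liftL π D hsurj s]; exact D.n_mem s)
  -- an element over the torus normalises the rank one subgroups
  have hnorm : ∀ s (g : Γ), π g ∈ D.H → ∀ x ∈ liftL π D s, g * x * g⁻¹ ∈ liftL π D s :=
    fun s g hg x hx => conj_liftL π D g (fun v hv => D.H_X s _ hg v hv)
      (fun v hv => D.H_opp s hg hv) hx
  -- the lifted torus
  have hfix : ∀ s t, ∀ x ∈ liftH π D s, ∀ y ∈ liftH π D t, Commute x y := by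
    intro s t x hx y hy
    show x * y = y * x
    have h := hinjL t (hnorm t x hx.2 y hy.1) hy.1 (by
      rw [map_mul, map_mul, map_inv, D.H_comm _ hx.2 _ hy.2, mul_inv_cancel_right])
    exact mul_inv_eq_iff_eq_mul.1 h
  let Φ : (∀ s, ↥(liftH π D s)) →* Γ := MonoidHom.noncommPiCoprod (fun s => (liftH π D s).subtype)
    fun s t _ x y => hfix s t x x.2 y y.2
  obtain ⟨T, hT⟩ : ∃ T : Subgroup Γ, T = Φ.range := ⟨_, rfl⟩
  have hTs : ∀ s, liftH π D s ≤ T := fun s x hx => hT ▸ ⟨Pi.mulSingle s ⟨x, hx⟩,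
    MonoidHom.noncommPiCoprod_mulSingle (ϕ := fun s => (liftH π D s).subtype)
      (hcomm := fun s t _ x y => hfix s t x x.2 y y.2) s ⟨x, hx⟩⟩
  have hTeq : T = ⨆ s, liftH π D s := by
    rw [hT, show Φ.range = _ from MonoidHom.noncommPiCoprod_range _]
    simp
  have hTH : ∀ x ∈ T, π x ∈ D.H := by
    intro x hx
    rw [hTeq] at hx
    exact (iSup_le fun s => inf_le_right : ⨆ s, liftH π D s ≤ D.H.comap π) hx
  -- the lifted Weyl elements act on the torus
  have hsqT : ∀ s, m s * m s ∈ T := fun s => hTs s ⟨mul_mem (hmL s) (hmL s), by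
      show π _ ∈ D.H
      rw [map_mul, hm]; exact D.n_sq s⟩
  have hmT : ∀ s, ∀ x ∈ T, m s * x * (m s)⁻¹ ∈ T := by
    intro s x hx
    have key : ∀ t, ∀ y ∈ liftH π D t, m s * y * (m s)⁻¹ ∈ T := by
      intro t y hy
      have h1 : m s * y * (m s)⁻¹ * y⁻¹ ∈ liftH π D s := by
        constructor
        · rw [show m s * y * (m s)⁻¹ * y⁻¹ = m s * (y * (m s)⁻¹ * y⁻¹) by group]
          exact mul_mem (hmL s) (hnorm s y hy.2 _ (inv_mem (hmL s)))
        · show π _ ∈ D.H
          simp only [map_mul, map_inv, hm]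
          exact mul_mem (D.n_H s _ hy.2) (inv_mem hy.2)
      have hy' : y ∈ T := hTs t hy
      have h1' : m s * y * (m s)⁻¹ * y⁻¹ ∈ T := hTs s h1
      have := mul_mem h1' hy'
      simpa using this
    have : T ≤ T.comap (MulAut.conj (m s)).toMonoidHom := by
      conv_lhs => rw [hTeq]
      exact iSup_le fun t y hy => key t y hy
    exact this hx
  obtain ⟨N', hN'⟩ : ∃ N' : Subgroup Γ, N' = closure ((T : Set Γ) ∪ Set.range m) := ⟨_, rfl⟩
  have hTN : T ≤ N' := fun x hx => hN' ▸ subset_closure (Set.mem_union_left _ hx)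
  haveI hTn : (T.subgroupOf N').Normal := by
    refine (Subgroup.normal_subgroupOf_iff_le_normalizer hTN).2 ?_
    rw [hN', closure_le]
    rintro g (hg | ⟨s, rfl⟩)
    · exact le_normalizer hg
    · rw [SetLike.mem_coe, mem_normalizer_iff]
      refine fun y => ⟨hmT s y, fun hy => ?_⟩
      have h2 := mul_mem (mul_mem (inv_mem (hsqT s)) (hmT s _ hy)) (hsqT s)
      convert h2 using 1
      group
  -- the braid relations
  set Q := ↥N' ⧸ T.subgroupOf N'
  have hmem : ∀ s, m s ∈ N' := fun s => hN' ▸ subset_closure (Or.inr ⟨s, rfl⟩)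
  let g : ι → Q := fun s => ((⟨m s, hmem s⟩ : N') : Q)
  have hg2 : ∀ s, g s * g s = 1 := fun s => (QuotientGroup.eq_one_iff _).2 (hsqT s)
  have hword : ∀ l : List ι, ∃ hl : (l.map m).prod ∈ N', (l.map g).prod = ((⟨(l.map m).prod, hl⟩ : N') : Q) := by
    intro l
    induction l with
    | nil => exact ⟨one_mem _, rfl⟩
    | cons a l ih =>
      obtain ⟨hl, e⟩ := ih
      refine ⟨mul_mem (hmem a) hl, ?_⟩
      rw [List.map_cons, List.prod_cons, e]
      rfl
  have hpm : ∀ l : List ι, π (l.map m).prod = (l.map D.n).prod := by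
    intro l
    rw [map_list_prod, List.map_map]
    exact congrArg List.prod (List.map_congr_left fun a _ => hm a)
  have hbr : ∀ i j, i ≠ j → ((bW i j (D.M i j - 1)).map g).prod * g (bC i j (D.M i j - 1)) *
      (((bW i j (D.M i j - 1)).map g).prod)⁻¹ = g j := by
    intro i j hij
    set c := bC i j (D.M i j - 1)
    set l := bW i j (D.M i j - 1)
    set v := (l.map m).prod
    set w := (l.map D.n).prod
    have hH : w * D.n c * w⁻¹ * (D.n j)⁻¹ ∈ D.H := D.braid_H i j hij
    have key : v * m c * v⁻¹ * (m j)⁻¹ ∈ T := by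
      refine hTs j (mem_inf.2 ⟨mul_mem (conj_liftL' π D v ?_ ?_ (hmL c)) (Subgroup.inv_mem _ (hmL j)), ?_⟩)
      · intro u hu; rw [show π v = w from hpm l]; exact D.braid_X i j hij u hu
      · intro u hu
        rw [show π v = w from hpm l]
        have h2 := D.H_opp j hH (show w * u * w⁻¹ ∈ D.X j from D.braid_X i j hij u hu)
        convert h2 using 1
        group
      · show π _ ∈ D.H
        simp only [map_mul, map_inv, hm, show π v = w from hpm l]
        exact hH
    obtain ⟨hl, e⟩ := hword l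
    rw [e]
    refine mul_inv_eq_one.1 ?_
    exact (QuotientGroup.eq_one_iff
      ((⟨v, hl⟩ : N') * ⟨m c, hmem c⟩ * (⟨v, hl⟩ : N')⁻¹ * (⟨m j, hmem j⟩ : N')⁻¹)).2 (by
        rw [Subgroup.mem_subgroupOf]; push_cast; exact key)
  have hrel : D.M.IsLiftable g := by
    intro i j
    by_cases hij : i = j
    · subst hij
      rw [D.M.diagonal, pow_one, hg2]
    have hi := inv_eq_of_mul_eq_one_right (hg2 i)
    have hj := inv_eq_of_mul_eq_one_right (hg2 j)
    have h := hbr i j hij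
    rcases D.M_cases i j hij with e | e | e <;> rw [e] at h ⊢ <;>
      simp only [bW, bC, Nat.reduceSub, List.take_succ_cons, List.take_zero, List.map_cons, List.map_nil,
        List.prod_cons, List.prod_nil, mul_one, _root_.mul_inv_rev, hi, hj, if_true, if_false,
        OfNat.ofNat_ne_zero, Nat.reduceEqDiff] at h
    · calc (g i * g j) ^ 2 = (g i * g j * g i) * g j := by rw [pow_two, mul_assoc (g i * g j)]
        _ = 1 := by rw [h, hg2]
    · calc (g i * g j) ^ 3 = (g i * g j * g i * (g j * g i)) * g j := by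
            simp only [pow_succ, pow_zero, one_mul, mul_assoc]
        _ = 1 := by rw [h, hg2]
    · calc (g i * g j) ^ 4 = (g i * (g j * g i) * g j * (g i * g j * g i)) * g j := by
            simp only [pow_succ, pow_zero, one_mul, mul_assoc]
        _ = 1 := by rw [h, hg2]
  let L : D.M.Group →* Q := D.M.toCoxeterSystem.lift ⟨g, hrel⟩
  have hLsurj : Function.Surjective L := by
    rw [← MonoidHom.range_eq_top, eq_top_iff]
    intro y _
    induction y using QuotientGroup.induction_on with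
    | _ x =>
      obtain ⟨x, hx⟩ := x
      have hle : N' ≤ (L.range.comap (QuotientGroup.mk' (T.subgroupOf N'))).map N'.subtype := by
        conv_lhs => rw [hN']
        rw [closure_le]
        rintro y (hy | ⟨s, rfl⟩)
        · exact ⟨⟨y, hTN hy⟩, ⟨1, (map_one L).trans ((QuotientGroup.eq_one_iff (⟨y, hTN hy⟩ : N')).2 hy).symm⟩, rfl⟩
        · exact ⟨⟨m s, hmem s⟩, ⟨D.M.toCoxeterSystem.simple s,
            CoxeterSystem.lift_apply_simple _ hrel s⟩, rfl⟩
      obtain ⟨z, hz, e⟩ := hle hx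
      rw [show (⟨x, hx⟩ : N') = z from Subtype.ext e.symm]
      exact hz
  have hcardQ : Nat.card Q ≤ Nat.card D.M.Group := Nat.card_le_card_of_surjective L hLsurj
  set N := closure ((D.H : Set G) ∪ Set.range D.n)
  have hN'le : ∀ x ∈ N', π x ∈ N := by
    intro x hx
    have : N' ≤ N.comap π := by
      rw [hN', closure_le]
      rintro y (hy | ⟨s, rfl⟩)
      · exact subset_closure (Or.inl (hTH y hy))
      · exact subset_closure (Or.inr ⟨s, (hm s).symm⟩)
    exact this hx
  -- the big cell decomposition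
  set Ut := lift π p D.U with hUt
  set C : Set Γ := {x | ∃ a ∈ Ut, ∃ w ∈ N', ∃ b ∈ Ut, x = a * w * b}
  have hUT : ∀ x : Γ, π x ∈ D.H → ∀ u ∈ Ut, x * u * x⁻¹ ∈ Ut := fun x hx u hu =>
    conj_mem_lift π x (fun v hv => D.H_U _ hx v hv) hu
  have hXU : ∀ s, lift π p (D.X s) ≤ Ut := fun s => lift_mono π (D.X_le s)
  have hT' : ∀ x ∈ T, x ∈ N' := hTN
  have hCU : ∀ a ∈ Ut, ∀ x ∈ C, a * x ∈ C := by
    rintro a ha _ ⟨a', ha', w, hw, b, hb, rfl⟩
    exact ⟨a * a', mul_mem ha ha', w, hw, b, hb, by group⟩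
  have hCT : ∀ t ∈ T, ∀ x ∈ C, t * x ∈ C := by
    rintro t ht _ ⟨a', ha', w, hw, b, hb, rfl⟩
    exact ⟨t * a' * t⁻¹, hUT t (hTH t ht) _ ha', t * w, mul_mem (hT' t ht) hw, b, hb, by group⟩
  have hcase : ∀ s, ∀ c ∈ lift π p (D.X s), ∀ w ∈ N', (∀ u ∈ D.X s, (π w)⁻¹ * u * π w ∈ D.U) →
      ∀ b ∈ Ut, m s * c * w * b ∈ C := by
    intro s c hc' w hw h b hb
    refine ⟨1, one_mem _, m s * w, mul_mem (hmem s) hw, w⁻¹ * c * w * b, mul_mem ?_ hb, by group⟩
    have := conj_mem_lift π (W := D.U) w⁻¹ (fun v hv => by simpa using h v hv) hc'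
    simpa using this
  have hCm : ∀ s, ∀ x ∈ C, m s * x ∈ C := by
    rintro s _ ⟨u, hu, w, hw, b, hb, rfl⟩
    obtain ⟨a₀, ha₀, b₀, hb₀, hbU, he⟩ := D.split s (π u) (map_lift_le π _ ⟨u, hu, rfl⟩)
    obtain ⟨c, hc', ec⟩ := exists_lift π (X_pgroup D s) hsurj ha₀
    obtain ⟨d, hd, ed⟩ := exists_lift π hU hsurj hb₀
    have eu : u = d * c := lift_inj π hco hU hc hu (mul_mem hd (hXU s hc'))
      (by rw [map_mul, ec, ed, ← he])
    have hd1 : m s * d * (m s)⁻¹ ∈ Ut := by
      have hP : IsPGroup p ↥(D.U ⊓ D.U.comap (MulAut.conj (D.n s)).toMonoidHom) :=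
        hU.to_le inf_le_left
      obtain ⟨d₂, hd₂, ed₂⟩ := exists_lift π hP hsurj (v := b₀) ⟨hb₀, by simpa using hbU⟩
      have hK : d ∈ lift π p (D.U ⊓ D.U.comap (MulAut.conj (D.n s)).toMonoidHom) := by
        rwa [lift_inj π hco hU hc hd (lift_mono π inf_le_left hd₂) (by rw [ed, ed₂])]
      exact conj_mem_lift π (W := D.U) (m s) (fun v hv => by simpa [hm] using hv.2) hK
    rw [eu, show m s * (d * c * w * b) = m s * d * (m s)⁻¹ * (m s * c * w * b) by
      simp only [mul_assoc, inv_mul_cancel_left]]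
    refine hCU _ hd1 _ ?_
    rcases D.positive (π w) (hN'le w hw) s with hpos | hneg
    · exact hcase s c hc' w hw hpos b hb
    by_cases h1 : π c = 1
    · rw [eq_one_of_ker π hco (X_pgroup D s) hc hc' h1, mul_one]
      exact ⟨1, one_mem _, m s * w, mul_mem (hmem s) hw, b, hb, by group⟩
    obtain ⟨a, ha, h, hh, b', hb', eq1⟩ := D.rankOne s (π c) (map_lift_le π _ ⟨c, hc', rfl⟩) h1
    obtain ⟨A, hA, eA⟩ := exists_lift π (X_pgroup D s) hsurj ha
    obtain ⟨B, hB, eB⟩ := exists_lift π (X_pgroup D s) hsurj hb'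
    have hA' : A ∈ liftL π D s := mem_sup_left hA
    have hB' : B ∈ liftL π D s := mem_sup_left hB
    have hC' : c ∈ liftL π D s := mem_sup_left hc'
    set t := A⁻¹ * (m s * c * (m s)⁻¹) * B⁻¹ * (m s)⁻¹ with ht
    have htH : t ∈ liftH π D s := by
      refine mem_inf.2 ⟨mul_mem (mul_mem (mul_mem (Subgroup.inv_mem _ hA') (mul_mem (mul_mem (hmL s) hC')
        (Subgroup.inv_mem _ (hmL s)))) (Subgroup.inv_mem _ hB')) (Subgroup.inv_mem _ (hmL s)), ?_⟩
      show π t ∈ D.H
      rw [ht]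
      simp only [map_mul, map_inv, hm, eA, eB, eq1]
      convert hh using 1
      group
    have htT : t ∈ T := hTs s htH
    rw [show m s * c * w * b = A * (t * (m s * B * (m s * w) * b)) by rw [ht]; group]
    refine hCU _ (hXU s hA) _ (hCT t htT _ ?_)
    refine hcase s B hB (m s * w) (mul_mem (hmem s) hw) (fun x hx => ?_) b hb
    rw [map_mul, hm]
    have h2 := hneg _ (D.H_X s _ (inv_mem (D.n_sq s)) x hx)
    convert h2 using 1
    group
  -- everything lifts into the cells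
  set Γ' : Subgroup Γ := Ut ⊔ N'
  have hΓC : ∀ x ∈ Γ', ∀ y ∈ C, x * y ∈ C := by
    have hN'C : ∀ x ∈ N', ∀ y ∈ C, x * y ∈ C := by
      intro x hx
      rw [hN'] at hx
      induction hx using closure_induction with
      | mem z hz =>
        rcases hz with hz | ⟨s, rfl⟩
        · exact hCT z hz
        · exact hCm s
      | one => intro y hy; rwa [one_mul]
      | mul a b _ _ iha ihb => intro y hy; rw [mul_assoc]; exact iha _ (ihb y hy)
      | inv a _ iha =>
        intro y hy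
        obtain ⟨j, hj⟩ : ∃ j : ℕ, a⁻¹ = a ^ j :=
          ⟨orderOf a - 1, inv_eq_of_mul_eq_one_right (by
            rw [← pow_succ', Nat.sub_add_cancel (orderOf_pos a), pow_orderOf_eq_one])⟩
        rw [hj]
        clear hj
        induction j with
        | zero => simpa using hy
        | succ j ih => rw [pow_succ', mul_assoc]; exact iha _ ih
    intro x hx
    rw [show Γ' = Ut ⊔ N' from rfl, sup_eq_closure] at hx
    induction hx using closure_induction with
    | mem z hz =>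
      rcases hz with hz | hz
      · exact hCU z hz
      · exact hN'C z hz
    | one => intro y hy; rwa [one_mul]
    | mul a b _ _ iha ihb => intro y hy; rw [mul_assoc]; exact iha _ (ihb y hy)
    | inv a _ iha =>
      intro y hy
      obtain ⟨j, hj⟩ : ∃ j : ℕ, a⁻¹ = a ^ j :=
        ⟨orderOf a - 1, inv_eq_of_mul_eq_one_right (by
          rw [← pow_succ', Nat.sub_add_cancel (orderOf_pos a), pow_orderOf_eq_one])⟩
      rw [hj]
      clear hj
      induction j with
      | zero => simpa using hy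
      | succ j ih => rw [pow_succ', mul_assoc]; exact iha _ ih
  -- everything is in the cells
  have hall' : ∀ x : Γ, ∃ y ∈ Γ', ∃ z ∈ π.ker, x = y * z := by
    intro x
    have hx : π x ∈ Γ'.map π := by
      have : ⨆ s, D.L s ≤ Γ'.map π := by
        refine iSup_le fun s => sup_le ?_ ?_
        · rw [← map_lift π (X_pgroup D s) hsurj]
          exact Subgroup.map_mono ((hXU s).trans le_sup_left)
        · rintro _ ⟨u, hu, rfl⟩
          obtain ⟨c, hc', ec⟩ := exists_lift π (X_pgroup D s) hsurj hu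
          exact ⟨m s * c * (m s)⁻¹, mul_mem (mul_mem (mem_sup_right (hmem s)) (mem_sup_left (hXU s hc')))
            (inv_mem (mem_sup_right (hmem s))), by simp [hm, ec]⟩
      exact this (D.gen.ge trivial)
    obtain ⟨y, hy, e⟩ := hx
    exact ⟨y, hy, y⁻¹ * x, by rw [MonoidHom.mem_ker, map_mul, map_inv, e, inv_mul_cancel], by group⟩
  have htop : _root_.commutator Γ ≤ Γ' := by
    rw [_root_.commutator_def, commutator_le]
    intro x _ y _
    obtain ⟨a, ha, z, hz, rfl⟩ := hall' x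
    obtain ⟨b, hb, w, hw, rfl⟩ := hall' y
    have hz' := mem_center_iff.1 (hc hz)
    have hw' := mem_center_iff.1 (hc hw)
    have : ⁅a * z, b * w⁆ = ⁅a, b⁆ := by
      simp only [commutatorElement_def, _root_.mul_inv_rev]
      calc a * z * (b * w) * (z⁻¹ * a⁻¹) * (w⁻¹ * b⁻¹)
          = a * (z * (b * w) * z⁻¹) * a⁻¹ * (w⁻¹ * b⁻¹) := by group
        _ = a * (b * w) * a⁻¹ * (w⁻¹ * b⁻¹) := by rw [← hz', mul_inv_cancel_right]
        _ = a * b * (w * a⁻¹ * w⁻¹) * b⁻¹ := by group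
        _ = a * b * a⁻¹ * b⁻¹ := by rw [← hw', mul_inv_cancel_right]
    rw [this, commutatorElement_def]
    exact mul_mem (mul_mem (mul_mem ha hb) (inv_mem ha)) (inv_mem hb)
  have hdec : ∀ x : Γ, ∃ a ∈ Ut, ∃ w ∈ N', ∃ b ∈ Ut, x = a * w * b := by
    intro x
    obtain ⟨a, ha, w, hw, b, hb, e⟩ :=
      hΓC x (htop (hperf.ge trivial)) 1 ⟨1, one_mem _, 1, one_mem _, 1, one_mem _, by group⟩
    exact ⟨a, ha, w, hw, b, hb, by rw [← e, mul_one]⟩
  -- the torus is covered
  have hHN : D.H ≤ N := fun x hx => subset_closure (Set.mem_union_left _ hx)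
  have hHsurj : ∀ x : Γ, π x ∈ D.H → ∃ a ∈ Ut, ∃ w ∈ N', ∃ b ∈ Ut, x = a * w * b ∧ π w = π x := by
    intro x hx
    obtain ⟨a, ha, w, hw, b, hb, e⟩ := hdec x
    refine ⟨a, ha, w, hw, b, hb, e, ?_⟩
    have h2 : π w = (π a)⁻¹ * π x * (π b)⁻¹ := by rw [e, map_mul, map_mul]; group
    have h3 : (π x)⁻¹ * π w ∈ D.U := by
      rw [h2, show (π x)⁻¹ * ((π a)⁻¹ * π x * (π b)⁻¹) = ((π x)⁻¹ * (π a)⁻¹ * ((π x)⁻¹)⁻¹) * (π b)⁻¹ by group]
      exact mul_mem (D.H_U _ (inv_mem hx) _ (inv_mem (map_lift_le π _ ⟨a, ha, rfl⟩)))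
        (inv_mem (map_lift_le π _ ⟨b, hb, rfl⟩))
    exact (inv_mul_eq_one.1 (D.U_inf _ (mul_mem (inv_mem (hHN hx)) (hN'le w hw)) h3)).symm
  have hN'surj : ∀ y ∈ N, ∃ x ∈ N', π x = y := by
    intro y hy
    have : N ≤ N'.map π := by
      rw [closure_le]
      rintro z (hz | ⟨s, rfl⟩)
      · obtain ⟨x, rfl⟩ := hsurj z
        obtain ⟨a, -, w, hw, b, -, -, e⟩ := hHsurj x hz
        exact ⟨w, hw, e⟩
      · exact ⟨m s, hmem s, hm s⟩
    exact this hy
  have hN'H : ∀ x ∈ N', π x ∈ D.H → x ∈ T := by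
    haveI : (D.H.subgroupOf N).Normal := by
      refine (Subgroup.normal_subgroupOf_iff_le_normalizer hHN).2 ?_
      rw [closure_le]
      rintro z (hz | ⟨s, rfl⟩)
      · exact le_normalizer hz
      · rw [SetLike.mem_coe, mem_normalizer_iff]
        refine fun y => ⟨D.n_H s y, fun hy => ?_⟩
        have h2 := mul_mem (mul_mem (inv_mem (D.n_sq s)) (D.n_H s _ hy)) (D.n_sq s)
        convert h2 using 1
        group
    let f : N' →* ↥N ⧸ D.H.subgroupOf N :=
      (QuotientGroup.mk' _).comp ((π.comp N'.subtype).codRestrict N fun x => hN'le x x.2)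
    have hf : T.subgroupOf N' ≤ f.ker := fun x hx =>
      (QuotientGroup.eq_one_iff _).2 (hTH _ hx)
    let fbar : Q →* ↥N ⧸ D.H.subgroupOf N := QuotientGroup.lift _ f hf
    have hsur : Function.Surjective fbar := by
      intro y
      induction y using QuotientGroup.induction_on with
      | _ y =>
        obtain ⟨x, hx, e⟩ := hN'surj y y.2
        exact ⟨((⟨x, hx⟩ : N') : Q), congrArg QuotientGroup.mk (Subtype.ext e)⟩
    haveI : Finite Q := inferInstance
    have hinj : Function.Injective fbar := by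
      have h1 := Nat.card_le_card_of_surjective fbar hsur
      have h2 : Nat.card (↥N ⧸ D.H.subgroupOf N) = D.H.relIndex N := rfl
      have h3 : Nat.card D.M.Group ≤ D.H.relIndex N := D.index
      exact (hsur.bijective_of_nat_card_le (by omega)).1
    intro x hx hxH
    have h0 : fbar ((⟨x, hx⟩ : N') : Q) = fbar 1 := by
      rw [map_one]
      exact (QuotientGroup.eq_one_iff _).2 hxH
    exact Subgroup.mem_subgroupOf.1 ((QuotientGroup.eq_one_iff (N := T.subgroupOf N') _).1 (hinj (h0.trans rfl)))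
  -- counting
  have hkT : π.ker ≤ T := by
    intro z hz
    obtain ⟨a, ha, w, hw, b, hb, e, ew⟩ := hHsurj z (by rw [hz]; exact one_mem _)
    have hw1 : π w = 1 := ew.trans hz
    have hwc := mem_center_iff.1 (hc (show w ∈ π.ker from hw1))
    have hab : π (a * b) = 1 := by
      have := congrArg π e
      rw [show π z = 1 from hz, map_mul, map_mul, hw1, mul_one] at this
      rw [map_mul]; exact this.symm
    rw [e, hwc a, mul_assoc, eq_one_of_ker π hco hU hc (mul_mem ha hb) hab, mul_one]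
    exact hN'H w hw (by rw [hw1]; exact one_mem _)
  let ρ : T →* D.H := (π.comp T.subtype).codRestrict D.H fun x => hTH x x.2
  have hρ : Function.Surjective ρ := by
    rintro ⟨y, hy⟩
    obtain ⟨x, rfl⟩ := hsurj y
    obtain ⟨a, -, w, hw, b, -, -, e⟩ := hHsurj x hy
    exact ⟨⟨w, hN'H w hw (by rw [e]; exact hy)⟩, Subtype.ext e⟩
  have hρk : Nat.card ρ.ker = Nat.card π.ker := Nat.card_congr
    { toFun := fun x => ⟨(x : T), congrArg Subtype.val x.2⟩
      invFun := fun x => ⟨⟨x, hkT x.2⟩, Subtype.ext x.2⟩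
      left_inv := fun _ => rfl
      right_inv := fun _ => rfl }
  rw [← hρk, mul_comm, ← Nat.card_congr (QuotientGroup.quotientKerEquivOfSurjective ρ hρ).toEquiv,
    ← Subgroup.card_eq_card_quotient_mul_card_subgroup]
  have h1 : Nat.card T ≤ Nat.card (∀ s, ↥(liftH π D s)) := by
    subst hT
    exact Nat.card_le_card_of_surjective _ Φ.rangeRestrict_surjective
  refine h1.trans ?_
  haveI : Finite G := Finite.of_surjective π hsurj
  rw [Nat.card_pi]
  exact Finset.prod_le_prod' fun s _ => Nat.card_le_card_of_injective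
    (fun x : ↥(liftH π D s) => (⟨π x, map_liftL_le π D s ⟨x, x.2.1, rfl⟩, x.2.2⟩ : ↥(D.L s ⊓ D.H)))
    fun x y e => Subtype.ext (hinjL s x.2.1 y.2.1 (congrArg Subtype.val e :))

end CfsgLib.Schur.RankN
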