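import Mathlib

/-!
Central extensions with kernel prime to `p` of a group with a split (B,N)-pair of rank two in
characteristic `p`: the kernel meets the subgroup generated by the lifted unipotent elements trivially
as soon as this holds in the two rank one subgroups.
-/

set_option autoImplicit false

namespace CfsgLib.Schur.RankTwo

open Subgroup
open scoped commutatorElement

universe u v

variable {G : Type u} [Group G]

/-- The data of a split (B,N)-pair of rank two used for lifting. -/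
structure Datum (p : ℕ) (G : Type u) [Group G] where
  U : Subgroup G
  H : Subgroup G
  X : Bool → Subgroup G
  n : Bool → G
  k : ℕ
  U_pgroup : IsPGroup p U
  X_le : ∀ s, X s ≤ U
  H_U : ∀ h ∈ H, ∀ u ∈ U, h * u * h⁻¹ ∈ U
  H_X : ∀ s, ∀ h ∈ H, ∀ u ∈ X s, h * u * h⁻¹ ∈ X s
  H_opp : ∀ s, ∀ h ∈ H, ∀ u ∈ X s, h * (n s * u * (n s)⁻¹) * h⁻¹ ∈ (X s).map (MulAut.conj (n s)).toMonoidHom
  n_mem : ∀ s, n s ∈ X s ⊔ (X s).map (MulAut.conj (n s)).toMonoidHom
  n_sq : ∀ s, n s * n s ∈ H
  n_H : ∀ s, ∀ h ∈ H, n s * h * (n s)⁻¹ ∈ H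
  split : ∀ s, ∀ u ∈ U, ∃ a ∈ X s, ∃ b ∈ U, n s * b * (n s)⁻¹ ∈ U ∧ u = b * a
  rankOne : ∀ s, ∀ u ∈ X s, u ≠ 1 → ∃ a ∈ X s, ∃ h ∈ H, ∃ b ∈ X s,
    n s * u * (n s)⁻¹ = a * h * n s * b
  H_gen : ∀ h ∈ H, ∃ a ∈ (X false ⊔ (X false).map (MulAut.conj (n false)).toMonoidHom) ⊓ H,
    ∃ b ∈ (X true ⊔ (X true).map (MulAut.conj (n true)).toMonoidHom) ⊓ H, h = a * b
  H_disj : Disjoint ((X false ⊔ (X false).map (MulAut.conj (n false)).toMonoidHom) ⊓ H)
    ((X true ⊔ (X true).map (MulAut.conj (n true)).toMonoidHom) ⊓ H)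
  U_inf : ∀ x ∈ closure ((H : Set G) ∪ Set.range n), x ∈ U → x = 1
  positive : ∀ x ∈ closure ((H : Set G) ∪ Set.range n), ∀ s,
    (∀ u ∈ X s, x⁻¹ * u * x ∈ U) ∨ ∀ u ∈ X s, x⁻¹ * (n s * u * (n s)⁻¹) * x ∈ U
  k_pos : 0 < k
  braid_H : (n false * n true) ^ k * ((n true * n false) ^ k)⁻¹ ∈ H
  braid_X : ∀ u ∈ X true,
    (n false * n true) ^ (k - 1) * n false * u * ((n false * n true) ^ (k - 1) * n false)⁻¹ ∈ X true
  index : 4 * k ≤ H.relIndex (closure ((H : Set G) ∪ Set.range n))
  gen : U ⊔ closure ((H : Set G) ∪ Set.range n) = ⊤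

variable {p : ℕ} {Γ : Type v} [Group Γ] (π : Γ →* G)

/-- The elements of `p`-power order over a subgroup. -/
def lift (p : ℕ) (V : Subgroup G) : Subgroup Γ :=
  closure {x | π x ∈ V ∧ ∃ j, x ^ p ^ j = 1}

theorem map_lift_le (V : Subgroup G) : (lift π p V).map π ≤ V := by
  rw [map_le_iff_le_comap, lift, closure_le]
  exact fun x hx => hx.1

theorem lift_mono {V W : Subgroup G} (h : V ≤ W) : lift π p V ≤ lift π p W :=
  closure_mono fun _ hx => ⟨h hx.1, hx.2⟩

variable [Finite Γ] [hp : Fact p.Prime]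

theorem exists_lift {V : Subgroup G} (hV : IsPGroup p V) (hsurj : Function.Surjective π) {v : G}
    (hv : v ∈ V) : ∃ x ∈ lift π p V, π x = v := by
  obtain ⟨x, hx⟩ := hsurj v
  obtain ⟨a, b, hb, hab⟩ := Nat.exists_eq_pow_mul_and_not_dvd (orderOf_pos x).ne' p hp.out.ne_one
  obtain ⟨c, hc⟩ := hV ⟨v, hv⟩
  have hc' : v ^ p ^ c = 1 := by simpa using congrArg Subtype.val hc
  obtain ⟨t, ht⟩ : ∃ t, b * t ≡ 1 [MOD p ^ c] := by
    obtain ⟨t, ht⟩ := Nat.exists_mul_mod_eq_one_of_coprime (n := b)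
      (k := p ^ (c + 1)) (((Nat.Prime.coprime_iff_not_dvd hp.out).2 hb).symm.pow_right _)
      (Nat.one_lt_pow (by omega) hp.out.one_lt)
    refine ⟨t, Nat.ModEq.of_dvd (pow_dvd_pow p (Nat.le_succ c)) ?_⟩
    show b * t % _ = _
    rw [ht.2, Nat.mod_eq_of_lt (Nat.one_lt_pow (by omega) hp.out.one_lt)]
  refine ⟨x ^ (b * t), subset_closure ⟨?_, a, ?_⟩, ?_⟩
  · rw [map_pow, hx]; exact pow_mem hv _
  · rw [← pow_mul, show b * t * p ^ a = orderOf x * t by rw [hab]; ring, pow_mul, pow_orderOf_eq_one,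
      one_pow]
  · rw [map_pow, hx]
    have h1 : orderOf v ∣ p ^ c := orderOf_dvd_of_pow_eq_one hc'
    calc v ^ (b * t) = v ^ 1 := pow_eq_pow_iff_modEq.2 (Nat.ModEq.of_dvd h1 ht)
      _ = v := pow_one v

theorem map_lift {V : Subgroup G} (hV : IsPGroup p V) (hsurj : Function.Surjective π) :
    (lift π p V).map π = V :=
  le_antisymm (map_lift_le π V) fun v hv => by
    obtain ⟨x, hx, e⟩ := exists_lift π hV hsurj hv
    exact ⟨x, hx, e⟩

theorem lift_isPGroup {V : Subgroup G} (hV : IsPGroup p V) (hc : π.ker ≤ center Γ) :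
    IsPGroup p (lift π p V) := by
  set P := V.comap π
  haveI : Finite P := inferInstance
  let f : P →* V := (π.comp P.subtype).codRestrict V fun x => x.2
  haveI : Finite f.range := Set.finite_range f |>.to_subtype
  haveI : Group.IsNilpotent f.range :=
    ((hV.of_injective f.range.subtype f.range.subtype_injective)).isNilpotent
  haveI : Group.IsNilpotent P := by
    refine Subgroup.isNilpotent_of_ker_le_center f.rangeRestrict (fun z hz => ?_)
    rw [MonoidHom.ker_rangeRestrict] at hz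
    have hz' : (z : Γ) ∈ π.ker := congrArg Subtype.val (MonoidHom.mem_ker.1 hz)
    rw [mem_center_iff]
    exact fun w => Subtype.ext (mem_center_iff.1 (hc hz') w)
  obtain ⟨S⟩ : Nonempty (Sylow p P) := inferInstance
  haveI := Sylow.normal_of_all_max_subgroups_normal (fun M hM => NormalizerCondition.normal_of_coatom M
    Group.normalizerCondition_of_isNilpotent hM) S
  refine (S.2.map P.subtype).to_le ?_
  rw [lift, closure_le]
  rintro x ⟨hx, j, hj⟩
  have hxP : IsPGroup p (zpowers (⟨x, hx⟩ : P)) := by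
    obtain ⟨i, -, hi⟩ := (Nat.dvd_prime_pow hp.out).1
      (orderOf_dvd_of_pow_eq_one (x := (⟨x, hx⟩ : P)) (n := p ^ j) (Subtype.ext (by simpa using hj)))
    exact IsPGroup.of_card (n := i) (by rw [Nat.card_zpowers, hi])
  obtain ⟨T, hT⟩ := hxP.exists_le_sylow
  haveI := Sylow.unique_of_normal S inferInstance
  rw [Subsingleton.elim T S] at hT
  exact ⟨⟨x, hx⟩, hT (mem_zpowers _), rfl⟩

variable (hco : (Nat.card π.ker).Coprime p)

include hco in
theorem eq_one_of_ker {V : Subgroup G} (hV : IsPGroup p V) (hc : π.ker ≤ center Γ) {x : Γ}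
    (hx : x ∈ lift π p V) (hk : π x = 1) : x = 1 := by
  obtain ⟨j, hj⟩ := lift_isPGroup π hV hc ⟨x, hx⟩
  have hj' : x ^ p ^ j = 1 := by simpa using congrArg Subtype.val hj
  have h1 : orderOf x ∣ p ^ j := orderOf_dvd_of_pow_eq_one hj'
  have h2 : orderOf x ∣ Nat.card π.ker := by
    have := orderOf_dvd_natCard (⟨x, hk⟩ : π.ker)
    rwa [← Subgroup.orderOf_coe] at this
  exact orderOf_eq_one_iff.1
    (Nat.eq_one_of_dvd_coprimes (hco.pow_right j) h2 h1)

include hco in
theorem lift_inj {V : Subgroup G} (hV : IsPGroup p V) (hc : π.ker ≤ center Γ) {x y : Γ}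
    (hx : x ∈ lift π p V) (hy : y ∈ lift π p V) (h : π x = π y) : x = y :=
  inv_mul_eq_one.1 (eq_one_of_ker π hco hV hc (mul_mem (inv_mem hx) hy)
    (by rw [map_mul, map_inv, h, inv_mul_cancel]))

omit [Finite Γ] hp in
theorem conj_mem_lift {V W : Subgroup G} (g : Γ) (h : ∀ v ∈ V, π g * v * (π g)⁻¹ ∈ W) {x : Γ}
    (hx : x ∈ lift π p V) : g * x * g⁻¹ ∈ lift π p W := by
  have : (lift π p V).map (MulAut.conj g).toMonoidHom ≤ lift π p W := by
    rw [map_le_iff_le_comap, lift, closure_le]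
    rintro y ⟨hy, j, hj⟩
    refine subset_closure ⟨?_, j, ?_⟩
    · show π (g * y * g⁻¹) ∈ W
      simpa using h _ hy
    · show (g * y * g⁻¹) ^ p ^ j = 1
      rw [conj_pow, hj]; group
  exact this ⟨x, hx, rfl⟩

variable (D : Datum p G)

/-- The rank one subgroups. -/
def Datum.L (s : Bool) : Subgroup G := D.X s ⊔ (D.X s).map (MulAut.conj (D.n s)).toMonoidHom

/-- The lifted rank one subgroups. -/
def liftL (s : Bool) : Subgroup Γ :=
  lift π p (D.X s) ⊔ lift π p ((D.X s).map (MulAut.conj (D.n s)).toMonoidHom)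

omit [Finite Γ] hp in
theorem map_liftL_le (s : Bool) : (liftL π D s).map π ≤ D.L s := by
  rw [liftL, Subgroup.map_sup]
  exact sup_le_sup (map_lift_le π _) (map_lift_le π _)

theorem X_pgroup (s : Bool) : IsPGroup p (D.X s) := D.U_pgroup.to_le (D.X_le s)

theorem map_liftL (hsurj : Function.Surjective π) (s : Bool) : (liftL π D s).map π = D.L s := by
  rw [liftL, Subgroup.map_sup, map_lift π (X_pgroup D s) hsurj,
    map_lift π ((X_pgroup D s).map _) hsurj]
  rfl

omit [Finite Γ] hp in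
/-- An element whose image normalises both root subgroups normalises the lifted rank one subgroup. -/
theorem conj_liftL {s : Bool} (g : Γ) (h1 : ∀ v ∈ D.X s, π g * v * (π g)⁻¹ ∈ D.X s)
    (h2 : ∀ v ∈ D.X s, π g * (D.n s * v * (D.n s)⁻¹) * (π g)⁻¹ ∈
      (D.X s).map (MulAut.conj (D.n s)).toMonoidHom) {x : Γ} (hx : x ∈ liftL π D s) :
    g * x * g⁻¹ ∈ liftL π D s := by
  have : (liftL π D s).map (MulAut.conj g).toMonoidHom ≤ liftL π D s := by
    rw [liftL, Subgroup.map_sup]
    refine sup_le_sup ?_ ?_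
    · rintro _ ⟨y, hy, rfl⟩
      exact conj_mem_lift π g h1 hy
    · rintro _ ⟨y, hy, rfl⟩
      refine conj_mem_lift π g ?_ hy
      rintro _ ⟨v, hv, rfl⟩
      exact h2 v hv
  exact this ⟨x, hx, rfl⟩

/-- The lifted torus in one rank one subgroup. -/
def liftH (s : Bool) : Subgroup Γ := liftL π D s ⊓ D.H.comap π

set_option maxHeartbeats 1600000 in
-- one long construction
/-- The kernel meets the group generated by the lifts trivially. -/
theorem ker_trivial (hsurj : Function.Surjective π) (hc : π.ker ≤ center Γ)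
    (hco : (Nat.card π.ker).Coprime p) (hperf : _root_.commutator Γ = ⊤)
    (hone : ∀ s, liftL π D s ⊓ π.ker = ⊥) : π.ker = ⊥ := by
  classical
  have hU := D.U_pgroup
  -- injectivity in a rank one subgroup
  have hinjL : ∀ s {x y : Γ}, x ∈ liftL π D s → y ∈ liftL π D s → π x = π y → x = y := by
    intro s x y hx hy h
    refine inv_mul_eq_one.1 ((mem_bot).1 ((hone s).le
      (show x⁻¹ * y ∈ liftL π D s ⊓ π.ker from mem_inf.2 ⟨mul_mem (inv_mem hx) hy, ?_⟩)))
    rw [MonoidHom.mem_ker, map_mul, map_inv, h, inv_mul_cancel]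
  have hsurjL : ∀ s, ∀ g ∈ D.L s, ∃ x ∈ liftL π D s, π x = g := by
    intro s g hg
    rw [← map_liftL π D hsurj s] at hg
    obtain ⟨x, hx, e⟩ := hg
    exact ⟨x, hx, e⟩
  choose m hmL hm using fun s => hsurjL s _ (D.n_mem s)
  -- an element over the torus normalises the rank one subgroups
  have hnorm : ∀ s (g : Γ), π g ∈ D.H → ∀ x ∈ liftL π D s, g * x * g⁻¹ ∈ liftL π D s :=
    fun s g hg x hx => conj_liftL π D g (fun v hv => D.H_X s _ hg v hv)
      (fun v hv => D.H_opp s _ hg v hv) hx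
  -- the lifted torus
  obtain ⟨T, hT⟩ : ∃ T : Subgroup Γ, T = liftH π D false ⊔ liftH π D true := ⟨_, rfl⟩
  have hTs : ∀ s, liftH π D s ≤ T := fun s => by
    rw [hT]
    cases s
    exacts [le_sup_left, le_sup_right]
  have hTH : ∀ x ∈ T, π x ∈ D.H := by
    intro x hx
    rw [hT] at hx
    exact (sup_le inf_le_right inf_le_right : liftH π D false ⊔ liftH π D true ≤ D.H.comap π) hx
  have hconjH : ∀ s, ∀ g : Γ, π g ∈ D.H → ∀ x ∈ liftH π D s, g * x * g⁻¹ ∈ liftH π D s :=
    fun s g hg x hx => ⟨hnorm s g hg x hx.1, by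
      show π (g * x * g⁻¹) ∈ D.H
      rw [map_mul, map_mul, map_inv]
      exact mul_mem (mul_mem hg hx.2) (inv_mem hg)⟩
  have hTprod : ∀ x ∈ T, ∃ a ∈ liftH π D false, ∃ b ∈ liftH π D true, x = a * b := by
    intro x hx
    have hn : liftH π D true ≤ Subgroup.normalizer (liftH π D false : Set Γ) := fun g hg => by
      rw [mem_normalizer_iff]
      exact fun y => ⟨fun hy => hconjH false g hg.2 y hy, fun hy => by
        have := hconjH false g⁻¹ (by rw [map_inv]; exact inv_mem hg.2) _ hy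
        simpa [mul_assoc] using this⟩
    have h1 : x ∈ (↑(liftH π D false ⊔ liftH π D true) : Set Γ) := hT ▸ hx
    rw [Subgroup.coe_mul_of_right_le_normalizer_left _ _ hn] at h1
    obtain ⟨a, ha, b, hb, e⟩ := h1
    exact ⟨a, ha, b, hb, e.symm⟩
  have hTinj : ∀ x ∈ T, π x = 1 → x = 1 := by
    intro x hx h
    obtain ⟨a, ha, b, hb, rfl⟩ := hTprod x hx
    rw [map_mul, mul_eq_one_iff_eq_inv] at h
    have hmem : π a ∈ D.L false ⊓ D.H :=
      ⟨map_liftL_le π D false ⟨a, ha.1, rfl⟩, ha.2⟩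
    have hmem' : π a ∈ D.L true ⊓ D.H := by
      rw [h]
      exact inv_mem ⟨map_liftL_le π D true ⟨b, hb.1, rfl⟩, hb.2⟩
    have ha1 : π a = 1 := Subgroup.disjoint_def.1 D.H_disj hmem hmem'
    have hb1 : π b = 1 := inv_eq_one.1 (h.symm.trans ha1)
    rw [hinjL false ha.1 (one_mem _) (by rw [ha1, map_one]),
      hinjL true hb.1 (one_mem _) (by rw [hb1, map_one]), one_mul]
  have hTsurj : ∀ h ∈ D.H, ∃ x ∈ T, π x = h := by
    intro h hh
    obtain ⟨a, ⟨ha, ha'⟩, b, ⟨hb, hb'⟩, rfl⟩ := D.H_gen h hh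
    obtain ⟨x, hx, rfl⟩ := hsurjL false a ha
    obtain ⟨y, hy, rfl⟩ := hsurjL true b hb
    exact ⟨x * y, mul_mem (hTs _ ⟨hx, ha'⟩) (hTs _ ⟨hy, hb'⟩), map_mul π x y⟩
  -- the lifted Weyl elements act on the torus
  have hmsq : ∀ s, m s * m s ∈ liftH π D s := fun s =>
    ⟨mul_mem (hmL s) (hmL s), by
      show π _ ∈ D.H
      rw [map_mul, hm]; exact D.n_sq s⟩
  have hmT : ∀ s, ∀ x ∈ T, m s * x * (m s)⁻¹ ∈ T := by
    intro s x hx
    have key : ∀ t, ∀ y ∈ liftH π D t, m s * y * (m s)⁻¹ ∈ T := by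
      intro t y hy
      have h1 : m s * y * (m s)⁻¹ * y⁻¹ ∈ liftH π D s := by
        constructor
        · rw [show m s * y * (m s)⁻¹ * y⁻¹ = m s * (y * (m s)⁻¹ * y⁻¹) by group]
          exact mul_mem (hmL s) (hnorm s y hy.2 _ (inv_mem (hmL s)))
        · show π _ ∈ D.H
          simp only [map_mul, map_inv, hm]
          exact mul_mem (D.n_H s _ hy.2) (inv_mem hy.2)
      have hy' : y ∈ T := hTs t hy
      have h1' : m s * y * (m s)⁻¹ * y⁻¹ ∈ T := hTs s h1
      have := mul_mem h1' hy'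
      simpa using this
    obtain ⟨a, ha, b, hb, rfl⟩ := hTprod x hx
    rw [show m s * (a * b) * (m s)⁻¹ = (m s * a * (m s)⁻¹) * (m s * b * (m s)⁻¹) by group]
    exact mul_mem (key _ a ha) (key _ b hb)
  have hsqT : ∀ s, m s * m s ∈ T := fun s => hTs s (hmsq s)
  obtain ⟨N', hN'⟩ : ∃ N' : Subgroup Γ, N' = closure ((T : Set Γ) ∪ Set.range m) := ⟨_, rfl⟩
  have hTN : T ≤ N' := fun x hx => hN' ▸ subset_closure (Set.mem_union_left _ hx)
  haveI hTn : (T.subgroupOf N').Normal := by
    refine (Subgroup.normal_subgroupOf_iff_le_normalizer hTN).2 ?_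
    rw [hN', closure_le]
    rintro g (hg | ⟨s, rfl⟩)
    · exact le_normalizer hg
    · rw [SetLike.mem_coe, mem_normalizer_iff]
      refine fun y => ⟨hmT s y, fun hy => ?_⟩
      have h2 := mul_mem (mul_mem (inv_mem (hsqT s)) (hmT s _ hy)) (hsqT s)
      convert h2 using 1
      group
  -- the braid relation
  set v := (m false * m true) ^ (D.k - 1) * m false with hv
  have hπv : π v = (D.n false * D.n true) ^ (D.k - 1) * D.n false := by simp [hv, hm]
  have hpow : (m false * m true) ^ D.k = v * m true := by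
    obtain ⟨j, hj⟩ := Nat.exists_eq_succ_of_ne_zero D.k_pos.ne'
    rw [hv, hj, Nat.succ_sub_one, pow_succ, mul_assoc]
  have hpow' : (m true * m false) ^ D.k = m true * v := by
    obtain ⟨j, hj⟩ := Nat.exists_eq_succ_of_ne_zero D.k_pos.ne'
    rw [hv, hj, Nat.succ_sub_one, pow_succ']
    have : ∀ i, m false * (m true * m false) ^ i = (m false * m true) ^ i * m false := by
      intro i
      induction i with
      | zero => simp
      | succ i ih => rw [pow_succ, ← mul_assoc, ih, pow_succ]; group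
    rw [mul_assoc, this j]
  have hbraid : (m false * m true) ^ D.k * ((m true * m false) ^ D.k)⁻¹ ∈ T := by
    rw [hpow, hpow', show v * m true * (m true * v)⁻¹ = v * m true * v⁻¹ * (m true)⁻¹ by group]
    refine hTs true (mem_inf.2 ⟨mul_mem (conj_liftL π D v ?_ ?_ (hmL true))
      (Subgroup.inv_mem _ (hmL true)), ?_⟩)
    · intro u hu; rw [hπv]; exact D.braid_X u hu
    · intro u hu
      rw [hπv]
      set w := (D.n false * D.n true) ^ (D.k - 1) * D.n false
      have hwH : w * D.n true * w⁻¹ * (D.n true)⁻¹ ∈ D.H := by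
        have h := D.braid_H
        have e1 : (D.n false * D.n true) ^ D.k = π ((m false * m true) ^ D.k) := by simp [hm]
        have e2 : (D.n true * D.n false) ^ D.k = π ((m true * m false) ^ D.k) := by simp [hm]
        rw [e1, e2, hpow, hpow', map_mul π v, map_mul π (m true) v, hπv, hm] at h
        convert h using 1
        group
      refine ⟨(D.n true)⁻¹ * (w * D.n true * w⁻¹ * (D.n true)⁻¹) * D.n true *
        (w * u * w⁻¹) * ((D.n true)⁻¹ * (w * D.n true * w⁻¹ * (D.n true)⁻¹) * D.n true)⁻¹,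
        D.H_X true _ ?_ _ (D.braid_X u hu), ?_⟩
      · have h1 := D.n_H true _ hwH
        have h2 := mul_mem (mul_mem (inv_mem (D.n_sq true)) h1) (D.n_sq true)
        convert h2 using 1
        group
      · simp only [MulEquiv.coe_toMonoidHom, MulAut.conj_apply]
        group
    · show π _ ∈ D.H
      have h := D.braid_H
      rw [show (D.n false * D.n true) ^ D.k = π ((m false * m true) ^ D.k) by simp [hm],
        show (D.n true * D.n false) ^ D.k = π ((m true * m false) ^ D.k) by simp [hm], hpow, hpow',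
        map_mul π v, map_mul π (m true) v] at h
      simp only [map_mul π (v * m true * v⁻¹) _, map_mul π (v * m true) _, map_mul π v _, map_inv]
      convert h using 1
      group
  -- counting
  set Q := ↥N' ⧸ T.subgroupOf N'
  have hmem : ∀ s, m s ∈ N' := fun s => hN' ▸ subset_closure (Or.inr ⟨s, rfl⟩)
  let g : Bool → Q := fun s => ((⟨m s, hmem s⟩ : N') : Q)
  have hg2 : ∀ s, g s * g s = 1 := fun s => (QuotientGroup.eq_one_iff _).2 (hsqT s)
  set r := g false * g true with hr
  have hr2k : r ^ (2 * D.k) = 1 := by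
    have h1 : r ^ D.k * ((g true * g false) ^ D.k)⁻¹ = 1 := by
      rw [hr]
      exact (QuotientGroup.eq_one_iff
        ((⟨m false, hmem _⟩ * ⟨m true, hmem _⟩ : N') ^ D.k *
          ((⟨m true, hmem _⟩ * ⟨m false, hmem _⟩ : N') ^ D.k)⁻¹)).2 (by
        show _ ∈ T
        simpa using hbraid)
    have h2 : g true * g false = r⁻¹ := by
      rw [hr, _root_.mul_inv_rev, inv_eq_of_mul_eq_one_right (hg2 false),
        inv_eq_of_mul_eq_one_right (hg2 true)]
    rw [h2, inv_pow, inv_inv] at h1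
    rw [two_mul, pow_add, h1]
  let F : Fin (2 * D.k) × Bool → Q := fun ie => r ^ (ie.1 : ℕ) * (if ie.2 then g false else 1)
  have hFr : ∀ (i : ℕ) (e : Bool), r ^ i * (if e then g false else 1) ∈ Set.range F := fun i e =>
    ⟨(⟨i % (2 * D.k), Nat.mod_lt _ (by have := D.k_pos; omega)⟩, e), by
      show r ^ (i % (2 * D.k)) * _ = _
      rw [← pow_eq_pow_mod i hr2k]⟩
  have hall : ∀ q : Q, q ∈ Set.range F := by
    have hmul : ∀ s, ∀ q ∈ Set.range F, g s * q ∈ Set.range F := by
      rintro s _ ⟨⟨i, e⟩, rfl⟩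
      have hflip : ∀ j : ℕ, g false * r ^ j = r ^ ((2 * D.k - 1) * j) * g false := by
        intro j
        have hinv : r ^ (2 * D.k - 1) = r⁻¹ := by
          rw [eq_inv_iff_mul_eq_one, ← pow_succ, show 2 * D.k - 1 + 1 = 2 * D.k from by
            have := D.k_pos; omega, hr2k]
        rw [pow_mul, hinv]
        induction j with
        | zero => simp
        | succ j ih =>
          rw [pow_succ, ← mul_assoc, ih, pow_succ r⁻¹, hr, _root_.mul_inv_rev,
            inv_eq_of_mul_eq_one_right (hg2 false), inv_eq_of_mul_eq_one_right (hg2 true)]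
          simp only [mul_assoc]
          rw [← mul_assoc (g false) (g false) (g true), hg2, one_mul, mul_one]
      cases s
      · show g false * (r ^ (i : ℕ) * _) ∈ _
        rw [← mul_assoc, hflip]
        cases e
        · simpa using hFr _ true
        · simp only [if_true, mul_assoc, hg2, mul_one]
          simpa using hFr _ false
      · show g true * (r ^ (i : ℕ) * _) ∈ _
        have e1 : g true = g false * r := by rw [hr, ← mul_assoc, hg2, one_mul]
        rw [e1, mul_assoc, ← mul_assoc r, ← pow_succ', ← mul_assoc, hflip]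
        cases e
        · simpa using hFr _ true
        · simp only [if_true, mul_assoc, hg2, mul_one]
          simpa using hFr _ false
    intro q
    induction q using QuotientGroup.induction_on with
    | _ x =>
      obtain ⟨x, hx⟩ := x
      suffices ∀ y ∈ Set.range F, ((⟨x, hx⟩ : N') : Q) * y ∈ Set.range F by
        simpa using this 1 ⟨(⟨0, by have := D.k_pos; omega⟩, false), by simp [F]⟩
      have hx' : x ∈ closure ((T : Set Γ) ∪ Set.range m) := hN' ▸ hx
      suffices H : ∀ (hx : x ∈ N'), ∀ y ∈ Set.range F, ((⟨x, hx⟩ : N') : Q) * y ∈ Set.range F from H hx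
      clear hx
      induction hx' using closure_induction with
      | mem y hy =>
        intro hy0
        rcases hy with hy | ⟨s, rfl⟩
        · intro q hq
          rw [(QuotientGroup.eq_one_iff _).2 (show (⟨y, _⟩ : N') ∈ T.subgroupOf N' from hy), one_mul]
          exact hq
        · exact hmul s
      | one =>
        intro h1 q hq
        rw [show ((⟨1, h1⟩ : N') : Q) = 1 from rfl, one_mul]
        exact hq
      | mul a b ha hb iha ihb =>
        intro hab q hq
        have ha' : a ∈ N' := hN' ▸ ha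
        have hb' : b ∈ N' := hN' ▸ hb
        have : ((⟨a * b, hab⟩ : N') : Q) = ((⟨a, ha'⟩ : N') : Q) * ((⟨b, hb'⟩ : N') : Q) := rfl
        rw [this, mul_assoc]
        exact iha ha' _ (ihb hb' q hq)
      | inv a ha iha =>
        intro hai q hq
        have ha' : a ∈ N' := hN' ▸ ha
        obtain ⟨j, hj⟩ : ∃ j : ℕ, a⁻¹ = a ^ j :=
          ⟨orderOf a - 1, inv_eq_of_mul_eq_one_right (by
            rw [← pow_succ', Nat.sub_add_cancel (orderOf_pos a), pow_orderOf_eq_one])⟩
        have : ((⟨a⁻¹, hai⟩ : N') : Q) = ((⟨a, ha'⟩ : N') : Q) ^ j := by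
          rw [← QuotientGroup.mk_pow]
          exact congrArg _ (Subtype.ext hj)
        rw [this]
        clear this hj
        induction j with
        | zero => simpa using hq
        | succ j ih => rw [pow_succ', mul_assoc]; exact iha ha' _ ih
  have hcardQ : Nat.card Q ≤ 4 * D.k := by
    refine (Nat.card_le_card_of_surjective F fun q => hall q).trans ?_
    simp [Nat.card_prod]; omega
  set N := closure ((D.H : Set G) ∪ Set.range D.n)
  have hN'le : ∀ x ∈ N', π x ∈ N := by
    intro x hx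
    have : N' ≤ N.comap π := by
      rw [hN', closure_le]
      rintro y (hy | ⟨s, rfl⟩)
      · exact subset_closure (Or.inl (hTH y hy))
      · exact subset_closure (Or.inr ⟨s, (hm s).symm⟩)
    exact this hx
  have hN'surj : ∀ y ∈ N, ∃ x ∈ N', π x = y := by
    intro y hy
    have : N ≤ N'.map π := by
      rw [closure_le]
      rintro z (hz | ⟨s, rfl⟩)
      · obtain ⟨x, hx, e⟩ := hTsurj z hz
        exact ⟨x, hTN hx, e⟩
      · exact ⟨m s, hmem s, hm s⟩
    exact this hy
  have hN'H : ∀ x ∈ N', π x ∈ D.H → x ∈ T := by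
    haveI : (D.H.subgroupOf N).Normal := by
      have hHN : D.H ≤ N := fun x hx => subset_closure (Set.mem_union_left _ hx)
      refine (Subgroup.normal_subgroupOf_iff_le_normalizer hHN).2 ?_
      rw [closure_le]
      rintro z (hz | ⟨s, rfl⟩)
      · exact le_normalizer hz
      · rw [SetLike.mem_coe, mem_normalizer_iff]
        refine fun y => ⟨D.n_H s y, fun hy => ?_⟩
        have h2 := mul_mem (mul_mem (inv_mem (D.n_sq s)) (D.n_H s _ hy)) (D.n_sq s)
        convert h2 using 1
        group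
    let f : N' →* ↥N ⧸ D.H.subgroupOf N :=
      (QuotientGroup.mk' _).comp ((π.comp N'.subtype).codRestrict N fun x => hN'le x x.2)
    have hf : T.subgroupOf N' ≤ f.ker := fun x hx =>
      (QuotientGroup.eq_one_iff _).2 (hTH _ hx)
    let fbar : Q →* ↥N ⧸ D.H.subgroupOf N := QuotientGroup.lift _ f hf
    have hsur : Function.Surjective fbar := by
      intro y
      induction y using QuotientGroup.induction_on with
      | _ y =>
        obtain ⟨x, hx, e⟩ := hN'surj y y.2
        exact ⟨((⟨x, hx⟩ : N') : Q), congrArg QuotientGroup.mk (Subtype.ext e)⟩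
    haveI : Finite Q := inferInstance
    have hinj : Function.Injective fbar := by
      have h1 := Nat.card_le_card_of_surjective fbar hsur
      have h2 : Nat.card (↥N ⧸ D.H.subgroupOf N) = D.H.relIndex N := rfl
      have h3 : 4 * D.k ≤ D.H.relIndex N := D.index
      exact (hsur.bijective_of_nat_card_le (by omega)).1
    intro x hx hxH
    have h0 : fbar ((⟨x, hx⟩ : N') : Q) = fbar 1 := by
      rw [map_one]
      exact (QuotientGroup.eq_one_iff _).2 hxH
    exact Subgroup.mem_subgroupOf.1 ((QuotientGroup.eq_one_iff (N := T.subgroupOf N') _).1 (hinj (h0.trans rfl)))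
  -- the big cell decomposition
  set Ut := lift π p D.U with hUt
  set C : Set Γ := {x | ∃ a ∈ Ut, ∃ w ∈ N', ∃ b ∈ Ut, x = a * w * b}
  have hUT : ∀ x : Γ, π x ∈ D.H → ∀ u ∈ Ut, x * u * x⁻¹ ∈ Ut := fun x hx u hu =>
    conj_mem_lift π x (fun v hv => D.H_U _ hx v hv) hu
  have hXU : ∀ s, lift π p (D.X s) ≤ Ut := fun s => lift_mono π (D.X_le s)
  have hT' : ∀ x ∈ T, x ∈ N' := hTN
  have hCU : ∀ a ∈ Ut, ∀ x ∈ C, a * x ∈ C := by
    rintro a ha _ ⟨a', ha', w, hw, b, hb, rfl⟩
    exact ⟨a * a', mul_mem ha ha', w, hw, b, hb, by group⟩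
  have hCT : ∀ t ∈ T, ∀ x ∈ C, t * x ∈ C := by
    rintro t ht _ ⟨a', ha', w, hw, b, hb, rfl⟩
    exact ⟨t * a' * t⁻¹, hUT t (hTH t ht) _ ha', t * w, mul_mem (hT' t ht) hw, b, hb, by group⟩
  have hcase : ∀ s, ∀ c ∈ lift π p (D.X s), ∀ w ∈ N', (∀ u ∈ D.X s, (π w)⁻¹ * u * π w ∈ D.U) →
      ∀ b ∈ Ut, m s * c * w * b ∈ C := by
    intro s c hc' w hw h b hb
    refine ⟨1, one_mem _, m s * w, mul_mem (hmem s) hw, w⁻¹ * c * w * b, mul_mem ?_ hb, by group⟩
    have := conj_mem_lift π (W := D.U) w⁻¹ (fun v hv => by simpa using h v hv) hc'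
    simpa using this
  have hCm : ∀ s, ∀ x ∈ C, m s * x ∈ C := by
    rintro s _ ⟨u, hu, w, hw, b, hb, rfl⟩
    obtain ⟨a₀, ha₀, b₀, hb₀, hbU, he⟩ := D.split s (π u) (map_lift_le π _ ⟨u, hu, rfl⟩)
    obtain ⟨c, hc', ec⟩ := exists_lift π (X_pgroup D s) hsurj ha₀
    obtain ⟨d, hd, ed⟩ := exists_lift π hU hsurj hb₀
    have eu : u = d * c := lift_inj π hco hU hc hu (mul_mem hd (hXU s hc'))
      (by rw [map_mul, ec, ed, ← he])
    have hd1 : m s * d * (m s)⁻¹ ∈ Ut := by
      have hP : IsPGroup p ↥(D.U ⊓ D.U.comap (MulAut.conj (D.n s)).toMonoidHom) :=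
        hU.to_le inf_le_left
      obtain ⟨d₂, hd₂, ed₂⟩ := exists_lift π hP hsurj (v := b₀) ⟨hb₀, by simpa using hbU⟩
      have hK : d ∈ lift π p (D.U ⊓ D.U.comap (MulAut.conj (D.n s)).toMonoidHom) := by
        rwa [lift_inj π hco hU hc hd (lift_mono π inf_le_left hd₂) (by rw [ed, ed₂])]
      exact conj_mem_lift π (W := D.U) (m s) (fun v hv => by simpa [hm] using hv.2) hK
    rw [eu, show m s * (d * c * w * b) = m s * d * (m s)⁻¹ * (m s * c * w * b) by
      simp only [mul_assoc, inv_mul_cancel_left]]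
    refine hCU _ hd1 _ ?_
    rcases D.positive (π w) (hN'le w hw) s with hpos | hneg
    · exact hcase s c hc' w hw hpos b hb
    by_cases h1 : π c = 1
    · rw [eq_one_of_ker π hco (X_pgroup D s) hc hc' h1, mul_one]
      exact ⟨1, one_mem _, m s * w, mul_mem (hmem s) hw, b, hb, by group⟩
    obtain ⟨a, ha, h, hh, b', hb', eq1⟩ := D.rankOne s (π c) (map_lift_le π _ ⟨c, hc', rfl⟩) h1
    obtain ⟨A, hA, eA⟩ := exists_lift π (X_pgroup D s) hsurj ha
    obtain ⟨B, hB, eB⟩ := exists_lift π (X_pgroup D s) hsurj hb'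
    have hA' : A ∈ liftL π D s := mem_sup_left hA
    have hB' : B ∈ liftL π D s := mem_sup_left hB
    have hC' : c ∈ liftL π D s := mem_sup_left hc'
    set t := A⁻¹ * (m s * c * (m s)⁻¹) * B⁻¹ * (m s)⁻¹ with ht
    have htH : t ∈ liftH π D s := by
      refine mem_inf.2 ⟨mul_mem (mul_mem (mul_mem (Subgroup.inv_mem _ hA') (mul_mem (mul_mem (hmL s) hC')
        (Subgroup.inv_mem _ (hmL s)))) (Subgroup.inv_mem _ hB')) (Subgroup.inv_mem _ (hmL s)), ?_⟩
      show π t ∈ D.H
      rw [ht]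
      simp only [map_mul, map_inv, hm, eA, eB, eq1]
      convert hh using 1
      group
    have htT : t ∈ T := hTs s htH
    rw [show m s * c * w * b = A * (t * (m s * B * (m s * w) * b)) by rw [ht]; group]
    refine hCU _ (hXU s hA) _ (hCT t htT _ ?_)
    refine hcase s B hB (m s * w) (mul_mem (hmem s) hw) (fun x hx => ?_) b hb
    rw [map_mul, hm]
    have h2 := hneg _ (D.H_X s _ (inv_mem (D.n_sq s)) x hx)
    convert h2 using 1
    group
  -- everything lifts into the cells
  set Γ' : Subgroup Γ := Ut ⊔ N'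
  have hΓC : ∀ x ∈ Γ', ∀ y ∈ C, x * y ∈ C := by
    have hN'C : ∀ x ∈ N', ∀ y ∈ C, x * y ∈ C := by
      intro x hx
      rw [hN'] at hx
      induction hx using closure_induction with
      | mem z hz =>
        rcases hz with hz | ⟨s, rfl⟩
        · exact hCT z hz
        · exact hCm s
      | one => intro y hy; rwa [one_mul]
      | mul a b _ _ iha ihb => intro y hy; rw [mul_assoc]; exact iha _ (ihb y hy)
      | inv a _ iha =>
        intro y hy
        obtain ⟨j, hj⟩ : ∃ j : ℕ, a⁻¹ = a ^ j :=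
          ⟨orderOf a - 1, inv_eq_of_mul_eq_one_right (by
            rw [← pow_succ', Nat.sub_add_cancel (orderOf_pos a), pow_orderOf_eq_one])⟩
        rw [hj]
        clear hj
        induction j with
        | zero => simpa using hy
        | succ j ih => rw [pow_succ', mul_assoc]; exact iha _ ih
    intro x hx
    rw [show Γ' = Ut ⊔ N' from rfl, sup_eq_closure] at hx
    induction hx using closure_induction with
    | mem z hz =>
      rcases hz with hz | hz
      · exact hCU z hz
      · exact hN'C z hz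
    | one => intro y hy; rwa [one_mul]
    | mul a b _ _ iha ihb => intro y hy; rw [mul_assoc]; exact iha _ (ihb y hy)
    | inv a _ iha =>
      intro y hy
      obtain ⟨j, hj⟩ : ∃ j : ℕ, a⁻¹ = a ^ j :=
        ⟨orderOf a - 1, inv_eq_of_mul_eq_one_right (by
          rw [← pow_succ', Nat.sub_add_cancel (orderOf_pos a), pow_orderOf_eq_one])⟩
      rw [hj]
      clear hj
      induction j with
      | zero => simpa using hy
      | succ j ih => rw [pow_succ', mul_assoc]; exact iha _ ih
  have htriv : ∀ z ∈ Γ', π z = 1 → z = 1 := by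
    intro z hz h1
    obtain ⟨a, ha, w, hw, b, hb, e⟩ :=
      hΓC z hz 1 ⟨1, one_mem _, 1, one_mem _, 1, one_mem _, by group⟩
    rw [mul_one] at e
    have hwU : π w ∈ D.U := by
      have h2 : π w = (π a)⁻¹ * (π b)⁻¹ := by
        rw [e, map_mul, map_mul] at h1
        rw [eq_inv_mul_iff_mul_eq, eq_inv_iff_mul_eq_one, h1]
      rw [h2]
      exact mul_mem (inv_mem (map_lift_le π _ ⟨a, ha, rfl⟩)) (inv_mem (map_lift_le π _ ⟨b, hb, rfl⟩))
    have hw1 := D.U_inf _ (hN'le w hw) hwU
    have hwT : w ∈ T := hN'H w hw (by rw [hw1]; exact one_mem _)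
    rw [hTinj w hwT hw1, mul_one] at e
    rw [e] at h1 ⊢
    exact eq_one_of_ker π hco hU hc (mul_mem ha hb) h1
  -- perfectness
  have hall' : ∀ x : Γ, ∃ y ∈ Γ', ∃ z ∈ π.ker, x = y * z := by
    intro x
    have hx : π x ∈ Γ'.map π := by
      have : D.U ⊔ N ≤ Γ'.map π := by
        refine sup_le ?_ ?_
        · rw [← map_lift π hU hsurj]; exact Subgroup.map_mono le_sup_left
        · intro y hy
          obtain ⟨w, hw, ew⟩ := hN'surj y hy
          exact ⟨w, mem_sup_right hw, ew⟩
      exact this (D.gen.ge trivial)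
    obtain ⟨y, hy, e⟩ := hx
    exact ⟨y, hy, y⁻¹ * x, by rw [MonoidHom.mem_ker, map_mul, map_inv, e, inv_mul_cancel], by group⟩
  have htop : _root_.commutator Γ ≤ Γ' := by
    rw [_root_.commutator_def, commutator_le]
    intro x _ y _
    obtain ⟨a, ha, z, hz, rfl⟩ := hall' x
    obtain ⟨b, hb, w, hw, rfl⟩ := hall' y
    have hz' := mem_center_iff.1 (hc hz)
    have hw' := mem_center_iff.1 (hc hw)
    have : ⁅a * z, b * w⁆ = ⁅a, b⁆ := by
      simp only [commutatorElement_def, _root_.mul_inv_rev]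
      calc a * z * (b * w) * (z⁻¹ * a⁻¹) * (w⁻¹ * b⁻¹)
          = a * (z * (b * w) * z⁻¹) * a⁻¹ * (w⁻¹ * b⁻¹) := by group
        _ = a * (b * w) * a⁻¹ * (w⁻¹ * b⁻¹) := by rw [← hz', mul_inv_cancel_right]
        _ = a * b * (w * a⁻¹ * w⁻¹) * b⁻¹ := by group
        _ = a * b * a⁻¹ * b⁻¹ := by rw [← hw', mul_inv_cancel_right]
    rw [this, commutatorElement_def]
    exact mul_mem (mul_mem (mul_mem ha hb) (inv_mem ha)) (inv_mem hb)
  rw [eq_bot_iff]
  intro z hz
  exact mem_bot.2 (htriv z (htop (hperf.ge trivial)) hz)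

end CfsgLib.Schur.RankTwo
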